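import Mathlib.RingTheory.Smooth.NoetherianDescent
import Mathlib.RingTheory.Smooth.Flat
import Mathlib.RingTheory.Smooth.Field
import Mathlib.RingTheory.Flat.FaithfullyFlat.Algebra
import Mathlib.RingTheory.TensorProduct.Pi
import Mathlib.RingTheory.Smooth.StandardSmoothCotangent
import Mathlib.RingTheory.Unramified.Field
import Groth.Agent.WC97.Reduced

/-! Smooth algebras over reduced rings are reduced. -/

set_option autoImplicit false
universe u

open TensorProduct

namespace Groth.Agent.CAlg5

theorem isReduced_of_smooth_noetherian {A T : Type u} [CommRing A] [IsNoetherianRing A]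
    [IsReduced A] [CommRing T] [Algebra A T] [Algebra.Smooth A T] : IsReduced T := by
  classical
  have := (minimalPrimes.finite_of_isNoetherianRing A).to_subtype
  have hprime : ∀ p : minimalPrimes A, p.1.IsPrime := fun p ↦ p.2.1.1
  let π : A →ₐ[A] ∀ p : minimalPrimes A, p.1.ResidueField := AlgHom.pi fun p ↦ Algebra.ofId _ _
  have hπ : Function.Injective π := by
    rw [injective_iff_map_eq_zero]
    intro a ha
    refine (mem_nilradical.mp ?_).eq_zero
    rw [nilradical, ← Ideal.sInf_minimalPrimes]
    refine Submodule.mem_sInf.mpr fun p hp ↦ ?_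
    have := hprime ⟨p, hp⟩
    rw [← Ideal.ker_algebraMap_residueField p, RingHom.mem_ker]
    exact congr_fun ha ⟨p, hp⟩
  have : Fintype (minimalPrimes A) := Fintype.ofFinite _
  have : Module.Flat A T := inferInstance
  let Φ : T →+* ∀ p : minimalPrimes A, T ⊗[A] p.1.ResidueField :=
    RingHom.pi fun p ↦ Algebra.TensorProduct.includeLeftRingHom
  have hΦ : Function.Injective Φ := by
    rw [injective_iff_map_eq_zero]
    intro x hx
    have h1 : Algebra.TensorProduct.piRight A A T (fun p : minimalPrimes A ↦ p.1.ResidueField)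
        (x ⊗ₜ π 1) = 0 := by
      rw [Algebra.TensorProduct.piRight_tmul]
      ext p
      simpa [π, Φ, RingHom.pi_apply] using congr_fun hx p
    rw [map_eq_zero_iff _ (AlgEquiv.injective _)] at h1
    have h2 : π.toLinearMap.lTensor T (x ⊗ₜ 1) = 0 := h1
    rw [map_eq_zero_iff _ (Module.Flat.lTensor_preserves_injective_linearMap (M := T)
      π.toLinearMap hπ)] at h2
    simpa using congr(TensorProduct.rid A T $h2)
  have (p : minimalPrimes A) : IsReduced (T ⊗[A] p.1.ResidueField) :=
    have := WC97.isReduced_of_algebraSmooth p.1.ResidueField (p.1.ResidueField ⊗[A] T)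
    isReduced_of_injective (Algebra.TensorProduct.comm A T p.1.ResidueField)
      (AlgEquiv.injective _)
  exact isReduced_of_injective Φ hΦ

theorem isReduced_of_smooth {A T : Type u} [CommRing A] [IsReduced A] [CommRing T] [Algebra A T]
    [Algebra.Smooth A T] : IsReduced T := by
  classical
  obtain ⟨A₀, B₀, _, _, hA₀, hB₀, ⟨e⟩⟩ := Algebra.Smooth.exists_subalgebra_fg ℤ A T
  suffices IsReduced (A ⊗[A₀] B₀) from isReduced_of_injective e e.injective
  refine ⟨fun x hx ↦ ?_⟩
  obtain ⟨s, hs⟩ := TensorProduct.exists_finset x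
  let A₁ : Subalgebra A₀ A := Algebra.adjoin A₀ ((s.image Prod.fst : Finset A) : Set A)
  have : Algebra.FiniteType A₀ A₁ := (Subalgebra.fg_iff_finiteType A₁).mp
    ⟨s.image Prod.fst, rfl⟩
  have : Algebra.FiniteType ℤ A₀ := (Subalgebra.fg_iff_finiteType A₀).mp hA₀
  have : IsNoetherianRing A₀ := Algebra.FiniteType.isNoetherianRing ℤ A₀
  have : IsNoetherianRing A₁ := Algebra.FiniteType.isNoetherianRing A₀ A₁
  have : IsReduced A₁ := isReduced_of_injective A₁.val Subtype.val_injective
  have : Module.Flat A₀ B₀ := inferInstance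
  have h₁ := isReduced_of_smooth_noetherian (A := A₁) (T := A₁ ⊗[A₀] B₀)
  let ι : A₁ ⊗[A₀] B₀ →ₐ[A₀] A ⊗[A₀] B₀ := Algebra.TensorProduct.map A₁.val (.id _ _)
  have hι : Function.Injective ι :=
    Module.Flat.rTensor_preserves_injective_linearMap (M := B₀) A₁.val.toLinearMap
      Subtype.val_injective
  obtain ⟨y, rfl⟩ : x ∈ Set.range ι := by
    rw [hs]
    refine ι.range.sum_mem fun i hi ↦ ?_
    exact ⟨⟨i.1, Algebra.subset_adjoin (Finset.mem_image_of_mem _ hi)⟩ ⊗ₜ i.2, rfl⟩
  rw [(IsNilpotent.map_iff hι).mp hx |>.eq_zero, map_zero]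

end Groth.Agent.CAlg5
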