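import Mathlib
import Groth.Prelude.Def_CAlg
import Groth.Agent.CAlg1.SkFlat
import Groth.Agent.CAlg1.Serre
import Groth.Agent.EGA4H10.FlatHeight

/-! Regularity and Serre's conditions descend along faithfully flat maps. -/

open IsLocalRing

universe u

namespace Groth.Agent.CAlg5

open Groth.Agent.EGA4Alg4 Groth.Agent.EGA4H10 Groth.Agent.CAlg1

variable (R S : Type u) [CommRing R] [CommRing S] [Algebra R S] [Module.FaithfullyFlat R S]

theorem isNoetherianRing_of_faithfullyFlat [IsNoetherianRing S] : IsNoetherianRing R := by
  rw [isNoetherianRing_iff, isNoetherian_iff']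
  exact StrictMono.wellFoundedGT (f := Ideal.map (algebraMap R S)) (Monotone.strictMono_of_injective
    (fun _ _ h => Ideal.map_mono h) (Function.LeftInverse.injective (g := Ideal.comap (algebraMap R S))
      fun I => Ideal.comap_map_eq_self_of_faithfullyFlat I))

/-- above every prime there is a prime minimal over its extension -/
theorem exists_minimal_over (p : Ideal R) [p.IsPrime] :
    ∃ (Q : Ideal S) (_ : Q.IsPrime) (_ : Q.LiesOver p), Q ∈ (p.map (algebraMap R S)).minimalPrimes := by
  obtain ⟨⟨Q0, hQ0⟩, h0⟩ := PrimeSpectrum.comap_surjective_of_faithfullyFlat (A := R) (B := S) ⟨p, ‹_›⟩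
  have h0' : Q0.comap (algebraMap R S) = p := congrArg PrimeSpectrum.asIdeal h0
  obtain ⟨Q, hQ, hQQ0⟩ := Ideal.exists_minimalPrimes_le (I := p.map (algebraMap R S)) (J := Q0)
    (Ideal.map_le_iff_le_comap.mpr h0'.ge)
  exact ⟨Q, hQ.1.1, ⟨le_antisymm (Ideal.map_le_iff_le_comap.mp hQ.1.2)
    ((Ideal.comap_mono hQQ0).trans h0'.le)⟩, hQ⟩

theorem height_of_minimal_over [IsNoetherianRing S] (p : Ideal R) [p.IsPrime] (Q : Ideal S) [Q.IsPrime]
    [Q.LiesOver p] (hQ : Q ∈ (p.map (algebraMap R S)).minimalPrimes) : Q.height = p.height := by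
  have := isNoetherianRing_of_faithfullyFlat R S
  rw [Ideal.height_eq_height_add_of_liesOver_of_hasGoingDown p Q, height_map_quotient_of_minimal hQ,
    add_zero]

theorem regular_localization_of_faithfullyFlat [IsNoetherianRing S] (p : Ideal R) [p.IsPrime]
    (Q : Ideal S) [Q.IsPrime] [Q.LiesOver p] (h : IsRegularLocalRing (Localization.AtPrime Q)) :
    IsRegularLocalRing (Localization.AtPrime p) := by
  have := isNoetherianRing_of_faithfullyFlat R S
  have : IsNoetherianRing (Localization.AtPrime p) := IsLocalization.isNoetherianRing p.primeCompl _ inferInstance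
  let := Localization.AtPrime.algebraOfLiesOver p Q
  have : IsLocalHom (algebraMap (Localization.AtPrime p) (Localization.AtPrime Q)) :=
    Localization.isLocalHom_localRingHom p Q _ _
  exact regular_of_flat (Localization.AtPrime p) (Localization.AtPrime Q)

theorem isRegularRing_of_faithfullyFlat [IsRegularRing S] : IsRegularRing R := by
  have := isNoetherianRing_of_faithfullyFlat R S
  refine { isRegularLocalRing_localization := fun p _ => ?_ }
  obtain ⟨Q, _, _, -⟩ := exists_minimal_over R S p
  exact regular_localization_of_faithfullyFlat R S p Q (IsRegularRing.isRegularLocalRing_localization Q)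

theorem hasRk_of_faithfullyFlat [IsNoetherianRing S] (k : ℕ) (hS : LocCoh.HasRk k S) :
    LocCoh.HasRk k R := by
  intro p _ hp
  obtain ⟨Q, _, _, hQ⟩ := exists_minimal_over R S p
  exact regular_localization_of_faithfullyFlat R S p Q (hS Q (by rw [height_of_minimal_over R S p Q hQ]; exact hp))

theorem hasSk_of_faithfullyFlat [IsNoetherianRing S] (k : ℕ) (hS : LocCoh.HasSk k S S) :
    LocCoh.HasSk k R R := by
  have := isNoetherianRing_of_faithfullyFlat R S
  rw [hasSk_self_iff] at hS ⊢
  intro p _
  obtain ⟨Q, _, _, hQ⟩ := exists_minimal_over R S p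
  let A := Localization.AtPrime p
  let B := Localization.AtPrime Q
  let := Localization.AtPrime.algebraOfLiesOver p Q
  have : IsNoetherianRing A := IsLocalization.isNoetherianRing p.primeCompl _ inferInstance
  have : IsNoetherianRing B := IsLocalization.isNoetherianRing Q.primeCompl _ inferInstance
  have : IsLocalHom (algebraMap A B) := Localization.isLocalHom_localRingHom p Q _ _
  have : Module.Flat A B := inferInstance
  have key := hS Q
  rw [height_of_minimal_over R S p Q hQ, depth_of_flat_local A B] at key
  have hz : LocCoh.depth B (B ⧸ (maximalIdeal A).map (algebraMap A B)) = 0 := by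
    set J := (maximalIdeal A).map (algebraMap A B)
    have hJ : J ≤ maximalIdeal B := map_maximalIdeal_le (algebraMap A B)
    have : Nontrivial (B ⧸ J) := Ideal.Quotient.nontrivial_iff.mpr
      fun h => (maximalIdeal.isMaximal B).ne_top (top_le_iff.mp (h ▸ hJ))
    have : Ring.KrullDimLE 0 (B ⧸ J) := by
      refine Ring.krullDimLE_zero_iff.mpr fun I hI => ?_
      have hP : (I.comap (Ideal.Quotient.mk J)).IsPrime := Ideal.IsPrime.comap _
      have hJP : J ≤ I.comap (Ideal.Quotient.mk J) := fun x hx => by
        rw [Ideal.mem_comap, Ideal.Quotient.eq_zero_iff_mem.mpr hx]; exact zero_mem _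
      have h1 : I.comap (Ideal.Quotient.mk J) = maximalIdeal B := by
        refine le_antisymm (le_maximalIdeal hP.ne_top) ?_
        have h2 : Q ≤ (I.comap (Ideal.Quotient.mk J)).comap (algebraMap S B) := by
          refine hQ.2 ⟨Ideal.IsPrime.comap _, ?_⟩ ?_
          · refine Ideal.map_le_iff_le_comap.mpr fun x hx => ?_
            show algebraMap S B (algebraMap R S x) ∈ I.comap (Ideal.Quotient.mk J)
            rw [← IsScalarTower.algebraMap_apply, IsScalarTower.algebraMap_apply R A B]
            refine hJP (Ideal.mem_map_of_mem _ ?_)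
            rw [← Localization.AtPrime.map_eq_maximalIdeal]
            exact Ideal.mem_map_of_mem _ hx
          · exact (Ideal.comap_mono (le_maximalIdeal hP.ne_top)).trans_eq
              (IsLocalization.AtPrime.under_maximalIdeal B Q)
        rw [← Localization.AtPrime.map_eq_maximalIdeal]
        exact Ideal.map_le_iff_le_comap.mpr h2
      have := (maximalIdeal.isMaximal B)
      rw [← h1] at this
      have h3 := Ideal.map_comap_of_surjective _ Ideal.Quotient.mk_surjective I
      rw [← h3]
      exact (Ideal.map_eq_top_or_isMaximal_of_surjective _ Ideal.Quotient.mk_surjective this).resolve_left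
        (by rw [h3]; exact hI.ne_top)
    have hle := depth_le_supportDim (A := B) (M := B ⧸ J)
    rw [Module.supportDim_quotient_eq_ringKrullDim] at hle
    have h0 : ((LocCoh.depth B (B ⧸ J) : ℕ∞) : WithBot ℕ∞) ≤ 0 :=
      hle.trans (Ring.krullDimLE_iff.mp ‹Ring.KrullDimLE 0 (B ⧸ J)›)
    exact le_zero_iff.mp (WithBot.coe_le_coe.mp h0)
  rw [hz, add_zero] at key
  exact key

end Groth.Agent.CAlg5
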