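import Groth.Agent.CAlg5.ColimDescent
import Mathlib.RingTheory.Etale.Basic
import Mathlib.RingTheory.Smooth.Basic
import Mathlib.RingTheory.Ideal.Operations

set_option autoImplicit false

universe u v

namespace Groth.Agent.CAlg5.ColimSys

open TensorProduct

variable {R : Type u} [CommRing R] {ι : Type v} {G : ι → Type u} [∀ i, CommRing (G i)]
  [∀ i, Algebra R (G i)] {A : Type u} [CommRing A] [Algebra R A] {g : ∀ i, G i →ₐ[R] A}
  (C : Type u) [CommRing C] [Algebra R C]

variable {n : ℕ} {f : MvPolynomial (Fin n) R →ₐ[R] C} {T : Finset (MvPolynomial (Fin n) R)}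

/-- Lifts modulo the square of the kernel, for a formally smooth quotient. -/
theorem exists_lift_sq {R A Q D : Type u} [CommRing R] [CommRing A] [CommRing Q] [CommRing D]
    [Algebra R A] [Algebra A Q] [Algebra A D] [Algebra R Q] [Algebra R D] [IsScalarTower R A Q]
    [IsScalarTower R A D] [Algebra.FormallySmooth A D] (π : Q →ₐ[A] D) (hπ : Function.Surjective π)
    {κ : Type*} (e : κ → D) : ∃ a : κ → Q, (∀ k, π (a k) = e k) ∧
      ∀ t : MvPolynomial κ R, MvPolynomial.aeval e t = 0 → MvPolynomial.aeval a t ∈ RingHom.ker π ^ 2 := by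
  let J := RingHom.ker π
  let q : Q ⧸ J ^ 2 →ₐ[A] D := Ideal.Quotient.liftₐ _ π fun a ha =>
    (Ideal.pow_le_self two_ne_zero ha : a ∈ J)
  have hq : Function.Surjective q := fun z => by
    obtain ⟨w, rfl⟩ := hπ z; exact ⟨Ideal.Quotient.mk _ w, rfl⟩
  have hnil : IsNilpotent (RingHom.ker (q : Q ⧸ J ^ 2 →+* D)) := by
    refine ⟨2, ?_⟩
    have hle : RingHom.ker (q : Q ⧸ J ^ 2 →+* D) ≤ J.map (Ideal.Quotient.mk (J ^ 2)) := fun z hz => by
      obtain ⟨w, rfl⟩ := Ideal.Quotient.mk_surjective z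
      exact Ideal.mem_map_of_mem _ hz
    refine le_bot_iff.mp ((Ideal.pow_right_mono hle 2).trans ?_)
    rw [← Ideal.map_pow, Ideal.map_quotient_self]
  let σ := Algebra.FormallySmooth.liftOfSurjective (AlgHom.id A D) q hq hnil
  choose a ha using fun k => Ideal.Quotient.mk_surjective (σ (e k))
  refine ⟨a, fun k => ?_, fun t ht => ?_⟩
  · show q (Ideal.Quotient.mk _ (a k)) = e k
    rw [ha]
    exact DFunLike.congr_fun (Algebra.FormallySmooth.comp_liftOfSurjective _ q hq hnil) (e k)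
  · rw [← Ideal.Quotient.eq_zero_iff_mem]
    have e1 : (Ideal.Quotient.mkₐ R (J ^ 2)).comp (MvPolynomial.aeval a) =
        (σ.restrictScalars R).comp (MvPolynomial.aeval e) :=
      MvPolynomial.algHom_ext fun k => by simp [ha]
    exact (DFunLike.congr_fun e1 t).trans (by simp [ht])

/-- The relation generators in a base change of the polynomial ring. -/
noncomputable abbrev relGen (A : Type u) [CommRing A] [Algebra R A] (t : {t // t ∈ T}) :
    A ⊗[R] MvPolynomial (Fin n) R :=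
  (1 : A) ⊗ₜ[R] (t.1 : MvPolynomial (Fin n) R)

theorem exists_split (hf : Function.Surjective f) (hT : Ideal.span ↑T = RingHom.ker f.toRingHom)
    [Algebra.FormallySmooth A (A ⊗[R] C)] :
    ∃ (a : Fin n → A ⊗[R] MvPolynomial (Fin n) R)
      (c : {t // t ∈ T} → {t // t ∈ T} × {t // t ∈ T} → A ⊗[R] MvPolynomial (Fin n) R)
      (d : Fin n → {t // t ∈ T} → A ⊗[R] MvPolynomial (Fin n) R),
      (∀ t : {t // t ∈ T}, MvPolynomial.aeval a t.1 =
        ∑ p : {t // t ∈ T} × {t // t ∈ T}, c t p * (relGen A p.1 * relGen A p.2)) ∧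
      ∀ k, a k - (1 : A) ⊗ₜ[R] MvPolynomial.X k = ∑ s, d k s * relGen A s := by
  classical
  have hTf : ∀ t ∈ T, f t = 0 := fun t ht => by
    have h1 : t ∈ Ideal.span (T : Set (MvPolynomial (Fin n) R)) := Ideal.subset_span ht
    rw [hT] at h1
    exact h1
  -- a formal splitting over `A`
  let Q := A ⊗[R] MvPolynomial (Fin n) R
  let π : Q →ₐ[A] A ⊗[R] C := Algebra.TensorProduct.map (AlgHom.id A A) f
  have hπ : Function.Surjective π := fun z => by
    obtain ⟨w, hw⟩ := LinearMap.lTensor_surjective A (g := f.toLinearMap) hf z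
    exact ⟨w, hw⟩
  let gen : {t // t ∈ T} → Q := fun t => (1 : A) ⊗ₜ[R] (t.1 : MvPolynomial (Fin n) R)
  have hker : RingHom.ker π = Ideal.span (Set.range gen) := by
    have e := Algebra.TensorProduct.lTensor_ker f hf (A := A)
    have hk : (RingHom.ker f : Ideal (MvPolynomial (Fin n) R)) = Ideal.span (T : Set _) := hT.symm
    rw [hk, Ideal.map_span] at e
    have hset : Set.range gen = (Algebra.TensorProduct.includeRight (R := R) (A := A)
        (B := MvPolynomial (Fin n) R)) '' (T : Set _) := by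
      ext z
      simp [gen]
    rw [hset, ← e]
    rfl
  obtain ⟨a, ha, hev⟩ := exists_lift_sq (R := R) π hπ fun k : Fin n => (1 : A) ⊗ₜ[R] f (MvPolynomial.X k)
  have hrel : ∀ t : {t // t ∈ T}, MvPolynomial.aeval a t.1 ∈
      Ideal.span (Set.range fun p : {t // t ∈ T} × {t // t ∈ T} => gen p.1 * gen p.2) := by
    intro t
    have h0 : MvPolynomial.aeval (fun k : Fin n => (1 : A) ⊗ₜ[R] f (MvPolynomial.X k)) t.1 = 0 := by
      have e1 : (MvPolynomial.aeval fun k : Fin n => (1 : A) ⊗ₜ[R] f (MvPolynomial.X k)) =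
          (Algebra.TensorProduct.includeRight.comp f : MvPolynomial (Fin n) R →ₐ[R] A ⊗[R] C) :=
        MvPolynomial.algHom_ext fun k => by simp
      rw [e1]
      simp [hTf t.1 t.2]
    have h2 : Ideal.span (Set.range gen) ^ 2 = Ideal.span
        (Set.range fun p : {t // t ∈ T} × {t // t ∈ T} => gen p.1 * gen p.2) := by
      rw [pow_two, Ideal.span_mul_span']
      congr 1
      ext z
      simp [Set.mem_mul]
    rw [← h2, ← hker]
    exact hev t.1 h0
  have hnear : ∀ k, a k - (1 : A) ⊗ₜ[R] MvPolynomial.X k ∈ Ideal.span (Set.range gen) := by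
    intro k
    rw [← hker, RingHom.mem_ker, map_sub, sub_eq_zero, ha]
    rfl
  simp only [Ideal.mem_span_range_iff_exists_fun] at hrel hnear
  choose c hc using hrel
  choose d hd using hnear
  exact ⟨a, c, d, fun t => (hc t).symm, fun k => (hd k).symm⟩

theorem formallySmooth_of_split (hf : Function.Surjective f)
    (hT : Ideal.span ↑T = RingHom.ker f.toRingHom) (X : Type u) [CommRing X] [Algebra R X]
    (y : Fin n → MvPolynomial (Fin n) R ⊗[R] X)
    (c : {t // t ∈ T} → {t // t ∈ T} × {t // t ∈ T} → MvPolynomial (Fin n) R ⊗[R] X)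
    (d : Fin n → {t // t ∈ T} → MvPolynomial (Fin n) R ⊗[R] X)
    (hc : ∀ t : {t // t ∈ T}, MvPolynomial.aeval y t.1 = ∑ p : {t // t ∈ T} × {t // t ∈ T},
      c t p * ((p.1.1 ⊗ₜ[R] (1 : X)) * (p.2.1 ⊗ₜ[R] (1 : X))))
    (hd : ∀ k, y k = MvPolynomial.X k ⊗ₜ[R] (1 : X) + ∑ s, d k s * (s.1 ⊗ₜ[R] (1 : X))) :
    Algebra.FormallySmooth X (X ⊗[R] C) := by
  classical
  have hTf : ∀ t ∈ T, f t = 0 := fun t ht => by
    have h1 : t ∈ Ideal.span (T : Set (MvPolynomial (Fin n) R)) := Ideal.subset_span ht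
    rw [hT] at h1
    exact h1
  refine Algebra.FormallySmooth.of_comp_surjective fun B _ _ I hI χ => ?_
  let _ : Algebra R B := ((algebraMap X B).comp (algebraMap R X)).toAlgebra
  have : IsScalarTower R X B := IsScalarTower.of_algebraMap_eq fun _ => rfl
  let P := MvPolynomial (Fin n) R
  let ρ : P →ₐ[R] B ⧸ I := (χ.restrictScalars R).comp (Algebra.TensorProduct.includeRight.comp f)
  choose e he using fun k => Ideal.Quotient.mk_surjective (ρ (MvPolynomial.X k))
  let η : P →ₐ[R] B := MvPolynomial.aeval e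
  have hη : ∀ p, Ideal.Quotient.mk I (η p) = ρ p := fun p => by
    have h1 : (Ideal.Quotient.mkₐ R I).comp η = ρ := MvPolynomial.algHom_ext fun k => by simp [η, he]
    exact DFunLike.congr_fun h1 p
  let η' : P ⊗[R] X →ₐ[R] B :=
    Algebra.TensorProduct.productMap η (IsScalarTower.toAlgHom R X B)
  have hη'g : ∀ t : {t // t ∈ T}, η' (t.1 ⊗ₜ[R] (1 : X)) ∈ I := fun t => by
    rw [Algebra.TensorProduct.productMap_apply_tmul, map_one, mul_one,
      ← Ideal.Quotient.eq_zero_iff_mem, hη]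
    simp [ρ, hTf t.1 t.2]
  let ψ₀ : P →ₐ[R] B := MvPolynomial.aeval fun k => η' (y k)
  have hψ₀ : ∀ t : {t // t ∈ T}, ψ₀ t.1 = 0 := fun t => by
    refine (DFunLike.congr_fun (MvPolynomial.comp_aeval y η') t.1).symm.trans ?_
    show η' (MvPolynomial.aeval y t.1) = 0
    rw [hc t, map_sum]
    refine Finset.sum_eq_zero fun p _ => ?_
    rw [map_mul, map_mul]
    have : η' (p.1.1 ⊗ₜ[R] (1 : X)) * η' (p.2.1 ⊗ₜ[R] (1 : X)) ∈ I ^ 2 := by
      rw [pow_two]; exact Ideal.mul_mem_mul (hη'g _) (hη'g _)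
    rw [hI, Ideal.mem_bot] at this
    rw [this, mul_zero]
  have hψ₀ker : RingHom.ker f ≤ RingHom.ker ψ₀ := by
    show RingHom.ker f.toRingHom ≤ _
    rw [← hT, Ideal.span_le]
    exact fun t ht => hψ₀ ⟨t, ht⟩
  let ψ : C →ₐ[R] B := (Ideal.Quotient.liftₐ (RingHom.ker f) ψ₀ fun t ht => hψ₀ker ht).comp
    (Ideal.quotientKerAlgEquivOfSurjective hf).symm.toAlgHom
  have hψ : ∀ p, ψ (f p) = ψ₀ p := fun p => by
    show Ideal.Quotient.liftₐ (RingHom.ker f) ψ₀ (fun t ht => hψ₀ker ht)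
      ((Ideal.quotientKerAlgEquivOfSurjective hf).symm (f p)) = _
    have : (Ideal.quotientKerAlgEquivOfSurjective hf).symm (f p) = Ideal.Quotient.mk _ p := by
      rw [AlgEquiv.symm_apply_eq]; rfl
    rw [this]; rfl
  have hcomp : ((Ideal.Quotient.mkₐ R I).comp (ψ.comp f)) = ρ := MvPolynomial.algHom_ext fun k => by
    show Ideal.Quotient.mk I (ψ (f (MvPolynomial.X k))) = _
    rw [hψ, MvPolynomial.aeval_X, hd k, map_add, map_sum, map_add,
      Algebra.TensorProduct.productMap_apply_tmul, map_one, mul_one, hη, add_eq_left,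
      Ideal.Quotient.eq_zero_iff_mem]
    exact Submodule.sum_mem _ fun s _ => by
      rw [map_mul]; exact Ideal.mul_mem_left _ _ (hη'g s)
  refine ⟨Algebra.TensorProduct.lift (Algebra.ofId X B) ψ fun _ _ => Commute.all _ _, ?_⟩
  refine Algebra.TensorProduct.ext (AlgHom.ext fun r => ?_) (AlgHom.ext fun z => ?_)
  · simp only [AlgHom.comp_apply]
    refine Eq.trans ?_ (χ.commutes r).symm
    simp
  · obtain ⟨p, rfl⟩ := hf z
    refine Eq.trans ?_ (DFunLike.congr_fun hcomp p)
    simp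

theorem formallySmooth_witness (hs : ColimSys R G A g) (hf : Function.Surjective f)
    (hT : Ideal.span ↑T = RingHom.ker f.toRingHom) [Algebra.FormallySmooth A (A ⊗[R] C)] :
    ∃ l, Algebra.FormallySmooth (G l) (G l ⊗[R] C) := by
  classical
  obtain ⟨a, c, d, hc, hd⟩ := exists_split C (A := A) hf hT
  let P := MvPolynomial (Fin n) R
  let T' := {t // t ∈ T}
  let cm : A ⊗[R] P ≃ₐ[R] P ⊗[R] A := Algebra.TensorProduct.comm R A P
  have hs' := hs.baseChange P
  obtain ⟨i⟩ := hs.nonempty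
  obtain ⟨l, -, -, x, hx⟩ := hs'.exists_lift (Finset.univ : Finset (Fin n ⊕ (T' × T' × T') ⊕ (Fin n × T')))
    (Sum.elim (fun k => cm (a k)) (Sum.elim (fun p => cm (c p.1 p.2)) (fun p => cm (d p.1 p.2)))) i
  have hx' := fun e => hx e (Finset.mem_univ e)
  let Φ := Algebra.TensorProduct.map (AlgHom.id P P) (g l)
  let lhs : T' ⊕ Fin n → P ⊗[R] G l := Sum.elim
    (fun t => MvPolynomial.aeval (fun k => x (Sum.inl k)) t.1)
    (fun k => x (Sum.inl k))
  let rhs : T' ⊕ Fin n → P ⊗[R] G l := Sum.elim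
    (fun t => ∑ p : T' × T', x (Sum.inr (Sum.inl (t, p))) * ((p.1.1 ⊗ₜ[R] (1 : G l)) * (p.2.1 ⊗ₜ[R] (1 : G l))))
    (fun k => (MvPolynomial.X k : P) ⊗ₜ[R] (1 : G l) + ∑ s : T', x (Sum.inr (Sum.inr (k, s))) * (s.1 ⊗ₜ[R] (1 : G l)))
  have hΦ : ∀ e, Φ (lhs e - rhs e) = 0 := by
    have hone : ∀ p : P, Φ (p ⊗ₜ[R] (1 : G l)) = cm ((1 : A) ⊗ₜ[R] p) := fun p => by simp [Φ, cm]
    have hev : ∀ t : P, Φ (MvPolynomial.aeval (fun k => x (Sum.inl k)) t) = cm (MvPolynomial.aeval a t) := by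
      intro t
      refine (DFunLike.congr_fun (MvPolynomial.comp_aeval _ (Φ.restrictScalars R)) t).trans ?_
      refine Eq.trans ?_ (DFunLike.congr_fun (MvPolynomial.comp_aeval a cm.toAlgHom) t).symm
      congr 2
      funext k
      exact hx' (Sum.inl k)
    have hxl : ∀ k, Φ (x (Sum.inl k)) = cm (a k) := fun k => hx' _
    have hxc : ∀ t p, Φ (x (Sum.inr (Sum.inl (t, p)))) = cm (c t p) := fun t p => hx' _
    have hxd : ∀ k s, Φ (x (Sum.inr (Sum.inr (k, s)))) = cm (d k s) := fun k s => hx' _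
    rintro (t | k)
    · dsimp only [lhs, rhs, Sum.elim_inl]
      rw [map_sub, hev, hc t, map_sum, map_sum, sub_eq_zero]
      exact Finset.sum_congr rfl fun p _ => by rw [map_mul, map_mul, map_mul, map_mul, hone, hone, hxc]
    · dsimp only [lhs, rhs, Sum.elim_inr]
      have h1 := congrArg cm (hd k)
      rw [map_sub, map_sum, sub_eq_iff_eq_add'] at h1
      rw [map_sub, map_add, hxl, hone, map_sum, sub_eq_zero, h1]
      congr 1
      exact Finset.sum_congr rfl fun s _ => by rw [map_mul, map_mul, hone, hxd]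
  obtain ⟨m, θ, -, hk⟩ := hs'.exists_kill Finset.univ l (fun e => lhs e - rhs e) (fun e _ => hΦ e)
  have hone : ∀ p : P, θ (p ⊗ₜ[R] (1 : G l)) = p ⊗ₜ[R] (1 : G m) := fun p => θ.commutes p
  refine ⟨m, formallySmooth_of_split C hf hT (G m) (fun k => θ (x (Sum.inl k)))
    (fun t p => θ (x (Sum.inr (Sum.inl (t, p))))) (fun k s => θ (x (Sum.inr (Sum.inr (k, s))))) ?_ ?_⟩
  · intro t
    have h1 := hk (Sum.inl t) (Finset.mem_univ _)
    rw [map_sub, sub_eq_zero] at h1
    refine (DFunLike.congr_fun (MvPolynomial.comp_aeval _ (θ.restrictScalars R)) t.1).symm.trans (h1.trans ?_)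
    dsimp only [rhs, Sum.elim_inl]
    rw [map_sum]
    exact Finset.sum_congr rfl fun p _ => by rw [map_mul, map_mul, hone, hone]
  · intro k
    have h1 := hk (Sum.inr k) (Finset.mem_univ _)
    rw [map_sub, sub_eq_zero] at h1
    refine h1.trans ?_
    dsimp only [rhs, Sum.elim_inr]
    rw [map_add, hone, map_sum]
    congr 1
    exact Finset.sum_congr rfl fun s _ => by rw [map_mul, hone]

/-- Smoothness descends to a stage. -/
theorem exists_smooth (hs : ColimSys R G A g) [Algebra.FinitePresentation R C]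
    (h : Algebra.Smooth A (A ⊗[R] C)) : ∃ l, Algebra.Smooth (G l) (G l ⊗[R] C) := by
  obtain ⟨n, f, hf, T, hT⟩ := ‹Algebra.FinitePresentation R C›.out
  have : Algebra.FormallySmooth A (A ⊗[R] C) := h.formallySmooth
  obtain ⟨l, hl⟩ := formallySmooth_witness C hs hf hT
  exact ⟨l, hl, inferInstance⟩

theorem smooth_of_hom {X Y : Type u} [CommRing X] [Algebra R X] [CommRing Y] [Algebra R Y]
    (φ : X →ₐ[R] Y) [Algebra.Smooth X (X ⊗[R] C)] : Algebra.Smooth Y (Y ⊗[R] C) := by
  let _ : Algebra X Y := φ.toRingHom.toAlgebra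
  have : IsScalarTower R X Y := IsScalarTower.of_algebraMap_eq fun r => (φ.commutes r).symm
  exact Algebra.Smooth.of_equiv (Algebra.TensorProduct.cancelBaseChange R X Y Y C)

theorem unramified_of_hom {X Y : Type u} [CommRing X] [Algebra R X] [CommRing Y] [Algebra R Y]
    (φ : X →ₐ[R] Y) [Algebra.Unramified X (X ⊗[R] C)] : Algebra.Unramified Y (Y ⊗[R] C) := by
  let _ : Algebra X Y := φ.toRingHom.toAlgebra
  have : IsScalarTower R X Y := IsScalarTower.of_algebraMap_eq fun r => (φ.commutes r).symm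
  exact Algebra.Unramified.of_equiv (Algebra.TensorProduct.cancelBaseChange R X Y Y C)

/-- Being étale descends to a stage. -/
theorem exists_etale (hs : ColimSys R G A g) [Algebra.FinitePresentation R C]
    (h : Algebra.Etale A (A ⊗[R] C)) : ∃ l, Algebra.Etale (G l) (G l ⊗[R] C) := by
  obtain ⟨l₁, h₁⟩ := hs.exists_smooth C ⟨inferInstance, inferInstance⟩
  obtain ⟨l₂, h₂⟩ := hs.exists_unramified C ⟨inferInstance, inferInstance⟩
  obtain ⟨m, ⟨φ₁, -⟩, φ₂, -⟩ := hs.dir l₁ l₂
  have h3 := smooth_of_hom C φ₁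
  have h4 := unramified_of_hom C φ₂
  exact ⟨m, Algebra.Etale.iff_formallyUnramified_and_smooth.mpr ⟨inferInstance, inferInstance⟩⟩

end Groth.Agent.CAlg5.ColimSys
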