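import Mathlib.LinearAlgebra.DirectSum.Finsupp
import Mathlib.LinearAlgebra.TensorProduct.Finiteness
import Mathlib.LinearAlgebra.TensorProduct.RightExactness
import Mathlib.RingTheory.TensorProduct.Maps

set_option autoImplicit false

universe u v

namespace Groth.Agent.CAlg5

open TensorProduct

/-- A family of algebras with maps to `A` presenting `A` as a filtered union of quotients of
its members, in the sense that relations holding in `A` hold after moving along some algebra map
over `A`. -/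
structure ColimSys (R : Type u) [CommRing R] {ι : Type v} (G : ι → Type u) [∀ i, CommRing (G i)]
    [∀ i, Algebra R (G i)] (A : Type u) [CommRing A] [Algebra R A] (g : ∀ i, G i →ₐ[R] A) :
    Prop where
  surj : ∀ a : A, ∃ i, ∃ x : G i, g i x = a
  dir : ∀ i j, ∃ l, (∃ h : G i →ₐ[R] G l, (g l).comp h = g i) ∧
    ∃ h : G j →ₐ[R] G l, (g l).comp h = g j
  ker : ∀ i (x : G i), g i x = 0 → ∃ l, ∃ h : G i →ₐ[R] G l, (g l).comp h = g i ∧ h x = 0
  nonempty : Nonempty ι

namespace ColimSys

variable {R : Type u} [CommRing R] {ι : Type v} {G : ι → Type u} [∀ i, CommRing (G i)]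
  [∀ i, Algebra R (G i)] {A : Type u} [CommRing A] [Algebra R A] {g : ∀ i, G i →ₐ[R] A}

theorem of_directed [Preorder ι] [IsDirected ι (· ≤ ·)] [hne : Nonempty ι]
    (f : ∀ i j, i ≤ j → (G i →ₐ[R] G j)) (hg : ∀ i j (h : i ≤ j), (g j).comp (f i j h) = g i)
    (hsurj : ∀ a : A, ∃ i, ∃ x : G i, g i x = a)
    (hker : ∀ i (x : G i), g i x = 0 → ∃ j, ∃ h : i ≤ j, f i j h x = 0) :
    ColimSys R G A g where
  surj := hsurj
  dir i j := by
    obtain ⟨l, hi, hj⟩ := exists_ge_ge i j
    exact ⟨l, ⟨f i l hi, hg i l hi⟩, f j l hj, hg j l hj⟩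
  ker i x hx := by
    obtain ⟨j, h, hj⟩ := hker i x hx
    exact ⟨j, f i j h, hg i j h, hj⟩
  nonempty := hne

theorem comp_apply {i l : ι} {h : G i →ₐ[R] G l} (hh : (g l).comp h = g i) (x : G i) :
    g l (h x) = g i x := DFunLike.congr_fun hh x

theorem exists_kill (hs : ColimSys R G A g) {κ : Type*} (s : Finset κ) (i : ι) (x : κ → G i)
    (hx : ∀ k ∈ s, g i (x k) = 0) :
    ∃ l, ∃ h : G i →ₐ[R] G l, (g l).comp h = g i ∧ ∀ k ∈ s, h (x k) = 0 := by
  classical
  induction s using Finset.induction with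
  | empty => exact ⟨i, AlgHom.id R _, AlgHom.comp_id _, by simp⟩
  | insert a s ha ih =>
    obtain ⟨l, h, hh, hk⟩ := ih fun k hk => hx k (Finset.mem_insert_of_mem hk)
    obtain ⟨l', h', hh', hk'⟩ := hs.ker l (h (x a))
      (by rw [comp_apply hh, hx a (Finset.mem_insert_self a s)])
    refine ⟨l', h'.comp h, by rw [← AlgHom.comp_assoc, hh', hh], fun k hk2 => ?_⟩
    rcases Finset.mem_insert.mp hk2 with rfl | hk2
    · exact hk'
    · rw [AlgHom.comp_apply, hk k hk2, map_zero]

theorem exists_lift (hs : ColimSys R G A g) {κ : Type*} (s : Finset κ) (a : κ → A) (i : ι) :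
    ∃ l, ∃ h : G i →ₐ[R] G l, (g l).comp h = g i ∧ ∃ x : κ → G l, ∀ k ∈ s, g l (x k) = a k := by
  classical
  induction s using Finset.induction with
  | empty => exact ⟨i, AlgHom.id R _, AlgHom.comp_id _, 0, by simp⟩
  | insert b s hb ih =>
    obtain ⟨l, h, hh, x, hx⟩ := ih
    obtain ⟨j, y, hy⟩ := hs.surj (a b)
    obtain ⟨m, ⟨h1, hh1⟩, h2, hh2⟩ := hs.dir l j
    refine ⟨m, h1.comp h, by rw [← AlgHom.comp_assoc, hh1, hh],
      fun k => if k = b then h2 y else h1 (x k), fun k hk => ?_⟩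
    rcases Finset.mem_insert.mp hk with rfl | hk
    · simp only [if_pos]
      rw [comp_apply hh2, hy]
    · simp only [if_neg (fun he : k = b => hb (he ▸ hk))]
      rw [comp_apply hh1, hx k hk]

variable (M : Type u) [AddCommGroup M] [Module R M]

theorem exists_tensor_lift (hs : ColimSys R G A g) (z : M ⊗[R] A) (i : ι) :
    ∃ l, ∃ h : G i →ₐ[R] G l, (g l).comp h = g i ∧
      ∃ y : M ⊗[R] G l, (g l).toLinearMap.lTensor M y = z := by
  obtain ⟨s, rfl⟩ := TensorProduct.exists_finset z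
  obtain ⟨l, h, hh, x, hx⟩ := hs.exists_lift s (fun k => k.2) i
  refine ⟨l, h, hh, ∑ k ∈ s, k.1 ⊗ₜ x k, ?_⟩
  rw [map_sum]
  exact Finset.sum_congr rfl fun k hk => by
    rw [LinearMap.lTensor_tmul, AlgHom.toLinearMap_apply, hx k hk]

theorem lTensor_kill_free (hs : ColimSys R G A g) {κ : Type u} (i : ι) (y : (κ →₀ R) ⊗[R] G i)
    (hy : (g i).toLinearMap.lTensor _ y = 0) :
    ∃ l, ∃ h : G i →ₐ[R] G l, (g l).comp h = g i ∧ h.toLinearMap.lTensor _ y = 0 := by
  classical
  have key : ∀ (N : Type u) [AddCommGroup N] [Module R N] (φ : G i →ₗ[R] N) (k : κ),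
      finsuppScalarLeft R N κ (φ.lTensor _ y) k = φ (finsuppScalarLeft R (G i) κ y k) := by
    intro N _ _ φ k
    clear hy
    induction y using TensorProduct.induction_on with
    | zero => simp
    | tmul a b => simp [finsuppScalarLeft_apply_tmul_apply]
    | add a b ha hb => simp [ha, hb]
  obtain ⟨l, h, hh, hk⟩ := hs.exists_kill (finsuppScalarLeft R (G i) κ y).support i
    (fun k => finsuppScalarLeft R (G i) κ y k) (fun k _ => by
      rw [← AlgHom.toLinearMap_apply, ← key A, hy, map_zero, Finsupp.zero_apply])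
  refine ⟨l, h, hh, (finsuppScalarLeft R (G l) κ).injective ?_⟩
  ext k
  rw [key (G l), map_zero, Finsupp.zero_apply]
  by_cases hk' : k ∈ (finsuppScalarLeft R (G i) κ y).support
  · exact hk k hk'
  · rw [Finsupp.notMem_support_iff.mp hk', map_zero]

/-- A tensor vanishing in the colimit vanishes at a later stage. -/
theorem exists_tensor_kill (hs : ColimSys R G A g) (i : ι) (y : M ⊗[R] G i)
    (hy : (g i).toLinearMap.lTensor M y = 0) :
    ∃ l, ∃ h : G i →ₐ[R] G l, (g l).comp h = g i ∧ h.toLinearMap.lTensor M y = 0 := by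
  let π : (M →₀ R) →ₗ[R] M := Finsupp.linearCombination R id
  have hπ : Function.Surjective π := Finsupp.linearCombination_id_surjective R M
  have hex : Function.Exact (LinearMap.ker π).subtype π := LinearMap.exact_subtype_ker_map π
  obtain ⟨w, rfl⟩ := LinearMap.rTensor_surjective (G i) hπ y
  have hcomm : ∀ {N N' : Type u} [AddCommMonoid N] [Module R N] [AddCommMonoid N'] [Module R N']
      {P Q : Type u} [AddCommMonoid P] [Module R P] [AddCommMonoid Q] [Module R Q]
      (φ : P →ₗ[R] Q) (ψ : N →ₗ[R] N') (t : P ⊗[R] N),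
      ψ.lTensor Q (φ.rTensor N t) = φ.rTensor N' (ψ.lTensor P t) := by
    intros
    rename_i φ ψ t
    induction t using TensorProduct.induction_on with
    | zero => simp
    | tmul a b => simp
    | add a b ha hb => simp [ha, hb]
  rw [hcomm] at hy
  have hexA : Function.Exact ⇑((LinearMap.ker π).subtype.rTensor A) ⇑(π.rTensor A) :=
    rTensor_exact (M := ↥(LinearMap.ker π)) A hex hπ
  obtain ⟨c, hc⟩ := (hexA _).mp hy
  obtain ⟨l, h, hh, c', hc'⟩ := hs.exists_tensor_lift (↥(LinearMap.ker π)) c i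
  have h0 : (g l).toLinearMap.lTensor _
      (h.toLinearMap.lTensor _ w - (LinearMap.ker π).subtype.rTensor (G l) c') = 0 := by
    rw [map_sub, hcomm, hc', hc, ← LinearMap.lTensor_comp_apply, ← AlgHom.comp_toLinearMap, hh,
      sub_self]
  obtain ⟨m, h', hh', hk⟩ := hs.lTensor_kill_free l _ h0
  refine ⟨m, h'.comp h, by rw [← AlgHom.comp_assoc, hh', hh], ?_⟩
  rw [map_sub, sub_eq_zero, hcomm] at hk
  rw [hcomm, AlgHom.comp_toLinearMap, LinearMap.lTensor_comp_apply, hk]
  exact (rTensor_exact (M := ↥(LinearMap.ker π)) (G m) hex hπ).apply_apply_eq_zero _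

/-- Base change of a colimit system. -/
theorem baseChange (hs : ColimSys R G A g) (B : Type u) [CommRing B] [Algebra R B] :
    ColimSys B (fun i => B ⊗[R] G i) (B ⊗[R] A)
      (fun i => Algebra.TensorProduct.map (AlgHom.id B B) (g i)) := by
  have hcomp : ∀ {i l : ι} (h : G i →ₐ[R] G l), (g l).comp h = g i →
      (Algebra.TensorProduct.map (AlgHom.id B B) (g l)).comp
        (Algebra.TensorProduct.map (AlgHom.id B B) h) = Algebra.TensorProduct.map (AlgHom.id B B) (g i) := by
    intro i l h hh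
    rw [← Algebra.TensorProduct.map_comp, AlgHom.comp_id, hh]
  have heq : ∀ {N N' : Type u} [CommRing N] [Algebra R N] [CommRing N'] [Algebra R N']
      (φ : N →ₐ[R] N') (x : B ⊗[R] N),
      Algebra.TensorProduct.map (AlgHom.id B B) φ x = φ.toLinearMap.lTensor B x := by
    intros
    rename_i φ x
    induction x using TensorProduct.induction_on with
    | zero => simp
    | tmul a b => simp
    | add a b ha hb => simp [ha, hb]
  refine ⟨fun a => ?_, fun i j => ?_, fun i x hx => ?_, hs.nonempty⟩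
  · obtain ⟨i⟩ := hs.nonempty
    obtain ⟨l, -, -, y, hy⟩ := hs.exists_tensor_lift B a i
    exact ⟨l, y, by rw [heq, hy]⟩
  · obtain ⟨l, ⟨h1, hh1⟩, h2, hh2⟩ := hs.dir i j
    exact ⟨l, ⟨_, hcomp h1 hh1⟩, _, hcomp h2 hh2⟩
  · rw [heq] at hx
    obtain ⟨l, h, hh, hk⟩ := hs.exists_tensor_kill B i x hx
    exact ⟨l, _, hcomp h hh, by rw [heq, hk]⟩

end ColimSys

end Groth.Agent.CAlg5
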