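import Groth.Prelude.Def_FlatCA
import Mathlib.RingTheory.Ideal.MinimalPrime.Localization
import Mathlib.RingTheory.Localization.Ideal
import Mathlib.Algebra.Module.LocalizedModule.Basic

set_option autoImplicit false

universe u v w

namespace Groth.Agent.CAlg5

variable {R : Type u} [CommRing R] {M : Type v} [AddCommGroup M] [Module R M]

theorem mem_minimalPrimes_iff_mul_pow {I p : Ideal R} [hp : p.IsPrime] :
    p ∈ I.minimalPrimes ↔ I ≤ p ∧ ∀ r ∈ p, ∃ s ∉ p, ∃ n : ℕ, s * r ^ n ∈ I := by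
  constructor
  · intro h
    refine ⟨h.1.2, fun r hr => ?_⟩
    by_contra H
    push Not at H
    obtain ⟨q, hq, hIq, hqd⟩ := Ideal.exists_le_prime_disjoint I
      (p.primeCompl ⊔ Submonoid.powers r) (by
        rw [Set.disjoint_left]
        intro x hxI hx
        obtain ⟨y, hy, z, ⟨n, rfl⟩, rfl⟩ := Submonoid.mem_sup.mp hx
        exact H y hy n hxI)
    have hqp : q ≤ p := fun x hx => by
      by_contra hxp
      exact Set.disjoint_left.mp hqd hx (Submonoid.mem_sup_left hxp)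
    exact Set.disjoint_left.mp hqd (h.2 ⟨hq, hIq⟩ hqp hr)
      (Submonoid.mem_sup_right (Submonoid.mem_powers r))
  · rintro ⟨hI, h⟩
    refine ⟨⟨hp, hI⟩, fun q hq hqp r hr => ?_⟩
    obtain ⟨s, hs, n, hn⟩ := h r hr
    exact hq.1.mem_of_pow_mem n ((hq.1.mem_or_mem (hq.2 hn)).resolve_left (fun hs' => hs (hqp hs')))

theorem mem_ann {m : M} {r : R} : r ∈ (Submodule.span R {m}).annihilator ↔ r • m = 0 :=
  Submodule.mem_annihilator_span_singleton _ _

theorem weakAss_isPrime {p : Ideal R} (h : p ∈ FlatCA.weakAss R M) : p.IsPrime :=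
  let ⟨_, hm⟩ := h; hm.1.1

theorem mem_weakAss_iff {p : Ideal R} [p.IsPrime] :
    p ∈ FlatCA.weakAss R M ↔ ∃ m : M, (∀ s : R, s • m = 0 → s ∈ p) ∧
      ∀ r ∈ p, ∃ s ∉ p, ∃ n : ℕ, (s * r ^ n) • m = 0 := by
  constructor
  · rintro ⟨m, hm⟩
    obtain ⟨h1, h2⟩ := mem_minimalPrimes_iff_mul_pow.mp hm
    exact ⟨m, fun s hs => h1 (mem_ann.mpr hs), fun r hr => by simpa only [mem_ann] using h2 r hr⟩
  · rintro ⟨m, h1, h2⟩
    exact ⟨m, mem_minimalPrimes_iff_mul_pow.mpr
      ⟨fun s hs => h1 s (mem_ann.mp hs), fun r hr => by simpa only [mem_ann] using h2 r hr⟩⟩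

theorem exists_mem_weakAss {x : M} (hx : x ≠ 0) :
    ∃ p ∈ FlatCA.weakAss R M, ∀ r : R, r • x = 0 → r ∈ p := by
  have hne : (Submodule.span R {x}).annihilator ≠ ⊤ := by
    rw [Ne, Ideal.eq_top_iff_one, mem_ann, one_smul]
    exact hx
  obtain ⟨p, hp⟩ := Ideal.nonempty_minimalPrimes hne
  exact ⟨p, ⟨x, hp⟩, fun r hr => hp.1.2 (mem_ann.mpr hr)⟩

theorem weakAss_subset_of_injective {N : Type w} [AddCommGroup N] [Module R N] (f : M →ₗ[R] N)
    (hf : Function.Injective f) : FlatCA.weakAss R M ⊆ FlatCA.weakAss R N := by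
  intro p hp
  have := weakAss_isPrime hp
  obtain ⟨m, h1, h2⟩ := mem_weakAss_iff.mp hp
  refine mem_weakAss_iff.mpr ⟨f m, fun s hs => h1 s (hf (by rw [map_smul, hs, map_zero])), ?_⟩
  intro r hr
  obtain ⟨s, hs, n, hn⟩ := h2 r hr
  exact ⟨s, hs, n, by rw [← map_smul, hn, map_zero]⟩

theorem weakAss_subset_union {M₁ : Type w} [AddCommGroup M₁] [Module R M₁]
    {M₂ : Type w} [AddCommGroup M₂] [Module R M₂]
    (f : M₁ →ₗ[R] M) (g : M →ₗ[R] M₂) (hf : Function.Injective f) (hfg : Function.Exact f g) :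
    FlatCA.weakAss R M ⊆ FlatCA.weakAss R M₁ ∪ FlatCA.weakAss R M₂ := by
  intro p hp
  have hpp := weakAss_isPrime hp
  obtain ⟨m, h1, h2⟩ := mem_weakAss_iff.mp hp
  by_cases hc : ∀ s : R, s • g m = 0 → s ∈ p
  · right
    refine mem_weakAss_iff.mpr ⟨g m, hc, fun r hr => ?_⟩
    obtain ⟨s, hs, n, hn⟩ := h2 r hr
    exact ⟨s, hs, n, by rw [← map_smul, hn, map_zero]⟩
  · left
    push Not at hc
    obtain ⟨t, ht, htp⟩ := hc
    obtain ⟨y, hy⟩ := (hfg (t • m)).mp (by rw [map_smul, ht])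
    refine mem_weakAss_iff.mpr ⟨y, fun s hs => ?_, fun r hr => ?_⟩
    · have : (s * t) • m = 0 := by rw [mul_smul, ← hy, ← map_smul, hs, map_zero]
      exact (hpp.mem_or_mem (h1 _ this)).resolve_right htp
    · obtain ⟨s, hs, n, hn⟩ := h2 r hr
      refine ⟨s, hs, n, hf ?_⟩
      rw [map_smul, map_zero, hy, smul_comm, hn, smul_zero]

section Localization

variable (S : Submonoid R) {M' : Type w} [AddCommGroup M'] [Module R M'] (g : M →ₗ[R] M')
  [IsLocalizedModule S g]

include S g in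
theorem disjoint_of_mem_weakAss_localized {p : Ideal R} (hp : p ∈ FlatCA.weakAss R M') :
    Disjoint (S : Set R) (p : Set R) := by
  have := weakAss_isPrime hp
  obtain ⟨x, h1, h2⟩ := mem_weakAss_iff.mp hp
  rw [Set.disjoint_left]
  intro s hs hsp
  obtain ⟨t, ht, n, hn⟩ := h2 s hsp
  refine ht (h1 t ?_)
  have h0 : s ^ n • (t • x) = 0 := by rw [smul_smul, mul_comm, hn]
  exact IsLocalizedModule.smul_injective g ⟨s ^ n, pow_mem hs n⟩
    (a₁ := t • x) (a₂ := 0) (by simpa [Submonoid.smul_def] using h0)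

include g in
theorem mem_weakAss_localized_iff {p : Ideal R} [hpp : p.IsPrime]
    (hd : Disjoint (S : Set R) (p : Set R)) :
    p ∈ FlatCA.weakAss R M ↔ p ∈ FlatCA.weakAss R M' := by
  have hS : ∀ s ∈ S, s ∉ p := fun s hs => Set.disjoint_left.mp hd hs
  constructor
  · intro hp
    obtain ⟨m, h1, h2⟩ := mem_weakAss_iff.mp hp
    refine mem_weakAss_iff.mpr ⟨g m, fun r hr => ?_, fun r hr => ?_⟩
    · rw [← map_smul, IsLocalizedModule.eq_zero_iff S g] at hr
      obtain ⟨s, hs⟩ := hr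
      rw [Submonoid.smul_def, smul_smul] at hs
      exact (hpp.mem_or_mem (h1 _ hs)).resolve_left (hS s s.2)
    · obtain ⟨s, hs, n, hn⟩ := h2 r hr
      exact ⟨s, hs, n, by rw [← map_smul, hn, map_zero]⟩
  · intro hp
    obtain ⟨x, h1, h2⟩ := mem_weakAss_iff.mp hp
    obtain ⟨⟨m, t⟩, hmt⟩ := IsLocalizedModule.surj S g x
    simp only [Submonoid.smul_def] at hmt
    refine mem_weakAss_iff.mpr ⟨m, fun r hr => ?_, fun r hr => ?_⟩
    · have : (r * t.1) • x = 0 := by rw [mul_smul, hmt, ← map_smul, hr, map_zero]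
      exact (hpp.mem_or_mem (h1 _ this)).resolve_right (hS t t.2)
    · obtain ⟨s, hs, n, hn⟩ := h2 r hr
      have : g ((s * r ^ n) • m) = 0 := by rw [map_smul, ← hmt, smul_comm, hn, smul_zero]
      obtain ⟨u, hu⟩ := (IsLocalizedModule.eq_zero_iff S g).mp this
      rw [Submonoid.smul_def, smul_smul, ← mul_assoc] at hu
      exact ⟨u.1 * s, fun h => (hpp.mem_or_mem h).elim (hS u u.2) hs, n, hu⟩

variable (R' : Type*) [CommRing R'] [Algebra R R'] [IsLocalization S R'] [Module R' M']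
  [IsScalarTower R R' M']

include S in
theorem mem_weakAss_iff_comap_mem {q : Ideal R'} [hq : q.IsPrime] :
    q ∈ FlatCA.weakAss R' M' ↔ q.comap (algebraMap R R') ∈ FlatCA.weakAss R M' := by
  rw [mem_weakAss_iff, mem_weakAss_iff]
  have hmul : ∀ (r : R) (s : S), IsLocalization.mk' R' r s * algebraMap R R' s = algebraMap R R' r :=
    fun r s => IsLocalization.mk'_spec R' r s
  have hunit : ∀ s : S, IsUnit (algebraMap R R' s) := fun s => IsLocalization.map_units R' s
  have hnot : ∀ s : S, algebraMap R R' s ∉ q := fun s h =>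
    hq.ne_top (Ideal.eq_top_of_isUnit_mem _ h (hunit s))
  have hsm : ∀ (r' : R') (r : R) (s : S) (x : M'), IsLocalization.mk' R' r s = r' →
      r' • x = 0 → r • x = 0 := by
    rintro _ r s x rfl h
    rw [← algebraMap_smul R' r x, ← hmul r s, mul_comm, mul_smul, h, smul_zero]
  constructor
  · rintro ⟨x, h1, h2⟩
    refine ⟨x, fun r hr => h1 _ (by rw [algebraMap_smul, hr]), fun r hr => ?_⟩
    obtain ⟨s', hs', n, hn⟩ := h2 _ hr
    obtain ⟨a, t, rfl⟩ := IsLocalization.exists_mk'_eq S s'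
    refine ⟨a, fun ha => hs' ?_, n, ?_⟩
    · rw [Ideal.mem_comap, ← hmul a t] at ha
      exact (hq.mem_or_mem ha).resolve_right (hnot t)
    · rw [← algebraMap_smul R' (a * r ^ n) x, map_mul, map_pow, ← hmul a t,
        mul_right_comm, mul_comm, mul_smul, hn, smul_zero]
  · rintro ⟨x, h1, h2⟩
    refine ⟨x, fun r' hr' => ?_, fun r' hr' => ?_⟩
    · obtain ⟨a, t, rfl⟩ := IsLocalization.exists_mk'_eq S r'
      have ha : algebraMap R R' a ∈ q := h1 a (hsm _ a t x rfl hr')
      rw [← hmul a t] at ha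
      exact (hq.mem_or_mem ha).resolve_right (hnot t)
    · obtain ⟨a, t, rfl⟩ := IsLocalization.exists_mk'_eq S r'
      have ha : a ∈ q.comap (algebraMap R R') := by
        rw [Ideal.mem_comap, ← hmul a t]
        exact Ideal.mul_mem_right _ _ hr'
      obtain ⟨s, hs, n, hn⟩ := h2 a ha
      refine ⟨algebraMap R R' s, hs, n, ?_⟩
      have h0 : (algebraMap R R' (s * a ^ n)) • x = 0 := by rw [algebraMap_smul, hn]
      rw [map_mul, map_pow, ← hmul a t, mul_pow, ← mul_assoc, mul_comm, mul_smul] at h0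
      exact ((hunit t).pow n).smul_eq_zero.mp h0

end Localization

section Surjective

theorem weakAss_eq_image_comap_of_surjective {R' : Type*} [CommRing R'] [Algebra R R']
    [Module R' M] [IsScalarTower R R' M] (hf : Function.Surjective (algebraMap R R')) :
    FlatCA.weakAss R M = Ideal.comap (algebraMap R R') '' FlatCA.weakAss R' M := by
  have hann : ∀ m : M, (Submodule.span R {m}).annihilator =
      (Submodule.span R' {m}).annihilator.comap (algebraMap R R') := fun m => by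
    ext r
    rw [Ideal.mem_comap, mem_ann, mem_ann, algebraMap_smul]
  ext p
  constructor
  · rintro ⟨m, hm⟩
    rw [hann, Ideal.comap_minimalPrimes_eq_of_surjective hf] at hm
    obtain ⟨q, hq, rfl⟩ := hm
    exact ⟨q, ⟨m, hq⟩, rfl⟩
  · rintro ⟨q, ⟨m, hm⟩, rfl⟩
    refine ⟨m, ?_⟩
    rw [hann]
    exact Ideal.minimalPrimes_comap_of_surjective hf hm

end Surjective

end Groth.Agent.CAlg5
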