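import Groth.Prelude.Def_Found
import Mathlib.RingTheory.Localization.Integral
import Mathlib.RingTheory.Localization.Finiteness
import Mathlib.RingTheory.EssentialFiniteness
import Mathlib.RingTheory.IntegralClosure.IsIntegralClosure.Basic

set_option autoImplicit false

universe u

namespace Groth.Agent.CAlg5

/-- Finite generation of the integral closure, phrased on elements. -/
theorem finite_integralClosure_iff (R L : Type*) [CommRing R] [CommRing L] [Algebra R L] :
    Module.Finite R (integralClosure R L) ↔
      ∃ T : Finset L, (∀ t ∈ T, IsIntegral R t) ∧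
        ∀ x, IsIntegral R x → x ∈ Submodule.span R (T : Set L) := by
  constructor
  · intro h
    have hfg : (integralClosure R L).toSubmodule.FG :=
      Module.Finite.iff_fg.mp (inferInstanceAs (Module.Finite R (integralClosure R L)))
    obtain ⟨T, hT⟩ := hfg
    refine ⟨T, fun t ht => ?_, fun x hx => ?_⟩
    · have : t ∈ (integralClosure R L).toSubmodule := hT ▸ Submodule.subset_span ht
      exact this
    · rw [hT]; exact hx
  · rintro ⟨T, h1, h2⟩
    have hfg : (integralClosure R L).toSubmodule.FG :=
      ⟨T, le_antisymm (Submodule.span_le.mpr fun t ht => h1 t ht) fun x hx => h2 x hx⟩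
    exact Module.Finite.iff_fg.mpr hfg

theorem finite_integralClosure_of_algEquiv {R L L' : Type*} [CommRing R] [CommRing L] [CommRing L']
    [Algebra R L] [Algebra R L'] (e : L ≃ₐ[R] L') (h : Module.Finite R (integralClosure R L)) :
    Module.Finite R (integralClosure R L') :=
  Module.Finite.equiv (AlgEquiv.mapIntegralClosure e).toLinearEquiv

theorem algebraMap_injective_of_fractionRing (R L : Type*) [CommRing R] [IsDomain R] [Field L]
    [Algebra R L] [Algebra (FractionRing R) L] [IsScalarTower R (FractionRing R) L] :
    Function.Injective (algebraMap R L) := by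
  rw [IsScalarTower.algebraMap_eq R (FractionRing R) L, RingHom.coe_comp]
  exact (algebraMap (FractionRing R) L).injective.comp (IsFractionRing.injective R _)

/-- N-1 through any fraction field. -/
theorem isN1_iff (R : Type u) [CommRing R] [IsDomain R] (K : Type*) [Field K] [Algebra R K]
    [IsFractionRing R K] : CAlg.IsN1 R ↔ Module.Finite R (integralClosure R K) :=
  ⟨finite_integralClosure_of_algEquiv (IsLocalization.algEquiv (nonZeroDivisors R) (FractionRing R) K),
    finite_integralClosure_of_algEquiv (IsLocalization.algEquiv (nonZeroDivisors R) K (FractionRing R))⟩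

/-- N-2 through any fraction field. -/
theorem IsN2.finite {R : Type u} [CommRing R] [IsDomain R] (h : CAlg.IsN2 R) (K : Type*) [Field K]
    [Algebra R K] [IsFractionRing R K] (L : Type u) [Field L] [Algebra K L] [Algebra R L]
    [IsScalarTower R K L] [FiniteDimensional K L] : Module.Finite R (integralClosure R L) := by
  let φ := IsLocalization.algEquiv (nonZeroDivisors R) (FractionRing R) K
  let : Algebra (FractionRing R) L := ((algebraMap K L).comp φ.toRingEquiv.toRingHom).toAlgebra
  have : IsScalarTower R (FractionRing R) L := IsScalarTower.of_algebraMap_eq fun r => by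
    show algebraMap R L r = algebraMap K L (φ (algebraMap R (FractionRing R) r))
    rw [φ.commutes, IsScalarTower.algebraMap_apply R K L]
  refine h L ?_
  obtain ⟨s, hs⟩ := (Module.Finite.fg_top : (⊤ : Submodule K L).FG)
  refine Module.finite_def.mpr ⟨s, eq_top_iff.mpr ?_⟩
  intro x hx0
  clear hx0
  have hx : x ∈ Submodule.span K (s : Set L) := hs ▸ trivial
  induction hx using Submodule.span_induction with
  | mem a ha => exact Submodule.subset_span ha
  | zero => exact zero_mem _
  | add a b _ _ ha hb => exact add_mem ha hb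
  | smul c a _ ha =>
    have hc : c • a = (φ.symm c) • a := by
      rw [Algebra.smul_def, Algebra.smul_def]
      show _ = algebraMap K L (φ (φ.symm c)) * a
      rw [φ.apply_symm_apply]
    rw [hc]
    exact Submodule.smul_mem _ _ ha

theorem finite_integralClosure_localization (R : Type*) [CommRing R] (M : Submonoid R) (S : Type*)
    [CommRing S] [Algebra R S] [IsLocalization M S] (L : Type*) [CommRing L] [Algebra R L]
    [Algebra S L] [IsScalarTower R S L] (h : Module.Finite R (integralClosure R L)) :
    Module.Finite S (integralClosure S L) := by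
  obtain ⟨T, h1, h2⟩ := (finite_integralClosure_iff R L).mp h
  refine (finite_integralClosure_iff S L).mpr ⟨T, fun t ht => (h1 t ht).tower_top, fun x hx => ?_⟩
  obtain ⟨m, hm⟩ := IsIntegral.exists_multiple_integral_of_isLocalization M x hx
  obtain ⟨v, hv⟩ := IsLocalization.map_units S m
  have h3 : x = (↑v⁻¹ : S) • (m • x) := by
    rw [Submonoid.smul_def, ← algebraMap_smul S (m : R) x, ← hv, smul_smul, Units.inv_mul, one_smul]
  rw [h3]
  exact Submodule.smul_mem _ _ (Submodule.span_le_restrictScalars R S _ (h2 _ hm))

/-- The descent step along a localization away from one element. -/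
theorem exists_finset_of_finite_integralClosure_away {R : Type*} [CommRing R] (f : R) (Rf : Type*)
    [CommRing Rf] [Algebra R Rf] [IsLocalization.Away f Rf] (L : Type*) [CommRing L] [Algebra R L]
    [Algebra Rf L] [IsScalarTower R Rf L] (h : Module.Finite Rf (integralClosure Rf L)) :
    ∃ T : Finset L, (∀ t ∈ T, IsIntegral R t) ∧
      ∀ x, IsIntegral R x → ∃ k : ℕ, f ^ k • x ∈ Submodule.span R (T : Set L) := by
  classical
  obtain ⟨T, h1, h2⟩ := (finite_integralClosure_iff Rf L).mp h
  have hT : ∀ t ∈ T, ∃ k : ℕ, IsIntegral R (f ^ k • t) := fun t ht => by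
    obtain ⟨⟨_, k, rfl⟩, hk⟩ :=
      IsIntegral.exists_multiple_integral_of_isLocalization (Submonoid.powers f) t (h1 t ht)
    exact ⟨k, hk⟩
  choose! k hk using hT
  refine ⟨T.image fun t => f ^ k t • t, fun s hs => ?_, fun x hx => ?_⟩
  · obtain ⟨t, ht, rfl⟩ := Finset.mem_image.mp hs
    exact hk t ht
  have hsp : ∀ y ∈ Submodule.span Rf (T : Set L),
      ∃ n : ℕ, f ^ n • y ∈ Submodule.span R ((T.image fun t => f ^ k t • t : Finset L) : Set L) := by
    intro y hy
    induction hy using Submodule.span_induction with
    | mem t ht => exact ⟨k t, Submodule.subset_span (Finset.mem_image_of_mem _ ht)⟩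
    | zero => exact ⟨0, by simp⟩
    | add a b _ _ ha hb =>
      obtain ⟨⟨i, hi⟩, ⟨j, hj⟩⟩ := ha, hb
      refine ⟨i + j, ?_⟩
      rw [smul_add]
      refine add_mem ?_ ?_
      · rw [add_comm, pow_add, mul_smul]; exact Submodule.smul_mem _ _ hi
      · rw [pow_add, mul_smul]; exact Submodule.smul_mem _ _ hj
    | smul c a _ ha =>
      obtain ⟨i, hi⟩ := ha
      obtain ⟨⟨r, _, j, rfl⟩, hrj⟩ := IsLocalization.surj (Submonoid.powers f) c
      refine ⟨j + i, ?_⟩
      have : f ^ (j + i) • c • a = r • f ^ i • a := by
        rw [pow_add, mul_smul, smul_comm (f ^ i) c a, ← algebraMap_smul Rf (f ^ j), smul_smul,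
          mul_comm, hrj, algebraMap_smul]
      rw [this]
      exact Submodule.smul_mem _ _ hi
  exact hsp x (h2 x hx.tower_top)

/-- Gluing finiteness of the integral closure over a cover by principal opens. -/
theorem finite_integralClosure_of_span_eq_top {R : Type*} [CommRing R] (L : Type*) [CommRing L]
    [Algebra R L] {ι : Type*} [Finite ι] (f : ι → R) (hf : Ideal.span (Set.range f) = ⊤)
    (h : ∀ i, ∃ T : Finset L, (∀ t ∈ T, IsIntegral R t) ∧
      ∀ x, IsIntegral R x → ∃ k : ℕ, f i ^ k • x ∈ Submodule.span R (T : Set L)) :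
    Module.Finite R (integralClosure R L) := by
  classical
  have := Fintype.ofFinite ι
  choose T hT1 hT2 using h
  refine (finite_integralClosure_iff R L).mpr ⟨Finset.univ.biUnion T, fun t ht => ?_, fun x hx => ?_⟩
  · obtain ⟨i, -, hi⟩ := Finset.mem_biUnion.mp ht
    exact hT1 i t hi
  refine Submodule.mem_of_span_eq_top_of_smul_pow_mem _ (Set.range f) hf x ?_
  rintro ⟨_, i, rfl⟩
  obtain ⟨k, hk⟩ := hT2 i x hx
  exact ⟨k, Submodule.span_mono (fun t ht => Finset.mem_biUnion.mpr ⟨i, Finset.mem_univ i, ht⟩) hk⟩

theorem trivial_cover_data {R : Type*} [CommRing R] (L : Type*) [CommRing L] [Algebra R L] :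
    ∃ T : Finset L, (∀ t ∈ T, IsIntegral R t) ∧
      ∀ x, IsIntegral R x → ∃ k : ℕ, (0 : R) ^ k • x ∈ Submodule.span R (T : Set L) :=
  ⟨∅, by simp, fun x _ => ⟨1, by simp⟩⟩

theorem isFractionRing_comp {R : Type*} [CommRing R] [IsDomain R] (M : Submonoid R) (S : Type*)
    [CommRing S] [IsDomain S] [Algebra R S] [IsLocalization M S] (K : Type*) [Field K] [Algebra S K]
    [IsFractionRing S K] [Algebra R K] [IsScalarTower R S K] : IsFractionRing R K := by
  have hM : M ≤ nonZeroDivisors R := fun m hm => mem_nonZeroDivisors_of_ne_zero fun h0 => by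
    have := IsLocalization.map_units S ⟨m, hm⟩
    rw [show ((⟨m, hm⟩ : M) : R) = 0 from h0, map_zero, isUnit_zero_iff] at this
    exact zero_ne_one this
  have hinj : Function.Injective (algebraMap R K) := by
    rw [IsScalarTower.algebraMap_eq R S K, RingHom.coe_comp]
    exact (IsFractionRing.injective S K).comp (IsLocalization.injective S hM)
  have : FaithfulSMul R K := (faithfulSMul_iff_algebraMap_injective R K).mpr hinj
  refine IsFractionRing.of_field R K fun z => ?_
  obtain ⟨a, b, hb, rfl⟩ := IsFractionRing.div_surjective (A := S) z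
  obtain ⟨⟨a', s⟩, ha⟩ := IsLocalization.surj M a
  obtain ⟨⟨b', t⟩, hb'⟩ := IsLocalization.surj M b
  refine ⟨a' * t, b' * s, ?_⟩
  have hs : algebraMap R K s ≠ 0 :=
    fun h => nonZeroDivisors.ne_zero (hM s.2) (hinj (by rw [h, map_zero]))
  have ht : algebraMap R K t ≠ 0 :=
    fun h => nonZeroDivisors.ne_zero (hM t.2) (hinj (by rw [h, map_zero]))
  have e1 := congrArg (algebraMap S K) ha
  have e2 := congrArg (algebraMap S K) hb'
  simp only [map_mul, ← IsScalarTower.algebraMap_apply R S K] at e1 e2
  rw [map_mul, map_mul, ← e1, ← e2]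
  field_simp

theorem isN1_localization {R : Type u} [CommRing R] [IsDomain R] (M : Submonoid R)
    (S : Type u) [CommRing S] [IsDomain S] [Algebra R S] [IsLocalization M S]
    (h : CAlg.IsN1 R) : CAlg.IsN1 S := by
  have : IsFractionRing R (FractionRing S) := isFractionRing_comp M S (FractionRing S)
  exact finite_integralClosure_localization R M S _ ((isN1_iff R (FractionRing S)).mp h)

theorem isN2_localization {R : Type u} [CommRing R] [IsDomain R] (M : Submonoid R)
    (S : Type u) [CommRing S] [IsDomain S] [Algebra R S] [IsLocalization M S]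
    (h : CAlg.IsN2 R) : CAlg.IsN2 S := by
  have : IsFractionRing R (FractionRing S) := isFractionRing_comp M S (FractionRing S)
  intro L _ _ _ _ _
  let : Algebra R L := ((algebraMap S L).comp (algebraMap R S)).toAlgebra
  have : IsScalarTower R S L := IsScalarTower.of_algebraMap_eq fun _ => rfl
  have : IsScalarTower R (FractionRing S) L := IsScalarTower.of_algebraMap_eq fun r => by
    rw [IsScalarTower.algebraMap_apply R S (FractionRing S), ← IsScalarTower.algebraMap_apply S _ L]
    rfl
  exact finite_integralClosure_localization R M S L (IsN2.finite h (FractionRing S) L)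

/-- N-2 is local for a cover by principal opens (vanishing functions allowed). -/
theorem isN2_of_cover {R : Type u} [CommRing R] [IsDomain R]
    {ι : Type u} [Finite ι] (f : ι → R) (hf : Ideal.span (Set.range f) = ⊤)
    (h : ∀ i, f i ≠ 0 → ∃ (Rf : Type u) (_ : CommRing Rf) (_ : IsDomain Rf) (_ : Algebra R Rf),
      IsLocalization.Away (f i) Rf ∧ CAlg.IsN2 Rf) : CAlg.IsN2 R := by
  intro L _ _ _ _ _
  have hinj := algebraMap_injective_of_fractionRing R L
  refine finite_integralClosure_of_span_eq_top L f hf fun i => ?_
  by_cases h0 : f i = 0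
  · rw [h0]; exact trivial_cover_data L
  obtain ⟨Rf, _, _, _, hloc, hN⟩ := h i h0
  have hu : IsUnit (algebraMap R (FractionRing R) (f i)) :=
    isUnit_iff_ne_zero.mpr fun hz => h0 (IsFractionRing.injective R _ (by rw [hz, map_zero]))
  let : Algebra Rf (FractionRing R) := (IsLocalization.Away.lift (f i) hu).toAlgebra
  have : IsScalarTower R Rf (FractionRing R) := IsScalarTower.of_algebraMap_eq fun r =>
    (IsLocalization.Away.lift_eq (f i) hu r).symm
  have : IsFractionRing Rf (FractionRing R) :=
    IsFractionRing.isFractionRing_of_isDomain_of_isLocalization (Submonoid.powers (f i)) Rf _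
  let : Algebra Rf L := ((algebraMap (FractionRing R) L).comp (algebraMap Rf (FractionRing R))).toAlgebra
  have : IsScalarTower Rf (FractionRing R) L := IsScalarTower.of_algebraMap_eq fun _ => rfl
  have : IsScalarTower R Rf L := IsScalarTower.of_algebraMap_eq fun r => by
    show algebraMap R L r = algebraMap (FractionRing R) L (algebraMap Rf _ (algebraMap R Rf r))
    rw [← IsScalarTower.algebraMap_apply R Rf, ← IsScalarTower.algebraMap_apply R (FractionRing R) L]
  exact exists_finset_of_finite_integralClosure_away (f i) Rf L (IsN2.finite hN (FractionRing R) L)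

end Groth.Agent.CAlg5
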