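import Mathlib
import Groth.Agent.EGA4H10.RegAway

/-! Smooth points of algebras over a field are regular. -/

set_option autoImplicit false
universe u

namespace Groth.Agent.CAlg5

theorem regular_of_isSmoothAt (k A : Type u) [Field k] [CommRing A] [Algebra k A]
    [Algebra.FiniteType k A] (q : Ideal A) [q.IsPrime] [Algebra.IsSmoothAt k q] :
    IsRegularLocalRing (Localization.AtPrime q) := by
  have : Algebra.FinitePresentation k A := Algebra.FinitePresentation.of_finiteType.mp ‹_›
  obtain ⟨f, hf, hst⟩ := Algebra.IsSmoothAt.exists_notMem_isStandardSmooth (R := k) q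
  have h' : (algebraMap k (Localization.Away f)).IsStandardSmooth :=
    RingHom.isStandardSmooth_algebraMap.2 hst
  obtain ⟨n, g, hg, het⟩ := h'.exists_etale_mvPolynomial
  algebraize [g]
  have : Algebra.Etale (MvPolynomial (Fin n) k) (Localization.Away f) := het
  have hd : Disjoint (Submonoid.powers f : Set A) q := by
    refine Set.disjoint_left.mpr ?_
    rintro _ ⟨i, rfl⟩ hx
    exact hf (‹q.IsPrime›.mem_of_pow_mem i hx)
  set Q := q.map (algebraMap A (Localization.Away f))
  have : Q.IsPrime := IsLocalization.isPrime_of_isPrime_disjoint (Submonoid.powers f) _ q ‹_› hd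
  have hQ : Q.comap (algebraMap A (Localization.Away f)) = q :=
    IsLocalization.under_map_of_isPrime_disjoint (Submonoid.powers f) _ ‹_› hd
  have : IsRegularRing (MvPolynomial (Fin n) k) := inferInstance
  have : IsRegularLocalRing (Localization.AtPrime (Q.comap (algebraMap (MvPolynomial (Fin n) k) (Localization.Away f)))) :=
    IsRegularRing.isRegularLocalRing_localization _
  have : IsRegularLocalRing (Localization.AtPrime Q) :=
    EGA4H10.regular_of_etaleAt (R := MvPolynomial (Fin n) k) Q
  have : IsLocalization.AtPrime (Localization.AtPrime Q) q := by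
    convert IsLocalization.isLocalization_isLocalization_atPrime_isLocalization (Submonoid.powers f)
      (Localization.AtPrime Q) Q
    exact hQ.symm
  exact IsRegularLocalRing.of_ringEquiv (IsLocalization.algEquiv q.primeCompl
    (Localization.AtPrime Q) (Localization.AtPrime q)).toRingEquiv

end Groth.Agent.CAlg5
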