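import Mathlib
import Groth.Prelude.Def_CAlgX
import Groth.Agent.FSAdic12.Basic
import Groth.Agent.CAlg6.CompleteSurj
import Groth.Agent.Sep12.Basic

/-! Adic formal smoothness and completions. -/

set_option autoImplicit false
universe u

namespace Groth.Agent.CAlg5

section

variable {R : Type u} [CommRing R] (I : Ideal R)

theorem evalₐ_eq_zero_iff (h : I.FG) (n : ℕ) (x : AdicCompletion I R) :
    AdicCompletion.evalₐ I n x = 0 ↔ x ∈ I.map (algebraMap R (AdicCompletion I R)) ^ n := by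
  have heq : (I ^ n • ⊤ : Ideal R) = I ^ n := by simp
  have h0 : AdicCompletion.evalₐ I n x = 0 ↔ AdicCompletion.eval I R n x = 0 := by
    constructor
    · intro h0
      rw [← AdicCompletion.factor_evalₐ_eq_eval I x heq.ge, h0, map_zero]
    · intro h0
      rw [← AdicCompletion.factor_eval_eq_evalₐ I x heq.le, h0, map_zero]
  rw [h0, ← LinearMap.mem_ker, ← AdicCompletion.pow_smul_top_eq_ker_eval h, ← Ideal.map_pow,
    Ideal.smul_top_eq_map, Submodule.restrictScalars_mem]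

theorem exists_sub_mem_pow (h : I.FG) (n : ℕ) (x : AdicCompletion I R) :
    ∃ r : R, x - algebraMap R (AdicCompletion I R) r ∈
      I.map (algebraMap R (AdicCompletion I R)) ^ n := by
  obtain ⟨r, hr⟩ := Ideal.Quotient.mk_surjective (AdicCompletion.evalₐ I n x)
  refine ⟨r, (evalₐ_eq_zero_iff I h n _).1 ?_⟩
  rw [map_sub, AlgHom.commutes, Ideal.Quotient.algebraMap_eq, hr, sub_self]

theorem mem_pow_of_algebraMap_mem (h : I.FG) (n : ℕ) (r : R)
    (hr : algebraMap R (AdicCompletion I R) r ∈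
      I.map (algebraMap R (AdicCompletion I R)) ^ n) : r ∈ I ^ n := by
  have h1 := (evalₐ_eq_zero_iff I h n _).2 hr
  rwa [AlgHom.commutes, Ideal.Quotient.algebraMap_eq, Ideal.Quotient.eq_zero_iff_mem] at h1

end

section

variable {R S T : Type u} [CommRing R] [CommRing S] [CommRing T] [Algebra R S] [Algebra S T]
  [Algebra R T] [IsScalarTower R S T] {𝔫 : Ideal S}

theorem isAdicFormallySmooth_of_dense
    (hdense : ∀ (k : ℕ) (t : T), ∃ s : S, t - algebraMap S T s ∈ 𝔫.map (algebraMap S T) ^ k)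
    (hcomap : ∀ (k : ℕ) (s : S), algebraMap S T s ∈ 𝔫.map (algebraMap S T) ^ k → s ∈ 𝔫 ^ k)
    (h : CAlgX.IsAdicFormallySmooth R S 𝔫) :
    CAlgX.IsAdicFormallySmooth R T (𝔫.map (algebraMap S T)) := by
  intro A _ _ J hJ ψ ⟨k, hk⟩
  obtain ⟨χ₀, hχ₀⟩ := h A J hJ (ψ.comp (IsScalarTower.toAlgHom R S T)) ⟨k, fun x hx => hk _
    (by rw [← Ideal.map_pow]; exact Ideal.mem_map_of_mem _ hx)⟩
  obtain ⟨m, hm⟩ := FSAdic12.continuous_of_lift ⟨2, hJ⟩ 𝔫 χ₀ k fun x hx =>
    (AlgHom.congr_fun hχ₀ x).trans (hk _ (by rw [← Ideal.map_pow]; exact Ideal.mem_map_of_mem _ hx))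
  choose g hg using hdense (m + k)
  have key : ∀ (t : T) (s : S), t - algebraMap S T s ∈ 𝔫.map (algebraMap S T) ^ (m + k) →
      χ₀ (g t) = χ₀ s := by
    intro t s hs
    rw [← sub_eq_zero, ← map_sub]
    refine hm _ (Ideal.pow_le_pow_right (Nat.le_add_right m k) (hcomap _ _ ?_))
    rw [map_sub]
    have := Ideal.sub_mem _ hs (hg t)
    rwa [sub_sub_sub_cancel_left] at this
  have hadd : ∀ a b, χ₀ (g (a + b)) = χ₀ (g a) + χ₀ (g b) := fun a b => by
    rw [← map_add]
    refine key _ _ ?_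
    rw [map_add, add_sub_add_comm]
    exact add_mem (hg a) (hg b)
  have hmul : ∀ a b, χ₀ (g (a * b)) = χ₀ (g a) * χ₀ (g b) := fun a b => by
    rw [← map_mul]
    refine key _ _ ?_
    rw [map_mul, show a * b - algebraMap S T (g a) * algebraMap S T (g b) =
      (a - algebraMap S T (g a)) * b + algebraMap S T (g a) * (b - algebraMap S T (g b)) by ring]
    exact add_mem (Ideal.mul_mem_right _ _ (hg a)) (Ideal.mul_mem_left _ _ (hg b))
  have hcom : ∀ r : R, χ₀ (g (algebraMap R T r)) = algebraMap R A r := fun r => by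
    rw [key _ (algebraMap R S r) (by
      rw [← IsScalarTower.algebraMap_apply, sub_self]; exact zero_mem _), AlgHom.commutes]
  have h1 : χ₀ (g 1) = 1 := by simpa using hcom 1
  have h0 : χ₀ (g 0) = 0 := by simpa using hcom 0
  let χ : T →ₐ[R] A :=
    { toFun := fun t => χ₀ (g t)
      map_one' := h1
      map_mul' := hmul
      map_zero' := h0
      map_add' := hadd
      commutes' := hcom }
  refine ⟨χ, AlgHom.ext fun t => ?_⟩
  have h2 : ψ t = ψ (algebraMap S T (g t)) := by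
    rw [← sub_eq_zero, ← map_sub]
    exact hk _ (Ideal.pow_le_pow_right (Nat.le_add_left k m) (hg t))
  rw [h2]
  exact AlgHom.congr_fun hχ₀ (g t)

theorem isAdicFormallySmooth_of_dense_rev
    (hdense : ∀ (k : ℕ) (t : T), ∃ s : S, t - algebraMap S T s ∈ 𝔫.map (algebraMap S T) ^ k)
    (hcomap : ∀ (k : ℕ) (s : S), algebraMap S T s ∈ 𝔫.map (algebraMap S T) ^ k → s ∈ 𝔫 ^ k)
    (h : CAlgX.IsAdicFormallySmooth R T (𝔫.map (algebraMap S T))) :
    CAlgX.IsAdicFormallySmooth R S 𝔫 := by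
  intro A _ _ J hJ ψ ⟨k, hk⟩
  choose g hg using hdense k
  have key : ∀ (t : T) (s : S), t - algebraMap S T s ∈ 𝔫.map (algebraMap S T) ^ k →
      ψ (g t) = ψ s := by
    intro t s hs
    rw [← sub_eq_zero, ← map_sub]
    refine hk _ (hcomap _ _ ?_)
    rw [map_sub]
    have := Ideal.sub_mem _ hs (hg t)
    rwa [sub_sub_sub_cancel_left] at this
  have hadd : ∀ a b, ψ (g (a + b)) = ψ (g a) + ψ (g b) := fun a b => by
    rw [← map_add]
    refine key _ _ ?_
    rw [map_add, add_sub_add_comm]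
    exact add_mem (hg a) (hg b)
  have hmul : ∀ a b, ψ (g (a * b)) = ψ (g a) * ψ (g b) := fun a b => by
    rw [← map_mul]
    refine key _ _ ?_
    rw [map_mul, show a * b - algebraMap S T (g a) * algebraMap S T (g b) =
      (a - algebraMap S T (g a)) * b + algebraMap S T (g a) * (b - algebraMap S T (g b)) by ring]
    exact add_mem (Ideal.mul_mem_right _ _ (hg a)) (Ideal.mul_mem_left _ _ (hg b))
  have hcom : ∀ r : R, ψ (g (algebraMap R T r)) = algebraMap R (A ⧸ J) r := fun r => by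
    rw [key _ (algebraMap R S r) (by
      rw [← IsScalarTower.algebraMap_apply, sub_self]; exact zero_mem _), AlgHom.commutes]
  let ψ' : T →ₐ[R] A ⧸ J :=
    { toFun := fun t => ψ (g t)
      map_one' := by simpa using hcom 1
      map_mul' := hmul
      map_zero' := by simpa using hcom 0
      map_add' := hadd
      commutes' := hcom }
  have hker : ∀ t ∈ 𝔫.map (algebraMap S T) ^ k, ψ' t = 0 := fun t ht =>
    (key t 0 (by simpa using ht)).trans (map_zero _)
  obtain ⟨χ, hχ⟩ := h A J hJ ψ' ⟨k, hker⟩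
  refine ⟨χ.comp (IsScalarTower.toAlgHom R S T), AlgHom.ext fun s => ?_⟩
  refine (AlgHom.congr_fun hχ (algebraMap S T s)).trans ?_
  exact key _ s (by rw [sub_self]; exact zero_mem _)

theorem isAdicFormallySmooth_iff_of_dense
    (hdense : ∀ (k : ℕ) (t : T), ∃ s : S, t - algebraMap S T s ∈ 𝔫.map (algebraMap S T) ^ k)
    (hcomap : ∀ (k : ℕ) (s : S), algebraMap S T s ∈ 𝔫.map (algebraMap S T) ^ k → s ∈ 𝔫 ^ k) :
    CAlgX.IsAdicFormallySmooth R S 𝔫 ↔
      CAlgX.IsAdicFormallySmooth R T (𝔫.map (algebraMap S T)) :=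
  ⟨isAdicFormallySmooth_of_dense hdense hcomap, isAdicFormallySmooth_of_dense_rev hdense hcomap⟩

end

section

variable {R S T : Type u} [CommRing R] [CommRing S] [CommRing T] [Algebra R S] [Algebra R T]

theorem isAdicFormallySmooth_iff_completion (𝔫 : Ideal S) (h : 𝔫.FG) :
    CAlgX.IsAdicFormallySmooth R S 𝔫 ↔
      CAlgX.IsAdicFormallySmooth R (AdicCompletion 𝔫 S)
        (𝔫.map (algebraMap S (AdicCompletion 𝔫 S))) :=
  isAdicFormallySmooth_iff_of_dense (exists_sub_mem_pow 𝔫 h) (mem_pow_of_algebraMap_mem 𝔫 h)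

theorem isAdicFormallySmooth_of_equiv (e : S ≃ₐ[R] T) (𝔫 : Ideal S)
    (h : CAlgX.IsAdicFormallySmooth R S 𝔫) :
    CAlgX.IsAdicFormallySmooth R T (𝔫.map e) := by
  intro A _ _ J hJ ψ ⟨k, hk⟩
  obtain ⟨χ, hχ⟩ := h A J hJ (ψ.comp e.toAlgHom) ⟨k, fun x hx => hk _ (by
    rw [← Ideal.map_pow]; exact Ideal.mem_map_of_mem _ hx)⟩
  refine ⟨χ.comp e.symm.toAlgHom, AlgHom.ext fun t => ?_⟩
  refine (AlgHom.congr_fun hχ (e.symm t)).trans ?_
  exact congrArg ψ (e.apply_symm_apply t)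

theorem isAdicFormallySmooth_of_formallySmooth [Algebra.FormallySmooth R S] (𝔫 : Ideal S) :
    CAlgX.IsAdicFormallySmooth R S 𝔫 := fun _ _ _ J hJ ψ _ =>
  ⟨Algebra.FormallySmooth.lift J ⟨2, hJ⟩ ψ, Algebra.FormallySmooth.comp_lift J ⟨2, hJ⟩ ψ⟩

theorem isAdicFormallySmooth_mvPowerSeries {P K : Type u} [Field P] [PerfectField P] [Field K]
    [Algebra P K] (n : ℕ) :
    CAlgX.IsAdicFormallySmooth P (MvPowerSeries (Fin n) K)
      (IsLocalRing.maximalIdeal (MvPowerSeries (Fin n) K)) := by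
  have : Algebra.FormallySmooth P K := Sep12.formallySmooth_of_perfectField P K
  have : Algebra.FormallySmooth P (MvPolynomial (Fin n) K) :=
    Algebra.FormallySmooth.comp P K (MvPolynomial (Fin n) K)
  have : IsScalarTower P (MvPolynomial (Fin n) K) (MvPowerSeries (Fin n) K) :=
    IsScalarTower.of_algebraMap_eq fun p => by
      rw [MvPowerSeries.algebraMap_apply]
      simp [MvPolynomial.algebraMap_eq, IsScalarTower.algebraMap_apply P K (MvPolynomial (Fin n) K),
        MvPowerSeries.algebraMap_apply, RingHom.algebraMap_toAlgebra]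
  let e : MvPowerSeries (Fin n) K ≃ₐ[P]
      AdicCompletion (MvPolynomial.idealOfVars (Fin n) K) (MvPolynomial (Fin n) K) :=
    (MvPowerSeries.toAdicCompletionAlgEquiv (Fin n) K).restrictScalars P
  have h := isAdicFormallySmooth_of_equiv e.symm _
    ((isAdicFormallySmooth_iff_completion _ (MvPolynomial.idealOfVars_fg (Fin n) K)).1
      (isAdicFormallySmooth_of_formallySmooth (R := P) (MvPolynomial.idealOfVars (Fin n) K)))
  convert h using 1
  rw [CAlg6.maximalIdeal_eq_span_X]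
  simp only [MvPolynomial.idealOfVars, Ideal.map_span, ← Set.range_comp]
  congr 2
  funext i
  refine Eq.trans ?_ ((MvPowerSeries.toAdicCompletionAlgEquiv (Fin n) K).symm.commutes
    (MvPolynomial.X i)).symm
  simp [RingHom.algebraMap_toAlgebra]

theorem isAdicFormallySmooth_iff_completion_map {R S : Type u} [CommRing R] [CommRing S]
    [Algebra R S] (𝔪 : Ideal R) (𝔫 : Ideal S) (h𝔪 : 𝔪.FG) (h𝔫 : 𝔫.FG)
    (hc : ∃ c : ℕ, (𝔪 ^ c).map (algebraMap R S) ≤ 𝔫)
    (ψ : AdicCompletion 𝔪 R →+* AdicCompletion 𝔫 S)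
    (hψ : ψ.comp (algebraMap R (AdicCompletion 𝔪 R)) =
      (algebraMap S (AdicCompletion 𝔫 S)).comp (algebraMap R S)) :
    CAlgX.IsAdicFormallySmooth R S 𝔫 ↔
      letI : Algebra (AdicCompletion 𝔪 R) (AdicCompletion 𝔫 S) := ψ.toAlgebra
      CAlgX.IsAdicFormallySmooth (AdicCompletion 𝔪 R) (AdicCompletion 𝔫 S)
        (𝔫.map (algebraMap S (AdicCompletion 𝔫 S))) := by
  rw [isAdicFormallySmooth_iff_completion 𝔫 h𝔫]
  let _ : Algebra (AdicCompletion 𝔪 R) (AdicCompletion 𝔫 S) := ψ.toAlgebra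
  have : IsScalarTower R (AdicCompletion 𝔪 R) (AdicCompletion 𝔫 S) :=
    IsScalarTower.of_algebraMap_eq fun r => by
      rw [RingHom.algebraMap_toAlgebra]
      refine Eq.trans ?_ (RingHom.congr_fun hψ r).symm
      exact IsScalarTower.algebraMap_apply R S (AdicCompletion 𝔫 S) r
  obtain ⟨c, hc⟩ := hc
  let 𝔫' := 𝔫.map (algebraMap S (AdicCompletion 𝔫 S))
  have hmap : ∀ k : ℕ, (𝔪.map (algebraMap R (AdicCompletion 𝔪 R)) ^ (c * k)).map ψ ≤ 𝔫' ^ k := by
    intro k
    rw [pow_mul, Ideal.map_pow, ← Ideal.map_pow (algebraMap R (AdicCompletion 𝔪 R)) 𝔪 c,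
      Ideal.map_map, hψ, ← Ideal.map_map]
    exact Ideal.pow_right_mono (Ideal.map_mono hc) k
  constructor
  · intro h A _ _ J hJ φ ⟨k, hk⟩
    let _ : Algebra R A := Algebra.compHom A (algebraMap R (AdicCompletion 𝔪 R))
    have : IsScalarTower R (AdicCompletion 𝔪 R) A := IsScalarTower.of_algebraMap_eq fun _ => rfl
    obtain ⟨χ, hχ⟩ := h A J hJ (φ.restrictScalars R) ⟨k, hk⟩
    obtain ⟨m, hm⟩ := FSAdic12.continuous_of_lift ⟨2, hJ⟩ 𝔫' χ k fun x hx =>
      (AlgHom.congr_fun hχ x).trans (hk x hx)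
    let ι := algebraMap (AdicCompletion 𝔪 R) A
    have h1 : ∀ x ∈ 𝔪.map (algebraMap R (AdicCompletion 𝔪 R)) ^ (c * m), ι x = 0 := by
      have h2 : (𝔪 ^ (c * m)).map (algebraMap R (AdicCompletion 𝔪 R)) ≤ RingHom.ker ι := by
        refine Ideal.map_le_iff_le_comap.2 fun r hr => ?_
        show ι (algebraMap R (AdicCompletion 𝔪 R) r) = 0
        rw [← IsScalarTower.algebraMap_apply, ← χ.commutes r]
        refine hm _ (hmap m ?_)
        rw [IsScalarTower.algebraMap_apply R (AdicCompletion 𝔪 R) (AdicCompletion 𝔫 S)]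
        exact Ideal.mem_map_of_mem ψ (by rw [← Ideal.map_pow]; exact Ideal.mem_map_of_mem _ hr)
      intro x hx
      exact h2 (by rwa [Ideal.map_pow])
    have hlin : ∀ x, χ (ψ x) = ι x := by
      intro x
      obtain ⟨r, hr⟩ := exists_sub_mem_pow 𝔪 h𝔪 (c * m) x
      have h3 : χ (ψ (x - algebraMap R _ r)) = 0 := hm _ (hmap m (Ideal.mem_map_of_mem ψ hr))
      have h4 : ι (x - algebraMap R _ r) = 0 := h1 _ hr
      rw [map_sub, map_sub, sub_eq_zero] at h3
      rw [map_sub, sub_eq_zero] at h4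
      have h5 : χ (ψ (algebraMap R (AdicCompletion 𝔪 R) r)) =
          ι (algebraMap R (AdicCompletion 𝔪 R) r) := by
        refine Eq.trans ?_ ((χ.commutes r).trans (IsScalarTower.algebraMap_apply R _ A r))
        exact congrArg χ (IsScalarTower.algebraMap_apply R (AdicCompletion 𝔪 R)
          (AdicCompletion 𝔫 S) r).symm
      rw [h3, h4, h5]
    exact ⟨{ χ.toRingHom with commutes' := hlin }, AlgHom.ext fun s => AlgHom.congr_fun hχ s⟩
  · intro h A _ _ J hJ φ ⟨k, hk⟩
    have hkill : ∀ r ∈ 𝔪 ^ (c * k * 2), algebraMap R A r = 0 := by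
      have h2 : (𝔪 ^ (c * k)).map (algebraMap R A) ≤ J := by
        refine Ideal.map_le_iff_le_comap.2 fun r hr => ?_
        refine (Ideal.Quotient.eq_zero_iff_mem (I := J)).1 ?_
        refine (φ.commutes r).symm.trans (hk _ (hmap k ?_))
        rw [IsScalarTower.algebraMap_apply R (AdicCompletion 𝔪 R) (AdicCompletion 𝔫 S)]
        exact Ideal.mem_map_of_mem ψ (by rw [← Ideal.map_pow]; exact Ideal.mem_map_of_mem _ hr)
      intro r hr
      have := Ideal.mem_map_of_mem (algebraMap R A) hr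
      rw [pow_mul, Ideal.map_pow] at this
      exact Ideal.mem_bot.1 (hJ ▸ Ideal.pow_right_mono h2 2 this)
    let ι : AdicCompletion 𝔪 R →ₐ[R] A :=
      (Ideal.Quotient.liftₐ (𝔪 ^ (c * k * 2)) (Algebra.ofId R A) hkill).comp
        (AdicCompletion.evalₐ 𝔪 (c * k * 2))
    let _ : Algebra (AdicCompletion 𝔪 R) A := ι.toRingHom.toAlgebra
    have : IsScalarTower R (AdicCompletion 𝔪 R) A :=
      IsScalarTower.of_algebraMap_eq fun r => (ι.commutes r).symm
    have hlin : ∀ x, φ (ψ x) = algebraMap (AdicCompletion 𝔪 R) (A ⧸ J) x := by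
      intro x
      obtain ⟨r, hr⟩ := exists_sub_mem_pow 𝔪 h𝔪 (c * k * 2) x
      have h3 : φ (ψ (x - algebraMap R _ r)) = 0 := hk _ (hmap k (Ideal.mem_map_of_mem ψ
        (Ideal.pow_le_pow_right (Nat.le_mul_of_pos_right _ two_pos) hr)))
      have h4 : ι (x - algebraMap R _ r) = 0 := by
        rw [AlgHom.comp_apply, (evalₐ_eq_zero_iff 𝔪 h𝔪 _ _).2 hr, map_zero]
      rw [map_sub, map_sub, sub_eq_zero] at h3
      rw [map_sub, sub_eq_zero, AlgHom.commutes] at h4
      rw [h3]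
      refine Eq.trans ?_ (congrArg (Ideal.Quotient.mk J) h4).symm
      refine Eq.trans ?_ (φ.commutes r)
      exact congrArg φ (IsScalarTower.algebraMap_apply R (AdicCompletion 𝔪 R)
        (AdicCompletion 𝔫 S) r).symm
    obtain ⟨χ, hχ⟩ := h A J hJ { φ.toRingHom with commutes' := hlin } ⟨k, hk⟩
    exact ⟨χ.restrictScalars R, AlgHom.ext fun s => AlgHom.congr_fun hχ s⟩

end

end Groth.Agent.CAlg5
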