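import Mathlib
import Groth.Agent.SGA3a.FiniteComplete
import Groth.Agent.CAlg1.Complete
import Groth.Agent.Frg27.RigClosed

/-! A finite algebra over a complete Noetherian local ring is a product of complete local rings. -/

set_option autoImplicit false
universe u

namespace Groth.Agent.CAlg5

open IsLocalRing

variable (A : Type u) [CommRing A] [IsLocalRing A] [IsNoetherianRing A]
  [IsAdicComplete (maximalIdeal A) A] (C : Type u) [CommRing C] [Algebra A C] [Module.Finite A C]

include A in
theorem finite_maximalSpectrum_and_idempotent :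
    Finite (MaximalSpectrum C) ∧ ∀ M : MaximalSpectrum C, ∃ e : C, IsIdempotentElem e ∧
      e ∉ M.asIdeal ∧ ∀ N : MaximalSpectrum C, N ≠ M → e ∈ N.asIdeal := by
  have := SGA3a.isAdicComplete_map_of_finite (A := A) C
  set J := (maximalIdeal A).map (algebraMap A C) with hJdef
  have hJ : J ≤ Ideal.jacobson ⊥ := IsAdicComplete.le_jacobson_bot J
  have hfin : Module.Finite (A ⧸ maximalIdeal A) (C ⧸ J) := Module.Finite.of_restrictScalars_finite A _ _
  let : Field (A ⧸ maximalIdeal A) := Ideal.Quotient.field _
  have hart : IsArtinianRing (C ⧸ J) := IsArtinianRing.of_finite (A ⧸ maximalIdeal A) _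
  let φ : MaximalSpectrum C → PrimeSpectrum (C ⧸ J) := fun M =>
    ⟨M.asIdeal.map (Ideal.Quotient.mk J), Ideal.map_isPrime_of_surjective Ideal.Quotient.mk_surjective
      (by rw [Ideal.mk_ker]; exact hJ.trans (sInf_le ⟨bot_le, M.isMaximal⟩))⟩
  have hφ : ∀ M : MaximalSpectrum C, (φ M).asIdeal.comap (Ideal.Quotient.mk J) = M.asIdeal := fun M => by
    show (M.asIdeal.map (Ideal.Quotient.mk J)).comap _ = _
    rw [Ideal.comap_map_quotientMk, sup_eq_right.mpr (hJ.trans (sInf_le ⟨bot_le, M.isMaximal⟩))]
  have hφi : Function.Injective φ := fun M N h => MaximalSpectrum.ext (by rw [← hφ M, h, hφ N])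
  refine ⟨Finite.of_injective φ hφi, fun M => ?_⟩
  have : Nontrivial C := ⟨0, 1, fun h => M.isMaximal.ne_top ((Ideal.eq_top_iff_one _).mpr (h ▸ zero_mem _))⟩
  obtain ⟨e, f, hef, hef1, hpe⟩ := PrimeSpectrum.isClopen_iff_mul_add.1
    (isClopen_discrete ({φ M} : Set (PrimeSpectrum (C ⧸ J))))
  have he : IsIdempotentElem e := by
    show e * e = e
    calc e * e = e * e + e * f := by rw [hef, add_zero]
      _ = e := by rw [← mul_add, hef1, mul_one]
  obtain ⟨a₀, ha₀⟩ := Ideal.Quotient.mk_surjective e
  have hh : HenselianRing C J := inferInstance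
  obtain ⟨a, ha, haa⟩ := hh.is_henselian (Polynomial.X ^ 2 - Polynomial.X)
    (Polynomial.monic_X_pow_sub (by rw [Polynomial.degree_X]; norm_num)) a₀
    (by rw [← Ideal.Quotient.eq_zero_iff_mem]; simp [ha₀, pow_two, he.eq])
    (by
      refine IsUnit.of_mul_eq_one (2 * e - 1) ?_
      simp [Polynomial.derivative_sub, ha₀]
      linear_combination (4 : C ⧸ J) * he.eq)
  have hae : Ideal.Quotient.mk J a = e := by rw [← ha₀]; exact Ideal.Quotient.eq.2 haa
  refine ⟨a, by simpa [IsIdempotentElem, Polynomial.IsRoot, sub_eq_zero, pow_two] using ha, fun h => ?_, fun N hN => ?_⟩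
  · have hM : φ M ∈ ({φ M} : Set _) := rfl
    rw [hpe] at hM
    exact hM (by rw [← hae]; exact Ideal.mem_map_of_mem _ h)
  · rw [← hφ N, Ideal.mem_comap, hae]
    by_contra hc
    have hNM : φ N ∈ (PrimeSpectrum.basicOpen e : Set _) := hc
    rw [← hpe] at hNM
    exact hN (hφi hNM)

theorem isUnit_of_forall_notMem {R : Type u} [CommRing R] {x : R}
    (h : ∀ N : MaximalSpectrum R, x ∉ N.asIdeal) : IsUnit x := by
  by_contra hx
  obtain ⟨N, hN, hxN⟩ := Ideal.exists_le_maximal (Ideal.span {x})
    (fun h => hx (Ideal.span_singleton_eq_top.mp h))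
  exact h ⟨N, hN⟩ (hxN (Ideal.mem_span_singleton_self x))

variable {A C}

theorem localization_surjective {M : MaximalSpectrum C} {e : C} (he : IsIdempotentElem e)
    (heM : e ∉ M.asIdeal) (heN : ∀ N : MaximalSpectrum C, N ≠ M → e ∈ N.asIdeal) :
    Function.Surjective (algebraMap C (Localization.AtPrime M.asIdeal)) := by
  have he1 : algebraMap C (Localization.AtPrime M.asIdeal) e = 1 :=
    (IsIdempotentElem.iff_eq_one_of_isUnit (IsLocalization.map_units _ (⟨e, heM⟩ : M.asIdeal.primeCompl))).mp (he.map _)
  intro z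
  obtain ⟨⟨c, s⟩, rfl⟩ := IsLocalization.mk'_surjective M.asIdeal.primeCompl z
  obtain ⟨w, hw⟩ : IsUnit (e * s.1 + (1 - e)) := isUnit_of_forall_notMem fun N hN => by
    by_cases h : N = M
    · subst h
      have h1 : (1 - e) ∈ N.asIdeal := (N.isMaximal.isPrime.mem_or_mem
        (by rw [mul_sub, mul_one, he.eq, sub_self]; exact zero_mem _ : e * (1 - e) ∈ N.asIdeal)).resolve_left heM
      have h2 : e * s.1 ∈ N.asIdeal := by simpa using sub_mem hN h1
      exact (N.isMaximal.isPrime.mem_or_mem h2).elim heM s.2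
    · have := heN N h
      exact N.isMaximal.ne_top ((Ideal.eq_top_iff_one _).mpr (by
        simpa using add_mem (sub_mem hN (Ideal.mul_mem_right s.1 _ this)) this))
  refine ⟨c * ↑w⁻¹, ?_⟩
  rw [IsLocalization.eq_mk'_iff_mul_eq, ← map_mul]
  have : algebraMap C (Localization.AtPrime M.asIdeal) (w : C) = algebraMap C _ s.1 := by
    rw [hw, map_add, map_mul, map_sub, map_one, he1, one_mul, sub_self, add_zero]
  rw [map_mul, ← this, ← map_mul, mul_assoc, Units.inv_mul, mul_one]

variable (A C)

include A in
theorem isAdicComplete_localization (M : MaximalSpectrum C) :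
    IsNoetherianRing (Localization.AtPrime M.asIdeal) ∧
      IsAdicComplete (maximalIdeal (Localization.AtPrime M.asIdeal)) (Localization.AtPrime M.asIdeal) := by
  have : IsNoetherianRing C := IsNoetherianRing.of_finite A C
  have : IsNoetherianRing (Localization.AtPrime M.asIdeal) :=
    IsLocalization.isNoetherianRing M.asIdeal.primeCompl _ inferInstance
  obtain ⟨e, he, heM, heN⟩ := (finite_maximalSpectrum_and_idempotent A C).2 M
  let L := Localization.AtPrime M.asIdeal
  have : Module.Finite A L := Module.Finite.of_surjective (IsScalarTower.toAlgHom A C L).toLinearMap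
    (localization_surjective he heM heN)
  have := SGA3a.isAdicComplete_map_of_finite (A := A) L
  set J := (maximalIdeal A).map (algebraMap A L)
  have hfin : Module.Finite (A ⧸ maximalIdeal A) (L ⧸ J) := Module.Finite.of_restrictScalars_finite A _ _
  let : Field (A ⧸ maximalIdeal A) := Ideal.Quotient.field _
  have hart : IsArtinianRing (L ⧸ J) := IsArtinianRing.of_finite (A ⧸ maximalIdeal A) _
  obtain ⟨n, hn⟩ := IsLocalRing.exists_maximalIdeal_pow_le_of_isArtinianRing_quotient J
  have : IsAdicComplete (maximalIdeal L ^ (n + 1)) L :=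
    CAlg1.isAdicComplete_of_le ((Ideal.pow_le_pow_right n.le_succ).trans hn) (IsNoetherian.noetherian _)
  exact ⟨inferInstance, Frg27.isAdicComplete_of_pow (N := n)⟩

include A in
theorem bijective_pi_localization :
    Function.Bijective (algebraMap C ((m : MaximalSpectrum C) → Localization.AtPrime m.asIdeal)) := by
  classical
  obtain ⟨hfin, he⟩ := finite_maximalSpectrum_and_idempotent A C
  have := Fintype.ofFinite (MaximalSpectrum C)
  choose e he heM heN using he
  refine ⟨MaximalSpectrum.toPiLocalization_injective C, fun z => ?_⟩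
  choose c hc using fun M => localization_surjective (he M) (heM M) (heN M) (z M)
  refine ⟨∑ M, e M * c M, funext fun M => ?_⟩
  rw [Pi.algebraMap_apply, map_sum, Finset.sum_eq_single M]
  · rw [map_mul, (IsIdempotentElem.iff_eq_one_of_isUnit (IsLocalization.map_units _
      (⟨e M, heM M⟩ : M.asIdeal.primeCompl))).mp ((he M).map _), one_mul, hc]
  · intro N _ hN
    have h0 : algebraMap C (Localization.AtPrime M.asIdeal) (e N) = 0 := by
      refine IsLocalization.map_eq_zero_iff M.asIdeal.primeCompl _ _ |>.mpr ⟨⟨1 - e N, fun h => ?_⟩, ?_⟩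
      · exact M.isMaximal.ne_top ((Ideal.eq_top_iff_one _).mpr (by simpa using add_mem h (heN N M hN.symm)))
      · show (1 - e N) * e N = 0
        rw [sub_mul, one_mul, (he N).eq, sub_self]
    rw [map_mul, h0, zero_mul]
  · simp

end Groth.Agent.CAlg5
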