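import Mathlib
import Groth.Prelude.Def_Found
import Groth.Agent.Sep12.Basic
import Groth.Agent.CAlg5.SmoothRegular

/-! Geometric regularity: smooth maps, directed unions of fields, separable extensions. -/

set_option autoImplicit false
universe u

open TensorProduct

namespace Groth.Agent.CAlg5

/-- a smooth algebra over a regular ring is regular -/
theorem isRegularRing_of_smooth (R A : Type u) [CommRing R] [IsRegularRing R] [CommRing A]
    [Algebra R A] [Algebra.Smooth R A] : IsRegularRing A := by
  have : IsNoetherianRing A := Algebra.FiniteType.isNoetherianRing R A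
  refine isRegularRing_iff.mpr fun q _ => ?_
  obtain ⟨f, hf, hst⟩ := Algebra.IsSmoothAt.exists_notMem_isStandardSmooth (R := R) q
  have h' : (algebraMap R (Localization.Away f)).IsStandardSmooth :=
    RingHom.isStandardSmooth_algebraMap.2 hst
  obtain ⟨n, g, hg, het⟩ := h'.exists_etale_mvPolynomial
  algebraize [g]
  have : Algebra.Etale (MvPolynomial (Fin n) R) (Localization.Away f) := het
  have hd : Disjoint (Submonoid.powers f : Set A) q := by
    refine Set.disjoint_left.mpr ?_
    rintro _ ⟨i, rfl⟩ hx
    exact hf (‹q.IsPrime›.mem_of_pow_mem i hx)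
  set Q := q.map (algebraMap A (Localization.Away f))
  have : Q.IsPrime := IsLocalization.isPrime_of_isPrime_disjoint (Submonoid.powers f) _ q ‹_› hd
  have hQ : Q.comap (algebraMap A (Localization.Away f)) = q :=
    IsLocalization.under_map_of_isPrime_disjoint (Submonoid.powers f) _ ‹_› hd
  have : IsRegularRing (MvPolynomial (Fin n) R) := inferInstance
  have : IsRegularLocalRing (Localization.AtPrime (Q.comap (algebraMap (MvPolynomial (Fin n) R) (Localization.Away f)))) :=
    IsRegularRing.isRegularLocalRing_localization _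
  have : IsRegularLocalRing (Localization.AtPrime Q) :=
    EGA4H10.regular_of_etaleAt (R := MvPolynomial (Fin n) R) Q
  have : IsLocalization.AtPrime (Localization.AtPrime Q) q := by
    convert IsLocalization.isLocalization_isLocalization_atPrime_isLocalization (Submonoid.powers f)
      (Localization.AtPrime Q) Q
    exact hQ.symm
  exact IsRegularLocalRing.of_ringEquiv (IsLocalization.algEquiv q.primeCompl
    (Localization.AtPrime Q) (Localization.AtPrime q)).toRingEquiv

theorem regular_congr {T : Type u} [CommRing T] {P Q : Ideal T} [P.IsPrime] [Q.IsPrime] (h : P = Q)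
    (hr : IsRegularLocalRing (Localization.AtPrime P)) : IsRegularLocalRing (Localization.AtPrime Q) := by
  subst h; exact hr

/-- the local ring of a quotient by an ideal vanishing at the prime -/
theorem regular_iff_of_surjective {T S : Type u} [CommRing T] [CommRing S] (π : T →+* S)
    (hπ : Function.Surjective π) (P : Ideal S) [P.IsPrime]
    (hJ : ∀ j ∈ RingHom.ker π, ∃ s ∉ P.comap π, s * j = 0) :
    IsRegularLocalRing (Localization.AtPrime (P.comap π)) ↔
      IsRegularLocalRing (Localization.AtPrime P) := by
  let f := Localization.localRingHom (P.comap π) P π rfl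
  have hs : Function.Surjective f := RingHom.surjective_localRingHom_of_surjective π hπ P
  have hi : Function.Injective f := by
    rw [injective_iff_map_eq_zero]
    intro z hz
    obtain ⟨⟨t, s⟩, rfl⟩ := IsLocalization.mk'_surjective (P.comap π).primeCompl z
    rw [Localization.localRingHom_mk', IsLocalization.mk'_eq_zero_iff] at hz
    obtain ⟨⟨u, hu⟩, hut⟩ := hz
    obtain ⟨u', rfl⟩ := hπ u
    obtain ⟨v, hv, hvt⟩ := hJ (u' * t) (by rw [RingHom.mem_ker, map_mul]; exact hut)
    rw [IsLocalization.mk'_eq_zero_iff]
    exact ⟨⟨v * u', (P.comap π).primeCompl.mul_mem hv hu⟩, by rw [mul_assoc]; exact hvt⟩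
  exact ⟨fun _ => IsRegularLocalRing.of_ringEquiv (RingEquiv.ofBijective f ⟨hi, hs⟩),
    fun _ => IsRegularLocalRing.of_ringEquiv (RingEquiv.ofBijective f ⟨hi, hs⟩).symm⟩

theorem isRegularRing_of_idempotent_quotient {T S : Type u} [CommRing T] [CommRing S] [IsRegularRing T]
    (π : T →+* S) (hπ : Function.Surjective π) (e : T) (he : IsIdempotentElem e)
    (hker : RingHom.ker π = Ideal.span {e}) : IsRegularRing S := by
  have : IsNoetherianRing S := isNoetherianRing_of_surjective T S π hπ
  refine isRegularRing_iff.mpr fun P _ => ?_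
  refine (regular_iff_of_surjective π hπ P fun j hj => ⟨1 - e, fun h => ?_, ?_⟩).mp inferInstance
  · rw [Ideal.mem_comap, map_sub, map_one,
      (RingHom.mem_ker (f := π)).mp (hker.ge (Ideal.mem_span_singleton_self e)), sub_zero] at h
    exact ‹P.IsPrime›.ne_top ((Ideal.eq_top_iff_one _).mpr h)
  · rw [hker, Ideal.mem_span_singleton] at hj
    obtain ⟨c, rfl⟩ := hj
    rw [← mul_assoc, sub_mul, one_mul, he.eq, sub_self, zero_mul]

/-- a finite field extension of a directed union of fields comes from one of the fields -/
theorem exists_descent (k k' : Type u) [Field k] [Field k'] [Algebra k k'] [Module.Finite k k']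
    {ι : Type u} [Nonempty ι] (K : ι → Type u) [∀ i, Field (K i)] [∀ i, Algebra (K i) k]
    (hdir : ∀ i j, ∃ l, Set.range (algebraMap (K i) k) ⊆ Set.range (algebraMap (K l) k) ∧
      Set.range (algebraMap (K j) k) ⊆ Set.range (algebraMap (K l) k))
    (hcov : ∀ x : k, ∃ i, x ∈ Set.range (algebraMap (K i) k)) :
    ∃ (i : ι) (l : Type u) (_ : Field l) (_ : Algebra (K i) l), Module.Finite (K i) l ∧
      ∀ (A : Type u) [CommRing A] [Algebra k A] [Algebra (K i) A] [IsScalarTower (K i) k A],
        Nonempty ((l ⊗[K i] A) ≃+* (k' ⊗[k] A)) := by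
  classical
  have hset : ∀ s : Finset k, ∃ i, (s : Set k) ⊆ Set.range (algebraMap (K i) k) := by
    intro s
    induction s using Finset.induction_on with
    | empty => exact ⟨Classical.arbitrary ι, by simp⟩
    | insert x s _ ih =>
      obtain ⟨i, hi⟩ := ih
      obtain ⟨j, hj⟩ := hcov x
      obtain ⟨l, hil, hjl⟩ := hdir i j
      exact ⟨l, by rw [Finset.coe_insert, Set.insert_subset_iff]; exact ⟨hjl hj, hi.trans hil⟩⟩
  let b := Module.finBasis k k'
  let d := Module.finrank k k'
  obtain ⟨i, hi⟩ := hset ((Finset.univ.image fun x : Fin d × Fin d × Fin d => b.repr (b x.1 * b x.2.1) x.2.2) ∪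
    (Finset.univ.image fun j : Fin d => b.repr 1 j))
  let : Algebra (K i) k' := ((algebraMap k k').comp (algebraMap (K i) k)).toAlgebra
  have : IsScalarTower (K i) k k' := IsScalarTower.of_algebraMap_eq fun _ => rfl
  let M : Submodule (K i) k' := Submodule.span (K i) (Set.range b)
  have hmem : ∀ x : k', (∀ j, b.repr x j ∈ Set.range (algebraMap (K i) k)) → x ∈ M := by
    intro x hx
    rw [← b.sum_repr x]
    refine Submodule.sum_mem _ fun j _ => ?_
    obtain ⟨c, hc⟩ := hx j
    rw [← hc, algebraMap_smul]
    exact Submodule.smul_mem _ _ (Submodule.subset_span ⟨j, rfl⟩)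
  have h1 : (1 : k') ∈ M := hmem 1 fun j => hi (by simp)
  have hmul : ∀ x y, x ∈ M → y ∈ M → x * y ∈ M := fun x y hx hy => by
    refine (Submodule.span_induction (p := fun x _ => ∀ y ∈ M, x * y ∈ M) ?_ ?_ ?_ ?_ hx) y hy
    · rintro _ ⟨j, rfl⟩ y hy
      refine Submodule.span_induction (p := fun y _ => b j * y ∈ M) ?_ ?_ ?_ ?_ hy
      · rintro _ ⟨j', rfl⟩
        exact hmem _ fun j'' => hi (by
          rw [Finset.coe_union]
          exact Or.inl (by simpa using ⟨j, j', j'', rfl⟩))
      · simp
      · intro a c _ _ ha hc; rw [mul_add]; exact add_mem ha hc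
      · intro r a _ ha; rw [mul_smul_comm]; exact M.smul_mem r ha
    · intro y _; simp
    · intro a c _ _ ha hc y hy; rw [add_mul]; exact add_mem (ha y hy) (hc y hy)
    · intro r a _ ha y hy; rw [smul_mul_assoc]; exact M.smul_mem r (ha y hy)
  let l : Subalgebra (K i) k' := M.toSubalgebra h1 hmul
  have hli : LinearIndependent (K i) b :=
    b.linearIndependent.restrict_scalars (by
      intro x y h
      simpa [Algebra.smul_def, (algebraMap (K i) k).injective.eq_iff] using h)
  let bl : Module.Basis (Fin d) (K i) l := Module.Basis.span hli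
  have hbl : ∀ j, (bl j : k') = b j := fun j => congrArg Subtype.val (Module.Basis.span_apply hli j)
  have : Module.Finite (K i) l := Module.Finite.of_basis bl
  have hfield : IsField l := isField_of_isIntegral_of_isField' (Field.toIsField (K i))
  let := hfield.toField
  refine ⟨i, l, inferInstance, inferInstance, inferInstance, fun A _ _ _ _ => ?_⟩
  let φ : k ⊗[K i] l →ₐ[k] k' :=
    Algebra.TensorProduct.lift (Algebra.ofId k k') l.val fun _ _ => Commute.all _ _
  have hφ : φ.toLinearMap = ((bl.baseChange k).equiv b (Equiv.refl _)).toLinearMap := by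
    refine (bl.baseChange k).ext fun j => ?_
    rw [LinearEquiv.coe_coe, Module.Basis.equiv_apply, Module.Basis.baseChange_apply]
    show φ ((1 : k) ⊗ₜ bl j) = b j
    rw [Algebra.TensorProduct.lift_tmul, map_one, one_mul]
    exact hbl j
  have hbij : Function.Bijective φ := by
    show Function.Bijective φ.toLinearMap
    rw [hφ]
    exact ((bl.baseChange k).equiv b (Equiv.refl _)).bijective
  exact ⟨(Algebra.TensorProduct.comm (K i) l A).toRingEquiv.trans <|
    (Algebra.TensorProduct.cancelBaseChange (K i) k k A l).symm.toRingEquiv.trans <|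
    (Algebra.TensorProduct.congr (AlgEquiv.refl (R := k) (A₁ := A)) (AlgEquiv.ofBijective φ hbij)).toRingEquiv.trans <|
    (Algebra.TensorProduct.comm k A k').toRingEquiv⟩

theorem isGeometricallyRegular_of_directed (k : Type u) [Field k] {ι : Type u}
    (K : ι → Type u) [∀ i, Field (K i)] [∀ i, Algebra (K i) k]
    (hdir : ∀ i j, ∃ l, Set.range (algebraMap (K i) k) ⊆ Set.range (algebraMap (K l) k) ∧
      Set.range (algebraMap (K j) k) ⊆ Set.range (algebraMap (K l) k))
    (hcov : ∀ x : k, ∃ i, x ∈ Set.range (algebraMap (K i) k))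
    (A : Type u) [CommRing A] [Algebra k A] [∀ i, Algebra (K i) A]
    [∀ i, IsScalarTower (K i) k A] (h : ∀ i, CAlg.IsGeometricallyRegular (K i) A) :
    CAlg.IsGeometricallyRegular k A := by
  intro k' _ _ _
  have : Nonempty ι := ⟨(hcov 0).choose⟩
  obtain ⟨i, l, _, _, hl, he⟩ := exists_descent k k' K hdir hcov
  obtain ⟨e⟩ := he A
  have := h i l hl
  exact IsRegularRing.of_ringEquiv e

/-- geometric regularity restricts along a finite separable subextension -/
theorem isGeometricallyRegular_of_finite_separable (k F : Type u) [Field k] [Field F] [Algebra k F]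
    [Module.Finite k F] [Algebra.IsSeparable k F] (A : Type u) [CommRing A] [Algebra k A] [Algebra F A]
    [IsScalarTower k F A] (h : CAlg.IsGeometricallyRegular k A) :
    CAlg.IsGeometricallyRegular F A := by
  intro l _ _ _
  let : Algebra k l := ((algebraMap F l).comp (algebraMap k F)).toAlgebra
  have : IsScalarTower k F l := IsScalarTower.of_algebraMap_eq fun _ => rfl
  have : Module.Finite k l := Module.Finite.trans F l
  have : IsRegularRing (l ⊗[k] A) := h l inferInstance
  let π : l ⊗[k] A →ₐ[k] l ⊗[F] A :=
    Algebra.TensorProduct.productMap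
      ((Algebra.TensorProduct.includeLeft : l →ₐ[F] l ⊗[F] A).restrictScalars k)
      ((Algebra.TensorProduct.includeRight : A →ₐ[F] l ⊗[F] A).restrictScalars k)
  have hπt : ∀ x a, π (x ⊗ₜ a) = x ⊗ₜ a := fun x a => by simp [π]
  have hπ : Function.Surjective π := fun z => by
    induction z using TensorProduct.induction_on with
    | zero => exact ⟨0, map_zero _⟩
    | tmul x a => exact ⟨x ⊗ₜ a, hπt x a⟩
    | add a b ha hb =>
      obtain ⟨⟨a, rfl⟩, ⟨b, rfl⟩⟩ := ha, hb
      exact ⟨a + b, map_add _ _ _⟩
  have : Algebra.FormallyUnramified k F := Algebra.FormallyUnramified.of_isSeparable k F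
  have : Algebra.EssFiniteType k F := inferInstance
  obtain ⟨e, he, hD⟩ := ((KaehlerDifferential.ideal k F).isIdempotentElem_iff_of_fg
    (KaehlerDifferential.ideal_fg k F)).mp
    ((Ideal.cotangent_subsingleton_iff _).mp (inferInstanceAs (Subsingleton Ω[F⁄k])))
  let ψ : F ⊗[k] F →ₐ[k] l ⊗[k] A :=
    Algebra.TensorProduct.map (IsScalarTower.toAlgHom k F l) (IsScalarTower.toAlgHom k F A)
  refine isRegularRing_of_idempotent_quotient π.toRingHom hπ (ψ e) (he.map ψ) (le_antisymm ?_ ?_)
  · set J := Ideal.span {ψ e}
    have hD' : ∀ z ∈ KaehlerDifferential.ideal k F, ψ z ∈ J := fun z hz => by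
      rw [hD] at hz
      obtain ⟨c, rfl⟩ := Ideal.mem_span_singleton'.mp hz
      rw [map_mul]
      exact Ideal.mul_mem_left _ _ (Ideal.mem_span_singleton_self _)
    let : Algebra F ((l ⊗[k] A) ⧸ J) :=
      ((Ideal.Quotient.mk J).comp ((algebraMap l (l ⊗[k] A)).comp (algebraMap F l))).toAlgebra
    let f : l →ₐ[F] (l ⊗[k] A) ⧸ J :=
      { toRingHom := (Ideal.Quotient.mk J).comp (algebraMap l (l ⊗[k] A))
        commutes' := fun _ => rfl }
    let g : A →ₐ[F] (l ⊗[k] A) ⧸ J :=
      { toRingHom := (Ideal.Quotient.mk J).comp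
          (Algebra.TensorProduct.includeRight : A →ₐ[k] l ⊗[k] A).toRingHom
        commutes' := fun a => by
          show Ideal.Quotient.mk J ((1 : l) ⊗ₜ algebraMap F A a) = Ideal.Quotient.mk J (algebraMap F l a ⊗ₜ 1)
          rw [Ideal.Quotient.eq]
          have := hD' _ (KaehlerDifferential.one_smul_sub_smul_one_mem_ideal k a)
          simpa [ψ] using this }
    let θ : l ⊗[F] A →ₐ[F] (l ⊗[k] A) ⧸ J := Algebra.TensorProduct.productMap f g
    intro z hz
    have key : ∀ z, θ (π z) = Ideal.Quotient.mk J z := fun z => by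
      induction z using TensorProduct.induction_on with
      | zero => simp
      | tmul x a =>
        rw [hπt, Algebra.TensorProduct.productMap_apply_tmul]
        show Ideal.Quotient.mk J (x ⊗ₜ 1) * Ideal.Quotient.mk J (1 ⊗ₜ a) = _
        rw [← map_mul, Algebra.TensorProduct.tmul_mul_tmul, mul_one, one_mul]
      | add a b ha hb => rw [map_add, map_add, ha, hb, map_add]
    have h0 := key z
    rw [show π z = 0 from hz, map_zero] at h0
    exact Ideal.Quotient.eq_zero_iff_mem.mp h0.symm
  · rw [Ideal.span_le, Set.singleton_subset_iff]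
    show π (ψ e) = 0
    have : ∀ z, π (ψ z) = algebraMap F (l ⊗[F] A) (Algebra.TensorProduct.lmul' k z) := fun z => by
      induction z using TensorProduct.induction_on with
      | zero => simp
      | tmul a b =>
        simp only [ψ, Algebra.TensorProduct.map_tmul, IsScalarTower.coe_toAlgHom', hπt,
          Algebra.TensorProduct.lmul'_apply_tmul, map_mul]
        rw [Algebra.TensorProduct.algebraMap_apply, Algebra.TensorProduct.algebraMap_apply',
          Algebra.TensorProduct.tmul_mul_tmul, mul_one, one_mul]
      | add a b ha hb => simp only [map_add, ha, hb]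
    rw [this, show Algebra.TensorProduct.lmul' k e = 0 from hD.ge (Ideal.mem_span_singleton_self e), map_zero]

theorem isGeometricallyRegular_iff_of_separable (k k' : Type u) [Field k] [Field k'] [Algebra k k']
    [Algebra.IsSeparable k k'] (A : Type u) [CommRing A] [Algebra k' A] [Algebra k A]
    [IsScalarTower k k' A] [IsNoetherianRing A] :
    CAlg.IsGeometricallyRegular k A ↔ CAlg.IsGeometricallyRegular k' A := by
  refine ⟨fun h => ?_, fun h => ?_⟩
  · let ι := {F : IntermediateField k k' // FiniteDimensional k F}
    refine isGeometricallyRegular_of_directed k' (fun F : ι => F.1) (fun i j => ?_) (fun x => ?_) A fun F => ?_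
    · have := i.2; have := j.2
      refine ⟨⟨i.1 ⊔ j.1, IntermediateField.finiteDimensional_sup i.1 j.1⟩, ?_, ?_⟩
      · rintro _ ⟨a, rfl⟩; exact ⟨⟨a, (le_sup_left : i.1 ≤ i.1 ⊔ j.1) a.2⟩, rfl⟩
      · rintro _ ⟨a, rfl⟩; exact ⟨⟨a, (le_sup_right : j.1 ≤ i.1 ⊔ j.1) a.2⟩, rfl⟩
    · exact ⟨⟨_, IntermediateField.adjoin.finiteDimensional (Algebra.IsSeparable.isSeparable k x).isIntegral⟩,
        ⟨x, IntermediateField.mem_adjoin_simple_self k x⟩, rfl⟩
    · have := F.2
      exact isGeometricallyRegular_of_finite_separable k F.1 A h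
  · intro l _ _ _
    have : Algebra.FormallyEtale k k' := Algebra.FormallyEtale.of_isSeparable k k'
    have : Algebra.IsGeometricallyReduced k k' :=
      Sep12.formallySmooth_iff_isGeometricallyReduced.mp inferInstance
    let E := k' ⊗[k] l
    have : IsReduced E :=
      isReduced_of_injective (Algebra.TensorProduct.comm k k' l) (AlgEquiv.injective _)
    have : Module.Finite k' E := inferInstance
    have : IsArtinianRing E := isArtinian_of_tower k' inferInstance
    -- the base change to each residue field of `E` is regular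
    let T := A ⊗[k'] E
    have hT : IsRegularRing T := by
      have : IsNoetherianRing T := isNoetherian_of_tower A inferInstance
      refine isRegularRing_iff.mpr fun P _ => ?_
      let ι : E →ₐ[k'] T := Algebra.TensorProduct.includeRight
      let m := P.comap ι.toRingHom
      have : m.IsPrime := Ideal.IsPrime.comap _
      have : m.IsMaximal := IsArtinianRing.isMaximal_of_isPrime m
      let := Ideal.Quotient.field m
      have : Module.Finite k' (E ⧸ m) := inferInstance
      have : IsRegularRing ((E ⧸ m) ⊗[k'] A) := h _ inferInstance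
      let π : T →ₐ[k'] A ⊗[k'] (E ⧸ m) :=
        Algebra.TensorProduct.map (AlgHom.id k' A) (Ideal.Quotient.mkₐ k' m)
      have : IsRegularRing (A ⊗[k'] (E ⧸ m)) :=
        IsRegularRing.of_ringEquiv (Algebra.TensorProduct.comm k' (E ⧸ m) A).toRingEquiv
      have hπ : Function.Surjective π :=
        LinearMap.lTensor_surjective A (g := (Ideal.Quotient.mkₐ k' m).toLinearMap) Ideal.Quotient.mk_surjective
      have hker : RingHom.ker π.toRingHom = m.map ι := by
        have := Algebra.TensorProduct.lTensor_ker (A := A) (Ideal.Quotient.mkₐ k' m) Ideal.Quotient.mk_surjective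
        rw [show RingHom.ker (Ideal.Quotient.mkₐ k' m) = m from Ideal.mk_ker] at this
        exact this
      have hmP : m.map ι ≤ P := Ideal.map_le_iff_le_comap.mpr le_rfl
      have : (P.map π.toRingHom).IsPrime := Ideal.map_isPrime_of_surjective hπ (hker.le.trans hmP)
      have hP : (P.map π.toRingHom).comap π.toRingHom = P := by
        rw [Ideal.comap_map_of_surjective π.toRingHom hπ, ← RingHom.ker_eq_comap_bot, sup_eq_left.mpr (hker.le.trans hmP)]
      -- `m` is generated by an idempotent
      have hm2 : IsIdempotentElem m := by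
        refine le_antisymm Ideal.mul_le_left fun x hx => ?_
        obtain ⟨y, hy⟩ : ∃ y, x * x * y = x := by
          let φ := IsArtinianRing.equivPi E
          have hz : ∀ i, ∃ z, φ x i * φ x i * z = φ x i := fun i => by
            by_cases hx0 : φ x i = 0
            · exact ⟨0, by rw [hx0, mul_zero]⟩
            · obtain ⟨z, hz⟩ := Ideal.Quotient.exists_inv (I := i.asIdeal) hx0
              exact ⟨z, by rw [mul_assoc, hz, mul_one]⟩
          choose z hz using hz
          exact ⟨φ.symm z, φ.injective (by rw [map_mul, map_mul, φ.apply_symm_apply]; exact funext hz)⟩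
        rw [← hy]
        exact Ideal.mul_mem_right _ _ (Ideal.mul_mem_mul hx hx)
      obtain ⟨e, he, hme⟩ := (m.isIdempotentElem_iff_of_fg (IsNoetherian.noetherian m)).mp hm2
      have key := regular_iff_of_surjective π.toRingHom hπ (P.map π.toRingHom) fun j hj => by
        refine ⟨1 - ι e, ?_, ?_⟩
        · rw [hP]
          intro hc
          have hie : ι e ∈ P := hme.ge (Ideal.mem_span_singleton_self e)
          exact ‹P.IsPrime›.ne_top ((Ideal.eq_top_iff_one _).mpr (by simpa using add_mem hc hie))
        · rw [hker, hme, Ideal.submodule_span_eq, Ideal.map_span, Set.image_singleton,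
            Ideal.mem_span_singleton] at hj
          obtain ⟨c, rfl⟩ := hj
          rw [← mul_assoc, sub_mul, one_mul, (he.map ι).eq, sub_self, zero_mul]
      have h2 := key.mpr inferInstance
      exact regular_congr hP h2
    exact IsRegularRing.of_ringEquiv <|
      (Algebra.TensorProduct.cancelBaseChange k k' k' A l).toRingEquiv.trans
        (Algebra.TensorProduct.comm k A l).toRingEquiv

theorem isGeometricallyRegular_of_smooth (k A B : Type u) [Field k] [CommRing A] [Algebra k A]
    [CommRing B] [Algebra k B] [Algebra A B] [IsScalarTower k A B] [Algebra.Smooth A B]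
    (hA : CAlg.IsGeometricallyRegular k A) : CAlg.IsGeometricallyRegular k B := by
  intro l _ _ hl
  have : IsRegularRing (l ⊗[k] A) := hA l hl
  have : IsRegularRing (A ⊗[k] l) :=
    IsRegularRing.of_ringEquiv (Algebra.TensorProduct.comm k l A).toRingEquiv
  have := isRegularRing_of_smooth (A ⊗[k] l) ((A ⊗[k] l) ⊗[A] B)
  exact IsRegularRing.of_ringEquiv <|
    (Algebra.TensorProduct.comm A (A ⊗[k] l) B).toRingEquiv.trans <|
      (Algebra.TensorProduct.cancelBaseChange k A A B l).toRingEquiv.trans
        (Algebra.TensorProduct.comm k B l).toRingEquiv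

end Groth.Agent.CAlg5
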