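import Mathlib
import Groth.Prelude.Def_Found
import Groth.Agent.Sep12.Basic
import Groth.Agent.FlatMor67.RegularSmooth
import Groth.Agent.CAlg5.GeomRegular
import Groth.Agent.CAlg5.FlatDescent

/-! Geometric regularity and finitely generated field extensions. -/

set_option autoImplicit false
universe u

open TensorProduct

namespace Groth.Agent.CAlg5

theorem isRegularRing_of_isLocalization {T : Type u} [CommRing T] [IsRegularRing T] (M : Submonoid T)
    (L : Type u) [CommRing L] [Algebra T L] [IsLocalization M L] : IsRegularRing L := by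
  have : IsNoetherianRing L := IsLocalization.isNoetherianRing M L inferInstance
  refine isRegularRing_iff.mpr fun P _ => ?_
  have := IsRegularRing.isRegularLocalRing_localization (R := T) (P.comap (algebraMap T L))
  have : IsLocalization.AtPrime (Localization.AtPrime P) (P.comap (algebraMap T L)) :=
    IsLocalization.isLocalization_isLocalization_atPrime_isLocalization M _ P
  exact IsRegularLocalRing.of_ringEquiv (IsLocalization.algEquiv (P.comap (algebraMap T L)).primeCompl
    (Localization.AtPrime (P.comap (algebraMap T L))) (Localization.AtPrime P)).toRingEquiv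

/-- a finitely generated domain with formally smooth fraction field is smooth on a dense open -/
theorem exists_smooth_away {k T : Type u} [Field k] [CommRing T] [IsDomain T] [Algebra k T]
    [Algebra.FiniteType k T] [Algebra.FormallySmooth k (FractionRing T)] :
    ∃ f : T, f ≠ 0 ∧ Algebra.Smooth k (Localization.Away f) := by
  have : Algebra.FinitePresentation k T := Algebra.FinitePresentation.of_finiteType.mp ‹_›
  have : IsFractionRing T (Localization.AtPrime (⊥ : Ideal T)) := by
    show IsLocalization (nonZeroDivisors T) (Localization.AtPrime (⊥ : Ideal T))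
    have : (⊥ : Ideal T).primeCompl = nonZeroDivisors T := by
      ext x; simp [Ideal.primeCompl]
    rw [← this]; infer_instance
  have : Algebra.FormallySmooth k (Localization.AtPrime (⊥ : Ideal T)) :=
    Algebra.FormallySmooth.of_equiv
      ((FractionRing.algEquiv T (Localization.AtPrime (⊥ : Ideal T))).restrictScalars k)
  have : Algebra.IsSmoothAt k (⊥ : Ideal T) := this
  obtain ⟨f, hf, hst⟩ := Algebra.IsSmoothAt.exists_notMem_isStandardSmooth (R := k) (⊥ : Ideal T)
  exact ⟨f, by simpa using hf, inferInstance⟩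

/-- In a separably generated field a finite set lies in a smooth subalgebra -/
theorem exists_subalgebra_smooth (k K : Type u) [Field k] [Field K] [Algebra k K]
    [Algebra.IsGeometricallyReduced k K] (E : Finset K) :
    ∃ A : Subalgebra k K, (↑E : Set K) ⊆ (A : Set K) ∧ Algebra.Smooth k A := by
  let T := Algebra.adjoin k (↑E : Set K)
  have : Algebra.FiniteType k T := (Subalgebra.fg_iff_finiteType T).mp ⟨E, rfl⟩
  let g : FractionRing T →ₐ[k] K := IsFractionRing.liftAlgHom (g := T.val) Subtype.val_injective
  have : Algebra.IsGeometricallyReduced k (FractionRing T) :=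
    Algebra.IsGeometricallyReduced.of_injective g g.injective
  have : Algebra.FormallySmooth k (FractionRing T) :=
    Sep12.formallySmooth_iff_isGeometricallyReduced.mpr inferInstance
  obtain ⟨f, hf, hsm⟩ := exists_smooth_away (k := k) (T := T)
  have hu : ∀ y : Submonoid.powers f, IsUnit (T.val y) := by
    rintro ⟨_, n, rfl⟩
    exact isUnit_iff_ne_zero.mpr fun h => hf
      (eq_zero_of_pow_eq_zero (n := n) (Subtype.val_injective h))
  let ι : Localization.Away f →ₐ[k] K := IsLocalization.liftAlgHom (M := Submonoid.powers f) (f := T.val) hu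
  have hι : ∀ t : T, ι (algebraMap T _ t) = t := fun t => IsLocalization.lift_eq (hg := hu) t
  have hι' : Function.Injective ι := by
    rw [injective_iff_map_eq_zero]
    intro z hz
    obtain ⟨⟨t, s⟩, rfl⟩ := IsLocalization.mk'_surjective (Submonoid.powers f) z
    have h0 := congrArg (fun w => w * T.val s.1) hz
    simp only [zero_mul] at h0
    change ι (IsLocalization.mk' _ t s) * T.val s.1 = 0 at h0
    rw [show T.val s.1 = ι (algebraMap T _ s.1) from (hι _).symm, ← map_mul, IsLocalization.mk'_spec, hι] at h0
    rw [show t = 0 from Subtype.val_injective h0]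
    exact IsLocalization.mk'_zero s
  exact ⟨ι.range, fun x hx => ⟨algebraMap T _ ⟨x, Algebra.subset_adjoin hx⟩, hι _⟩,
    Algebra.Smooth.of_equiv (AlgEquiv.ofInjective ι hι')⟩

/-- Every finitely generated field extension is contained in the fraction field of a smooth algebra
over a finite extension of the ground field. -/
theorem exists_smooth_model (k K : Type u) [Field k] [Field K] [Algebra k K]
    [Algebra.EssFiniteType k K] :
    ∃ (k' B L : Type u) (_ : Field k') (_ : CommRing B) (_ : IsDomain B) (_ : Field L)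
      (_ : Algebra k k') (_ : Algebra k' B) (_ : Algebra B L) (_ : IsFractionRing B L)
      (_ : Algebra k' L) (_ : IsScalarTower k' B L) (_ : Algebra k L) (_ : IsScalarTower k k' L),
      Module.Finite k k' ∧ Algebra.Smooth k' B ∧ Nonempty (K →ₐ[k] L) := by
  classical
  let Ω := AlgebraicClosure K
  let kb := AlgebraicClosure k
  let σ : kb →ₐ[k] Ω := IsAlgClosed.lift
  let : Algebra kb Ω := σ.toRingHom.toAlgebra
  have : IsScalarTower k kb Ω := IsScalarTower.of_algebraMap_eq fun a => (σ.commutes a).symm
  obtain ⟨E, hE⟩ := IntermediateField.fg_top (F := k) (E := K)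
  let E' : Finset Ω := E.image (algebraMap K Ω)
  let T := Algebra.adjoin kb (↑E' : Set Ω)
  have : Algebra.FiniteType kb T := (Subalgebra.fg_iff_finiteType T).mp ⟨E', rfl⟩
  have : Algebra.FormallySmooth kb (FractionRing T) := Sep12.formallySmooth_of_perfectField kb _
  obtain ⟨f, hf, hsm⟩ := exists_smooth_away (k := kb) (T := T)
  let C := Localization.Away f
  have hu : ∀ y : Submonoid.powers f, IsUnit (T.val y) := by
    rintro ⟨_, n, rfl⟩
    exact isUnit_iff_ne_zero.mpr fun h => hf
      (eq_zero_of_pow_eq_zero (n := n) (Subtype.val_injective h))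
  let ι : C →ₐ[kb] Ω := IsLocalization.liftAlgHom (M := Submonoid.powers f) (f := T.val) hu
  have hι : ∀ t : T, ι (algebraMap T _ t) = t := fun t => IsLocalization.lift_eq (hg := hu) t
  have hι' : Function.Injective ι := by
    rw [injective_iff_map_eq_zero]
    intro z hz
    obtain ⟨⟨t, s⟩, rfl⟩ := IsLocalization.mk'_surjective (Submonoid.powers f) z
    have h0 := congrArg (fun w => w * T.val s.1) hz
    simp only [zero_mul] at h0
    change ι (IsLocalization.mk' _ t s) * T.val s.1 = 0 at h0
    rw [show T.val s.1 = ι (algebraMap T _ s.1) from (hι _).symm, ← map_mul, IsLocalization.mk'_spec, hι] at h0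
    rw [show t = 0 from Subtype.val_injective h0]
    exact IsLocalization.mk'_zero s
  obtain ⟨A₀, B₀, _, _, hA₀, hB₀, ⟨e⟩⟩ := Algebra.Smooth.exists_subalgebra_fg k kb C
  have hx : ∀ x : E, ∃ s : Finset (kb × B₀),
      e (algebraMap T C ⟨algebraMap K Ω x, Algebra.subset_adjoin (Finset.mem_image_of_mem _ x.2)⟩) =
        ∑ i ∈ s, i.1 ⊗ₜ[A₀] i.2 := fun x => TensorProduct.exists_finset _
  choose s hs using hx
  let cs : Finset kb := (Finset.univ : Finset E).biUnion fun x => (s x).image Prod.fst
  let A₁ : Subalgebra A₀ kb := Algebra.adjoin A₀ (↑cs : Set kb)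
  have : Algebra.FiniteType A₀ A₁ := (Subalgebra.fg_iff_finiteType A₁).mp ⟨cs, rfl⟩
  have : Algebra.FiniteType k A₀ := (Subalgebra.fg_iff_finiteType A₀).mp hA₀
  have : Algebra.FiniteType k A₁ := Algebra.FiniteType.trans (R := k) (S := A₀) inferInstance inferInstance
  let i1 : A₁ →ₐ[k] kb := A₁.val.restrictScalars k
  have : Algebra.IsIntegral k A₁ := ⟨fun a =>
    (isIntegral_algHom_iff i1 Subtype.val_injective).mp
      (Algebra.IsIntegral.isIntegral (R := k) (A := kb) (i1 a))⟩
  have : Module.Finite k A₁ := Algebra.IsIntegral.finite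
  have hF : IsField A₁ := isField_of_isIntegral_of_isField' (Field.toIsField k)
  let := hF.toField
  let B := A₁ ⊗[A₀] B₀
  let j0 : B →ₐ[A₀] kb ⊗[A₀] B₀ := Algebra.TensorProduct.map A₁.val (AlgHom.id A₀ B₀)
  have hj0 : Function.Injective j0 :=
    Module.Flat.rTensor_preserves_injective_linearMap (M := B₀) A₁.val.toLinearMap Subtype.val_injective
  let j : B →+* Ω := ι.toRingHom.comp (e.symm.toRingHom.comp j0.toRingHom)
  have hj : Function.Injective j := hι'.comp (e.symm.injective.comp hj0)
  have hdom : IsDomain B := hj.isDomain j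
  let L := FractionRing B
  let φ : L →+* Ω := IsFractionRing.lift hj
  have hφ : ∀ b, φ (algebraMap B L b) = j b := fun b => IsFractionRing.lift_algebraMap hj b
  have : IsScalarTower k A₁ L := inferInstance
  let φ' : L →ₐ[k] Ω :=
    { toRingHom := φ
      commutes' := fun a => by
        show φ (algebraMap k L a) = algebraMap k Ω a
        rw [IsScalarTower.algebraMap_apply k A₁ L]
        rw [IsScalarTower.algebraMap_apply A₁ B L, hφ]
        show ι (e.symm (Algebra.TensorProduct.map A₁.val (AlgHom.id A₀ B₀) ((algebraMap k A₁ a) ⊗ₜ 1))) = _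
        rw [Algebra.TensorProduct.map_tmul, map_one]
        show ι (e.symm (algebraMap kb (kb ⊗[A₀] B₀) (algebraMap k kb a))) = _
        rw [AlgEquiv.commutes, AlgHom.commutes, ← IsScalarTower.algebraMap_apply] }
  have hle : (IsScalarTower.toAlgHom k K Ω).fieldRange ≤ φ'.fieldRange := by
    rw [AlgHom.fieldRange_eq_map]
    rw [← hE, IntermediateField.adjoin_map, IntermediateField.adjoin_le_iff]
    rintro _ ⟨x, hx, rfl⟩
    let y : B := ∑ i : { i // i ∈ s ⟨x, hx⟩ },
      (⟨i.1.1, Algebra.subset_adjoin (Finset.mem_biUnion.mpr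
        ⟨⟨x, hx⟩, Finset.mem_univ _, Finset.mem_image_of_mem _ i.2⟩)⟩ : A₁) ⊗ₜ i.1.2
    refine ⟨algebraMap B L y, ?_⟩
    show φ (algebraMap B L y) = algebraMap K Ω x
    rw [hφ]
    have hy : j0 y = ∑ i ∈ s ⟨x, hx⟩, i.1 ⊗ₜ[A₀] i.2 := by
      rw [map_sum, ← Finset.sum_coe_sort (s ⟨x, hx⟩)]
      rfl
    show ι (e.symm (j0 y)) = _
    rw [hy, ← hs ⟨x, hx⟩, AlgEquiv.symm_apply_apply, hι]
  let ψ : K →ₐ[k] L :=
    ((AlgEquiv.ofInjectiveField φ').symm.toAlgHom.comp (IntermediateField.inclusion hle)).comp
      (AlgEquiv.ofInjectiveField (IsScalarTower.toAlgHom k K Ω)).toAlgHom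
  exact ⟨A₁, B, L, inferInstance, inferInstance, hdom, inferInstance, inferInstance, inferInstance,
    inferInstance, inferInstance, inferInstance, inferInstance, inferInstance, inferInstance,
    inferInstance, inferInstance, ⟨ψ⟩⟩

theorem isRegularRing_tensor_of_essFiniteType (k K S : Type u) [Field k] [Field K] [Algebra k K]
    [Algebra.EssFiniteType k K] [CommRing S] [Algebra k S] (h : CAlg.IsGeometricallyRegular k S) :
    IsRegularRing (K ⊗[k] S) := by
  obtain ⟨k', B, L, _, _, _, _, _, _, _, _, _, _, _, _, hfin, hsm, ⟨ψ⟩⟩ := exists_smooth_model k K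
  have : IsRegularRing (k' ⊗[k] S) := h k' hfin
  let W := k' ⊗[k] S
  have : IsRegularRing (W ⊗[k'] B) := isRegularRing_of_smooth W (W ⊗[k'] B)
  have : IsRegularRing (B ⊗[k'] W) :=
    IsRegularRing.of_ringEquiv (Algebra.TensorProduct.comm k' W B).toRingEquiv
  have hreg : IsRegularRing (L ⊗[k'] W) := by
    let : Algebra (B ⊗[k'] W) (L ⊗[k'] W) :=
      (Algebra.TensorProduct.map (IsScalarTower.toAlgHom k' B L) (AlgHom.id k' W)).toRingHom.toAlgebra
    have : IsScalarTower B (B ⊗[k'] W) (L ⊗[k'] W) := IsScalarTower.of_algebraMap_eq fun b => by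
      show algebraMap B L b ⊗ₜ 1 = Algebra.TensorProduct.map (IsScalarTower.toAlgHom k' B L) (AlgHom.id k' W) (b ⊗ₜ 1)
      rw [Algebra.TensorProduct.map_tmul, map_one]; rfl
    have := IsLocalization.tensorProduct_tensorProduct k' W (A := B) (nonZeroDivisors B) L
      (RingHom.ext fun w => by
        show Algebra.TensorProduct.map _ (AlgHom.id k' W) ((1 : B) ⊗ₜ[k'] w) = _
        rw [Algebra.TensorProduct.map_tmul, map_one]; rfl)
    exact isRegularRing_of_isLocalization (Algebra.algebraMapSubmonoid (B ⊗[k'] W) (nonZeroDivisors B)) _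
  let : Algebra K L := ψ.toRingHom.toAlgebra
  have : IsScalarTower k K L := IsScalarTower.of_algebraMap_eq fun a => (ψ.commutes a).symm
  have : IsRegularRing (L ⊗[k] S) :=
    IsRegularRing.of_ringEquiv (Algebra.TensorProduct.cancelBaseChange k k' L L S).toRingEquiv
  have : IsRegularRing (L ⊗[K] (K ⊗[k] S)) :=
    IsRegularRing.of_ringEquiv (Algebra.TensorProduct.cancelBaseChange k K L L S).symm.toRingEquiv
  have : IsRegularRing ((K ⊗[k] S) ⊗[K] L) :=
    IsRegularRing.of_ringEquiv (Algebra.TensorProduct.comm K L (K ⊗[k] S)).toRingEquiv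
  exact isRegularRing_of_faithfullyFlat (K ⊗[k] S) ((K ⊗[k] S) ⊗[K] L)

theorem isGeometricallyRegular_baseChange (k K S : Type u) [Field k] [Field K] [Algebra k K]
    [Algebra.EssFiniteType k K] [CommRing S] [Algebra k S] (h : CAlg.IsGeometricallyRegular k S) :
    CAlg.IsGeometricallyRegular K (K ⊗[k] S) := by
  intro l _ _ _
  let : Algebra k l := ((algebraMap K l).comp (algebraMap k K)).toAlgebra
  have : IsScalarTower k K l := IsScalarTower.of_algebraMap_eq fun _ => rfl
  have : Algebra.EssFiniteType k l := Algebra.EssFiniteType.comp k K l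
  have := isRegularRing_tensor_of_essFiniteType k l S h
  exact IsRegularRing.of_ringEquiv (Algebra.TensorProduct.cancelBaseChange k K l l S).symm.toRingEquiv

end Groth.Agent.CAlg5
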