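import Mathlib
import Groth.Prelude.Def_Found
import Groth.Agent.CAlg1.FlatFibre
import Groth.Agent.CAlg6.CotFlat
import Groth.Agent.CAlg5.GeomRegularFG

/-! Regular ring maps: descent, base change, composition. -/

set_option autoImplicit false
universe u

open TensorProduct IsLocalRing

namespace Groth.Agent.CAlg5

theorem isGeometricallyRegular_of_algEquiv {k S S' : Type u} [Field k] [CommRing S] [Algebra k S]
    [CommRing S'] [Algebra k S'] (e : S ≃ₐ[k] S') (h : CAlg.IsGeometricallyRegular k S) :
    CAlg.IsGeometricallyRegular k S' := by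
  intro l _ _ hl
  have := h l hl
  exact IsRegularRing.of_ringEquiv (Algebra.TensorProduct.congr (AlgEquiv.refl (R := k) (A₁ := l)) e).toRingEquiv

theorem isRegularRing_of_isGeometricallyRegular {k S : Type u} [Field k] [CommRing S] [Algebra k S]
    (h : CAlg.IsGeometricallyRegular k S) : IsRegularRing S := by
  have := h k (Module.Finite.self k)
  exact IsRegularRing.of_ringEquiv (Algebra.TensorProduct.lid k S).toRingEquiv

/-- a flat local map with regular base and regular closed fibre has regular target -/
theorem regular_of_flat_local (A B : Type u) [CommRing A] [CommRing B] [IsLocalRing B]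
    [IsRegularLocalRing A] [IsNoetherianRing B] [Algebra A B] [IsLocalHom (algebraMap A B)]
    [Module.Flat A B] (h : IsRegularLocalRing (B ⧸ (maximalIdeal A).map (algebraMap A B))) :
    IsRegularLocalRing B := by
  apply IsRegularLocalRing.of_spanFinrank_maximalIdeal_le
  rw [CAlg6.spanFinrank_eq_add_of_flat (A := A) _ B rfl, Nat.cast_add,
    IsRegularLocalRing.spanFinrank_maximalIdeal, IsRegularLocalRing.spanFinrank_maximalIdeal,
    ← maximalIdeal_height_eq_ringKrullDim, ← maximalIdeal_height_eq_ringKrullDim,
    ← maximalIdeal_height_eq_ringKrullDim]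
  have : (maximalIdeal B).LiesOver (maximalIdeal A) := ⟨by
    rw [Ideal.under_def, maximalIdeal_comap]⟩
  rw [Ideal.height_eq_height_add_of_liesOver_of_hasGoingDown (maximalIdeal A) (maximalIdeal B),
    ← WithBot.coe_add, WithBot.coe_le_coe, add_comm]
  refine add_le_add le_rfl (le_of_eq (congrArg Ideal.height ?_))
  exact (IsLocalRing.eq_maximalIdeal (Ideal.IsMaximal.map_of_surjective_of_ker_le
    Ideal.Quotient.mk_surjective (by rw [Ideal.mk_ker]; exact map_maximalIdeal_le _))).symm

/-- flat maps with regular fibres over a regular ring -/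
theorem isRegularRing_of_fibres (R S : Type u) [CommRing R] [IsRegularRing R] [CommRing S]
    [IsNoetherianRing S] [Algebra R S] [Module.Flat R S]
    (hfib : ∀ (p : Ideal R) [p.IsPrime], IsRegularRing (p.Fiber S)) : IsRegularRing S := by
  refine isRegularRing_iff.mpr fun q _ => ?_
  obtain ⟨Q, _, hq⟩ := CAlg1.exists_fibre_prime (R := R) q
  set p := q.under R
  let r : Ideal S := Q.comap (Algebra.TensorProduct.includeRight : S →ₐ[R] p.Fiber S)
  have hr : r.LiesOver p := ⟨by
    show p = r.comap (algebraMap R S)
    rw [show r = q from hq]⟩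
  let := Localization.AtPrime.algebraOfLiesOver p r
  let A := Localization.AtPrime p
  let B := Localization.AtPrime r
  have : IsNoetherianRing B := IsLocalization.isNoetherianRing r.primeCompl _ inferInstance
  have : IsLocalHom (algebraMap A B) := Localization.isLocalHom_localRingHom p r _ _
  have : Module.Flat A B := inferInstance
  have : IsRegularLocalRing A := IsRegularRing.isRegularLocalRing_localization p
  have := hfib p
  have : IsRegularLocalRing (Localization.AtPrime Q) := IsRegularRing.isRegularLocalRing_localization Q
  let e : Localization.AtPrime Q ≃ₐ[A] B ⧸ p.map (algebraMap R B) :=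
    Ideal.Fiber.localizationAlgEquivQuotient p Q
  have hm : (maximalIdeal A).map (algebraMap A B) = p.map (algebraMap R B) := by
    rw [← Localization.AtPrime.map_eq_maximalIdeal, Ideal.map_map, ← IsScalarTower.algebraMap_eq]
  have := regular_of_flat_local A B
    (IsRegularLocalRing.of_ringEquiv (R := Localization.AtPrime Q) (e.toRingEquiv.trans (Ideal.quotEquivOfEq hm.symm)))
  exact regular_congr hq this

theorem isRegularHom_baseChange (R Λ R' : Type u) [CommRing R] [CommRing Λ] [CommRing R']
    [Algebra R Λ] [Algebra R R'] [Algebra.EssFiniteType R R'] (h : CAlg.IsRegularHom R Λ) :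
    CAlg.IsRegularHom R' (R' ⊗[R] Λ) := by
  obtain ⟨hflat, hfib⟩ := h
  refine ⟨inferInstance, fun q _ => ?_⟩
  let p := q.under R
  have : q.LiesOver p := ⟨rfl⟩
  obtain ⟨-, hgeo⟩ := hfib p
  let : Algebra p.ResidueField q.ResidueField :=
    (Ideal.ResidueField.map p q (algebraMap R R') (Ideal.over_def q p)).toAlgebra
  have : IsScalarTower R p.ResidueField q.ResidueField := IsScalarTower.of_algebraMap_eq fun r => by
    rw [RingHom.algebraMap_toAlgebra, Ideal.ResidueField.map_algebraMap, ← IsScalarTower.algebraMap_apply]
  have : Algebra.EssFiniteType R' q.ResidueField := inferInstance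
  have : Algebra.EssFiniteType R q.ResidueField := Algebra.EssFiniteType.comp R R' _
  have : Algebra.EssFiniteType p.ResidueField q.ResidueField := Algebra.EssFiniteType.of_comp R _ _
  let e : q.ResidueField ⊗[p.ResidueField] (p.Fiber Λ) ≃ₐ[q.ResidueField] q.Fiber (R' ⊗[R] Λ) :=
    (Algebra.TensorProduct.cancelBaseChange R p.ResidueField q.ResidueField q.ResidueField Λ).trans
      (Algebra.TensorProduct.cancelBaseChange R R' q.ResidueField q.ResidueField Λ).symm
  have hg := isGeometricallyRegular_of_algEquiv e
    (isGeometricallyRegular_baseChange p.ResidueField q.ResidueField (p.Fiber Λ) hgeo)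
  have := isRegularRing_of_isGeometricallyRegular hg
  exact ⟨inferInstance, hg⟩

theorem isRegularHom_of_comp_of_faithfullyFlat (A B C : Type u) [CommRing A] [CommRing B] [CommRing C]
    [Algebra A B] [Algebra B C] [Algebra A C] [IsScalarTower A B C]
    (hAC : CAlg.IsRegularHom A C) [Module.FaithfullyFlat B C] : CAlg.IsRegularHom A B := by
  obtain ⟨hflat, hfib⟩ := hAC
  have key : ∀ (E : Type u) [CommRing E] [Algebra A E], IsRegularRing (E ⊗[A] C) →
      IsRegularRing (E ⊗[A] B) := by
    intro E _ _ hE
    have : IsRegularRing (C ⊗[B] (B ⊗[A] E)) := IsRegularRing.of_ringEquiv <|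
      (Algebra.TensorProduct.comm A E C).toRingEquiv.trans
        (Algebra.TensorProduct.cancelBaseChange A B C C E).symm.toRingEquiv
    have : IsRegularRing ((B ⊗[A] E) ⊗[B] C) :=
      IsRegularRing.of_ringEquiv (Algebra.TensorProduct.comm B C (B ⊗[A] E)).toRingEquiv
    have := isRegularRing_of_faithfullyFlat (B ⊗[A] E) ((B ⊗[A] E) ⊗[B] C)
    exact IsRegularRing.of_ringEquiv (Algebra.TensorProduct.comm A B E).toRingEquiv
  refine ⟨?_, fun p _ => ?_⟩
  · rw [Module.Flat.iff_lTensor_preserves_injective_linearMap]
    intro M N _ _ _ _ f hf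
    have h1 : Function.Injective (f.baseChange C) := by
      rw [← LinearMap.coe_restrictScalars A]
      exact Module.Flat.lTensor_preserves_injective_linearMap (M := C) f hf
    have hcomm : (TensorProduct.AlgebraTensorModule.cancelBaseChange A B C C N).toLinearMap ∘ₗ
        ((f.baseChange B).baseChange C) = (f.baseChange C) ∘ₗ
        (TensorProduct.AlgebraTensorModule.cancelBaseChange A B C C M).toLinearMap := by
      ext m
      simp
    have h2 : Function.Injective ((f.baseChange B).baseChange C) := by
      refine Function.Injective.of_comp (f := TensorProduct.AlgebraTensorModule.cancelBaseChange A B C C N) ?_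
      have := h1.comp (TensorProduct.AlgebraTensorModule.cancelBaseChange A B C C M).injective
      intro x y hxy
      apply this
      have hx := LinearMap.congr_fun hcomm x
      have hy := LinearMap.congr_fun hcomm y
      exact hx.symm.trans (hxy.trans hy)
    exact (Module.FaithfullyFlat.lTensor_injective_iff_injective B C (f.baseChange B)).mp h2
  · obtain ⟨-, hgeo⟩ := hfib p
    have := key p.ResidueField (isRegularRing_of_isGeometricallyRegular hgeo)
    refine ⟨inferInstance, fun l _ _ hl => ?_⟩
    let : Algebra A l := ((algebraMap p.ResidueField l).comp (algebraMap A p.ResidueField)).toAlgebra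
    have : IsScalarTower A p.ResidueField l := IsScalarTower.of_algebraMap_eq fun _ => rfl
    have := hgeo l hl
    have : IsRegularRing (l ⊗[A] C) :=
      IsRegularRing.of_ringEquiv (Algebra.TensorProduct.cancelBaseChange A p.ResidueField l l C).toRingEquiv
    have := key l this
    exact IsRegularRing.of_ringEquiv
      (Algebra.TensorProduct.cancelBaseChange A p.ResidueField l l B).symm.toRingEquiv

theorem isRegularHom_comp (A B C : Type u) [CommRing A] [CommRing B] [CommRing C]
    [Algebra A B] [Algebra B C] [Algebra A C] [IsScalarTower A B C]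
    (hAB : CAlg.IsRegularHom A B) (hBC : CAlg.IsRegularHom B C)
    (hN : ∀ (p : Ideal A) [p.IsPrime], IsNoetherianRing (p.Fiber C)) : CAlg.IsRegularHom A C := by
  have : Module.Flat A B := hAB.1
  have : Module.Flat B C := hBC.1
  refine ⟨Module.Flat.trans A B C, fun p _ => ⟨hN p, fun l _ _ hl => ?_⟩⟩
  let : Algebra A l := ((algebraMap p.ResidueField l).comp (algebraMap A p.ResidueField)).toAlgebra
  have : IsScalarTower A p.ResidueField l := IsScalarTower.of_algebraMap_eq fun _ => rfl
  have : Algebra.EssFiniteType A l := Algebra.EssFiniteType.comp A p.ResidueField l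
  obtain ⟨-, hgeo⟩ := hAB.2 p
  have := hgeo l hl
  have : IsRegularRing (B ⊗[A] l) := IsRegularRing.of_ringEquiv <|
    (Algebra.TensorProduct.cancelBaseChange A p.ResidueField l l B).toRingEquiv.trans
      (Algebra.TensorProduct.comm A l B).toRingEquiv
  let T := B ⊗[A] l
  obtain ⟨hTflat, hTfib⟩ := isRegularHom_baseChange B C T hBC
  let e : T ⊗[B] C ≃+* l ⊗[p.ResidueField] (p.Fiber C) :=
    (Algebra.TensorProduct.comm B T C).toRingEquiv.trans <|
      (Algebra.TensorProduct.cancelBaseChange A B C C l).toRingEquiv.trans <|
      (Algebra.TensorProduct.comm A C l).toRingEquiv.trans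
        (Algebra.TensorProduct.cancelBaseChange A p.ResidueField l l C).symm.toRingEquiv
  have : IsNoetherianRing (l ⊗[p.ResidueField] (p.Fiber C)) :=
    have : IsNoetherianRing (p.Fiber C ⊗[p.ResidueField] l) := isNoetherian_of_tower (p.Fiber C) inferInstance
    isNoetherianRing_of_ringEquiv _ (Algebra.TensorProduct.comm p.ResidueField (p.Fiber C) l).toRingEquiv
  have : IsNoetherianRing (T ⊗[B] C) := isNoetherianRing_of_ringEquiv _ e.symm
  have := isRegularRing_of_fibres T (T ⊗[B] C) fun P _ =>
    isRegularRing_of_isGeometricallyRegular (hTfib P).2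
  exact IsRegularRing.of_ringEquiv e

end Groth.Agent.CAlg5
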