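import Groth.Agent.CAlg6.CompleteSurj
import Groth.Agent.LA18.ColonKilling
import Groth.Agent.Sep12.Basic
import Mathlib.RingTheory.RegularLocalRing.Defs

/-! Cohen structure theorem for complete regular local rings containing a field. -/

set_option autoImplicit false
set_option maxHeartbeats 800000
universe u

namespace Groth.Agent.CAlg5

open IsLocalRing

theorem exists_coefficient_field (P B : Type u) [Field P] [PerfectField P] [CommRing B]
    [IsLocalRing B] [IsAdicComplete (maximalIdeal B) B] [Algebra P B] :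
    ∃ σ : ResidueField B →+* B, ∀ a, residue B (σ a) = a := by
  let _ : Algebra P (ResidueField B) := ((residue B).comp (algebraMap P B)).toAlgebra
  have : Algebra.FormallySmooth P (ResidueField B) :=
    Sep12.formallySmooth_of_perfectField P (ResidueField B)
  let m := maximalIdeal B
  have hnil : ∀ n : ℕ, IsNilpotent (RingHom.ker
      ((Ideal.Quotient.factorₐ P (Ideal.pow_le_pow_right (I := m) (n + 1).le_succ)) :
        (B ⧸ m ^ (n + 2)) →+* B ⧸ m ^ (n + 1))) := fun n => by
    refine ⟨2, ?_⟩
    show RingHom.ker (Ideal.Quotient.factor (Ideal.pow_le_pow_right (I := m) (n + 1).le_succ)) ^ 2 = ⊥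
    rw [Ideal.Quotient.factor_ker, ← Ideal.map_pow, Ideal.map_eq_bot_iff_le_ker, Ideal.mk_ker,
      ← pow_mul]
    exact Ideal.pow_le_pow_right (by omega)
  let f₀ : ResidueField B →ₐ[P] B ⧸ m ^ 1 :=
    (Ideal.quotientEquivAlgOfEq P (pow_one m).symm).toAlgHom.comp
      { toRingHom := RingHom.id (ResidueField B)
        commutes' := fun _ => rfl }
  let π : ∀ n : ℕ, B ⧸ m ^ (n + 2) →ₐ[P] B ⧸ m ^ (n + 1) := fun n =>
    Ideal.Quotient.factorₐ P (Ideal.pow_le_pow_right (I := m) (n + 1).le_succ)
  have hπ : ∀ n, Function.Surjective (π n) := fun n =>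
    Ideal.Quotient.factor_surjective (Ideal.pow_le_pow_right (I := m) (n + 1).le_succ)
  let f : (n : ℕ) → ResidueField B →ₐ[P] B ⧸ m ^ (n + 1) := fun n =>
    Nat.rec (motive := fun n => ResidueField B →ₐ[P] B ⧸ m ^ (n + 1)) f₀
      (fun n g => Algebra.FormallySmooth.liftOfSurjective g (π n) (hπ n) (hnil n)) n
  have hf : ∀ n, (π n).comp (f (n + 1)) = f n := fun n =>
    Algebra.FormallySmooth.comp_liftOfSurjective (f n) (π n) (hπ n) (hnil n)
  have ha : StrictMono fun n : ℕ => n + 1 := fun a b h => by show a + 1 < b + 1; omega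
  let σ := IsAdicComplete.StrictMono.liftRingHom m ha (fun n => (f n).toRingHom)
    (fun {n} => RingHom.ext fun x => AlgHom.congr_fun (hf n) x)
  refine ⟨σ, fun a => ?_⟩
  have h := IsAdicComplete.StrictMono.mk_liftRingHom m ha (fun n => (f n).toRingHom)
    (fun {n} => RingHom.ext fun x => AlgHom.congr_fun (hf n) x) (n := 0) a
  have h' := congrArg (Ideal.quotientEquivAlgOfEq P (pow_one m)) h
  obtain ⟨b, rfl⟩ := residue_surjective a
  exact h'

/-- A complete regular local ring with a coefficient field is a power series ring. -/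
theorem exists_powerSeries_bijective {R k : Type u} [CommRing R] [IsRegularLocalRing R]
    [IsAdicComplete (maximalIdeal R) R] [Field k] (σ : k →+* R)
    (hσ : Function.Surjective ((residue R).comp σ)) :
    ∃ (d : ℕ) (φ : MvPowerSeries (Fin d) k →+* R),
      Function.Bijective φ ∧ ∀ a, φ (MvPowerSeries.C a) = σ a := by
  have hfg : (maximalIdeal R).FG := IsNoetherian.noetherian _
  obtain ⟨s, hs, hspan⟩ := Submodule.FG.exists_span_finset_card_eq_spanFinrank hfg
  let f : Fin (maximalIdeal R).spanFinrank → R := fun i => (s.equivFinOfCardEq hs).symm i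
  have hf : Ideal.span (Set.range f) = maximalIdeal R := by
    rw [show Set.range f = (s : Set R) by
      rw [show f = Subtype.val ∘ (s.equivFinOfCardEq hs).symm from rfl, Set.range_comp,
        Equiv.range_eq_univ, Set.image_univ, Subtype.range_coe]
      ]
    exact hspan
  have hy : ∀ i, f i ∈ maximalIdeal R := fun i => hf ▸ Ideal.subset_span ⟨i, rfl⟩
  let d := (maximalIdeal R).spanFinrank
  obtain ⟨φ, hC, hX⟩ := LA18.exists_powerSeries_hom (maximalIdeal R) σ f hy
  have : IsRegularLocalRing (MvPowerSeries (Fin d) k) := CAlg6.isRegularLocalRing_mvPowerSeries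
  have := CAlg6.isAdicComplete_maximalIdeal (k := k) (d := d)
  have hloc : (maximalIdeal (MvPowerSeries (Fin d) k)).map φ = maximalIdeal R := by
    rw [CAlg6.maximalIdeal_eq_span_X, Ideal.map_span, ← Set.range_comp]
    exact (congrArg (fun g => Ideal.span (Set.range g)) (funext hX : φ ∘ MvPowerSeries.X = f)).trans hf
  have hsurj : Function.Surjective φ := by
    refine CAlg6.surjective_of_cotangent φ hloc.le (fun z => ?_) (by rw [hloc]; exact le_sup_left)
    obtain ⟨a, rfl⟩ := hσ z
    exact ⟨MvPowerSeries.C a, by simp only [RingHom.comp_apply, hC]⟩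
  have hdom : IsDomain (MvPowerSeries (Fin d) k) := NoZeroDivisors.to_isDomain _
  refine ⟨d, φ, ⟨CAlg6.injective_of_surjective_of_ringKrullDim_eq φ hsurj d
    CAlg6.ringKrullDim_mvPowerSeries ?_, hsurj⟩, hC⟩
  exact (IsRegularLocalRing.spanFinrank_maximalIdeal (R := R)).symm

end Groth.Agent.CAlg5
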