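import Mathlib.RingTheory.AdicCompletion.Exactness
import Mathlib.RingTheory.AdicCompletion.Algebra
import Mathlib.RingTheory.Flat.Equalizer
import Mathlib.LinearAlgebra.TensorProduct.Quotient

set_option autoImplicit false

universe u

namespace Groth.Agent.CAlg5

open Submodule

variable {R : Type u} [CommRing R] (I : Ideal R) {M N P : Type u}
  [AddCommGroup M] [Module R M] [AddCommGroup N] [Module R N] [AddCommGroup P] [Module R P]

theorem pow_smul_top_antitone {m n : ℕ} (h : m ≤ n) :
    (I ^ n • ⊤ : Submodule R M) ≤ I ^ m • ⊤ :=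
  Submodule.smul_mono_left (Ideal.pow_le_pow_right h)

theorem val_eq_mk_of_le {x : AdicCompletion I M} {m n : ℕ} (h : m ≤ n) {y : M}
    (hy : x.val n = Submodule.Quotient.mk y) : x.val m = Submodule.Quotient.mk y := by
  rw [← x.2 h, hy]
  rfl

theorem map_injective_of_comap_le (f : M →ₗ[R] N)
    (h : ∀ n, ∃ m, (I ^ m • ⊤ : Submodule R N).comap f ≤ I ^ n • ⊤) :
    Function.Injective (AdicCompletion.map I f) := by
  rw [injective_iff_map_eq_zero]
  intro x hx
  refine AdicCompletion.ext fun n => ?_
  obtain ⟨m, hm⟩ := h n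
  obtain ⟨y, hy⟩ := Submodule.Quotient.mk_surjective _ (x.val (max m n))
  rw [val_eq_mk_of_le I (le_max_right m n) hy.symm, AdicCompletion.val_zero_apply,
    Submodule.Quotient.mk_eq_zero]
  refine hm ?_
  have h0 : (AdicCompletion.map I f x).val m = Submodule.Quotient.mk (f y) := by
    rw [AdicCompletion.map_val_apply, val_eq_mk_of_le I (le_max_left m n) hy.symm]
    rfl
  rw [hx, AdicCompletion.val_zero_apply] at h0
  exact (Submodule.Quotient.mk_eq_zero (I ^ m • ⊤ : Submodule R N)).mp h0.symm

theorem map_exact_of_comap_le (f : M →ₗ[R] N) (g : N →ₗ[R] P) (hg : Function.Surjective g)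
    (hfg : Function.Exact f g)
    (h : ∀ n, ∃ m, (I ^ m • ⊤ : Submodule R N).comap f ≤ I ^ n • ⊤) :
    Function.Exact (AdicCompletion.map I f) (AdicCompletion.map I g) := by
  refine LinearMap.exact_iff.mpr (le_antisymm (fun y hy => ?_) ?_)
  · have hlift : ∀ n, ∃ x : M, y.val n = Submodule.Quotient.mk (f x) := by
      intro n
      obtain ⟨z, hz⟩ := Submodule.Quotient.mk_surjective _ (y.val n)
      have hgz : g z ∈ (I ^ n • ⊤ : Submodule R P) := by
        rw [← Submodule.Quotient.mk_eq_zero]
        have h0 := congrArg (fun q : AdicCompletion I P => q.val n) (LinearMap.mem_ker.mp hy)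
        simp only [AdicCompletion.val_zero_apply, AdicCompletion.map_val_apply] at h0
        rw [← hz] at h0
        exact h0
      rw [← Submodule.map_top g |>.trans (LinearMap.range_eq_top.mpr hg),
        ← Submodule.map_smul''] at hgz
      obtain ⟨w, hw, hwz⟩ := hgz
      obtain ⟨x, hx⟩ := (hfg (z - w)).mp (by rw [map_sub, hwz, sub_self])
      refine ⟨x, ?_⟩
      rw [← hz, Submodule.Quotient.eq, hx]
      simpa using hw
    choose x hx using hlift
    choose m hm using h
    have key : ∀ n k, m n ≤ k → x k - x (m n) ∈ (I ^ n • ⊤ : Submodule R M) := by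
      intro n k hk
      refine hm n ?_
      rw [Submodule.mem_comap, map_sub, ← Submodule.Quotient.eq]
      exact (val_eq_mk_of_le I hk (hx k)).symm.trans (hx (m n))
    refine ⟨⟨fun n => Submodule.Quotient.mk (x (m n)), fun {a b} hab => ?_⟩, ?_⟩
    · show Submodule.Quotient.mk (x (m b)) = Submodule.Quotient.mk (x (m a))
      rw [Submodule.Quotient.eq]
      have e1 := key a _ (le_max_left (m a) (m b))
      have e2 := pow_smul_top_antitone I hab (key b _ (le_max_right (m a) (m b)))
      have e3 := sub_mem e1 e2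
      rwa [sub_sub_sub_cancel_left] at e3
    · refine AdicCompletion.ext fun n => ?_
      refine (AdicCompletion.map_val_apply _ _ _).trans ?_
      show Submodule.Quotient.mk (f (x (m n))) = y.val n
      obtain ⟨z, hz⟩ := Submodule.Quotient.mk_surjective _ (y.val (max n (m n)))
      rw [val_eq_mk_of_le I (le_max_left n (m n)) hz.symm, Submodule.Quotient.eq]
      have e1 : f (x (m n)) - f (x (max n (m n))) ∈ (I ^ n • ⊤ : Submodule R N) := by
        rw [← map_sub, ← Submodule.mem_comap]
        exact Submodule.smul_top_le_comap_smul_top _ f (by simpa using neg_mem (key n _ (le_max_right n (m n))))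
      have e2 : f (x (max n (m n))) - z ∈ (I ^ n • ⊤ : Submodule R N) :=
        pow_smul_top_antitone I (le_max_left n (m n)) ((Submodule.Quotient.eq _).mp ((hx _).symm.trans hz.symm))
      have e3 := add_mem e1 e2
      rwa [sub_add_sub_cancel] at e3
  · rintro _ ⟨x, rfl⟩
    rw [LinearMap.mem_ker, AdicCompletion.map_comp_apply, show g ∘ₗ f = 0 from LinearMap.ext hfg.apply_apply_eq_zero,
      AdicCompletion.map_zero, LinearMap.zero_apply]

theorem comap_smul_top_eq_of_flat [Module.Flat R P] (f : M →ₗ[R] N) (g : N →ₗ[R] P)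
    (hf : Function.Injective f) (hg : Function.Surjective g) (hfg : Function.Exact f g)
    (J : Ideal R) : (J • ⊤ : Submodule R N).comap f ≤ J • ⊤ := by
  intro x hx
  have h := LinearMap.lTensor_injective_of_exact_of_flat g hg f hf hfg (R ⧸ J)
  have h0 : (Ideal.Quotient.mk J 1) ⊗ₜ[R] x = 0 := by
    refine h ?_
    rw [LinearMap.lTensor_tmul, map_zero]
    apply (TensorProduct.quotTensorEquivQuotSMul N J).injective
    rw [map_zero, TensorProduct.quotTensorEquivQuotSMul_mk_tmul, one_smul]
    exact (Submodule.Quotient.mk_eq_zero _).mpr hx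
  have h1 := congrArg (TensorProduct.quotTensorEquivQuotSMul M J) h0
  rw [map_zero, TensorProduct.quotTensorEquivQuotSMul_mk_tmul, one_smul] at h1
  exact (Submodule.Quotient.mk_eq_zero _).mp h1

theorem isHausdorff_of_pow_le {J : Ideal R} {d : ℕ} (hJ : J ^ d ≤ I) (h : IsHausdorff I M) :
    IsHausdorff J M := by
  refine ⟨fun x hx => h.haus' x fun n => ?_⟩
  refine SModEq.mono (Submodule.smul_mono_left ?_) (hx (d * n))
  rw [pow_mul]
  exact Ideal.pow_right_mono hJ n

theorem isPrecomplete_of_pow_le {J : Ideal R} {c d : ℕ} (hd : 0 < d) (hI : I ^ c ≤ J)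
    (hJ : J ^ d ≤ I) (h : IsPrecomplete I M) : IsPrecomplete J M := by
  refine ⟨fun f hf => ?_⟩
  obtain ⟨L, hL⟩ := h.prec (f := fun n => f (d * n)) fun {m n} hmn => by
    refine SModEq.mono (Submodule.smul_mono_left ?_) (hf (Nat.mul_le_mul_left d hmn))
    rw [pow_mul]
    exact Ideal.pow_right_mono hJ m
  refine ⟨L, fun n => ?_⟩
  have h1 : f (d * (c * n + n)) ≡ L [SMOD (J ^ n • ⊤ : Submodule R M)] := by
    refine SModEq.mono (Submodule.smul_mono_left ?_) (hL (c * n + n))
    refine (Ideal.pow_le_pow_right (Nat.le_add_right (c * n) n)).trans ?_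
    rw [pow_mul]
    exact Ideal.pow_right_mono hI n
  refine (hf ?_).trans h1
  calc n ≤ c * n + n := Nat.le_add_left n _
    _ ≤ d * (c * n + n) := Nat.le_mul_of_pos_left _ hd

end Groth.Agent.CAlg5
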