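import Mathlib
import Groth.Prelude.Def_CAlgX

/-! Formal smoothness tested on local rings and on small extensions. -/

set_option autoImplicit false
universe u

open IsLocalRing

namespace Groth.Agent.CAlg5

variable {R S : Type u} [CommRing R] [CommRing S] [Algebra R S]

theorem isLocalRing_of_nilpotent {A : Type u} [CommRing A] (J : Ideal A) (hJ : IsNilpotent J)
    [IsLocalRing (A ⧸ J)] : IsLocalRing A := by
  have : Nontrivial A := (Ideal.Quotient.mk J).domain_nontrivial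
  refine IsLocalRing.of_isUnit_or_isUnit_one_sub_self fun a => ?_
  rcases IsLocalRing.isUnit_or_isUnit_one_sub_self (Ideal.Quotient.mk J a) with h | h
  · exact Or.inl ((IsNilpotent.isUnit_quotient_mk_iff hJ).1 h)
  · exact Or.inr ((IsNilpotent.isUnit_quotient_mk_iff hJ).1 (by rwa [map_sub, map_one]))

/-- Replace a test ring by a local subring. -/
theorem exists_local_sub [IsLocalRing R] [IsLocalRing S] [IsLocalHom (algebraMap R S)]
    (A : Type u) [CommRing A] [Algebra R A] (J : Ideal A) (hJ : J ^ 2 = ⊥) [Nontrivial (A ⧸ J)]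
    (ψ : S →ₐ[R] A ⧸ J) (k : ℕ) (hk : ∀ x ∈ maximalIdeal S ^ k, ψ x = 0) :
    ∃ (A' : Subalgebra R A) (_ : IsLocalRing A') (_ : IsLocalHom (algebraMap R A'))
      (_ : IsLocalRing (A' ⧸ J.comap A'.val)) (ψ' : S →ₐ[R] A' ⧸ J.comap A'.val)
      (_ : IsLocalHom ψ'.toRingHom), Function.Surjective ψ' ∧
        Function.Bijective (ResidueField.map ψ'.toRingHom) ∧ J.comap A'.val ^ 2 = ⊥ ∧
        (∃ n : ℕ, maximalIdeal A' ^ n = ⊥) ∧
        (Ideal.quotientMapₐ J A'.val le_rfl).comp ψ' = ψ := by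
  let A' : Subalgebra R A := ψ.range.comap (Ideal.Quotient.mkₐ R J)
  let J' : Ideal A' := J.comap A'.val
  let ι : A' ⧸ J' →ₐ[R] A ⧸ J := Ideal.quotientMapₐ J A'.val le_rfl
  have hι : Function.Injective ι := Ideal.quotientMap_injective
  have hJ' : J' ^ 2 = ⊥ := by
    rw [eq_bot_iff]
    intro x hx
    have h1 := Ideal.mem_map_of_mem A'.val hx
    rw [Ideal.map_pow] at h1
    exact Subtype.ext (Ideal.mem_bot.1 (hJ ▸ Ideal.pow_right_mono Ideal.map_comap_le 2 h1))
  have hrange : ι.range = ψ.range := by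
    ext y
    constructor
    · rintro ⟨x, rfl⟩
      obtain ⟨⟨a, ha⟩, rfl⟩ := Ideal.Quotient.mk_surjective x
      exact ha
    · rintro ⟨s, rfl⟩
      obtain ⟨a, ha⟩ := Ideal.Quotient.mk_surjective (ψ s)
      exact ⟨Ideal.Quotient.mk J' ⟨a, ⟨s, ha.symm⟩⟩, ha⟩
  let ψ' : S →ₐ[R] A' ⧸ J' := (AlgEquiv.ofInjective ι hι).symm.toAlgHom.comp
    (ψ.codRestrict ι.range fun s => by rw [hrange]; exact ⟨s, rfl⟩)
  have hψ' : ∀ s, ι (ψ' s) = ψ s := fun s => congrArg Subtype.val
    ((AlgEquiv.ofInjective ι hι).apply_symm_apply ⟨ψ s, by rw [hrange]; exact ⟨s, rfl⟩⟩)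
  have hsurj : Function.Surjective ψ' := fun x => by
    have : ι x ∈ ψ.range := hrange ▸ ⟨x, rfl⟩
    obtain ⟨s, hs⟩ := this
    exact ⟨s, hι ((hψ' s).trans hs)⟩
  have : Nontrivial (A' ⧸ J') := ι.toRingHom.domain_nontrivial
  have : IsLocalRing (A' ⧸ J') := IsLocalRing.of_surjective' ψ'.toRingHom hsurj
  have : IsLocalHom ψ'.toRingHom := IsLocalHom.of_surjective _ hsurj
  have : IsLocalRing A' := isLocalRing_of_nilpotent J' ⟨2, hJ'⟩
  have : IsLocalHom (algebraMap R A') := by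
    refine ⟨fun r hr => isUnit_of_map_unit (algebraMap R S) r ?_⟩
    refine isUnit_of_map_unit ψ'.toRingHom _ ?_
    have h1 : IsUnit (Ideal.Quotient.mk J' (algebraMap R A' r)) := hr.map _
    rwa [AlgHom.toRingHom_eq_coe, RingHom.coe_coe, AlgHom.commutes]
  have hres : Function.Bijective (ResidueField.map ψ'.toRingHom) := by
    refine ⟨RingHom.injective _, fun y => ?_⟩
    obtain ⟨y, rfl⟩ := residue_surjective y
    obtain ⟨x, rfl⟩ := hsurj y
    exact ⟨residue S x, rfl⟩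
  have hn : maximalIdeal A' ^ (k * 2) = ⊥ := by
    have h1 : (maximalIdeal A').map (Ideal.Quotient.mk J') ≤
        (maximalIdeal S).map ψ'.toRingHom := by
      refine Ideal.map_le_iff_le_comap.2 fun a ha => ?_
      obtain ⟨s, hs⟩ := hsurj (Ideal.Quotient.mk J' a)
      rw [Ideal.mem_comap, ← hs]
      refine Ideal.mem_map_of_mem ψ'.toRingHom ?_
      rw [mem_maximalIdeal, mem_nonunits_iff] at ha ⊢
      refine fun hu => ha ((IsNilpotent.isUnit_quotient_mk_iff ⟨2, hJ'⟩).1 ?_)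
      rw [← hs]
      exact hu.map ψ'
    have h2 : maximalIdeal A' ^ k ≤ J' := by
      rw [← Ideal.mk_ker (I := J'), ← Ideal.map_eq_bot_iff_le_ker, eq_bot_iff, Ideal.map_pow]
      refine (Ideal.pow_right_mono h1 k).trans ?_
      rw [← Ideal.map_pow, Ideal.map_le_iff_le_comap]
      intro x hx
      rw [Ideal.mem_comap, Ideal.mem_bot]
      exact hι (((hψ' x).trans (hk x hx)).trans (map_zero ι).symm)
    rw [pow_mul, eq_bot_iff, ← hJ']
    exact Ideal.pow_right_mono h2 2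
  exact ⟨A', inferInstance, inferInstance, inferInstance, ψ', inferInstance, hsurj, hres, hJ',
    ⟨_, hn⟩, AlgHom.ext hψ'⟩

theorem lift_of_trivial_quotient (A : Type u) [CommRing A] [Algebra R A] (J : Ideal A)
    (hJ : J ^ 2 = ⊥) [Subsingleton (A ⧸ J)] (ψ : S →ₐ[R] A ⧸ J) :
    ∃ χ : S →ₐ[R] A, (Ideal.Quotient.mkₐ R J).comp χ = ψ := by
  have h1 : J = ⊤ := Ideal.Quotient.subsingleton_iff.1 inferInstance
  have hb : J = ⊥ := by rw [← hJ, h1, Ideal.top_pow]
  have hinj : Function.Injective (Ideal.Quotient.mkₐ R J) := by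
    rw [injective_iff_map_eq_zero]
    intro a ha
    rw [Ideal.Quotient.mkₐ_eq_mk, Ideal.Quotient.eq_zero_iff_mem, hb] at ha
    exact ha
  refine ⟨((AlgEquiv.ofBijective _ ⟨hinj, Ideal.Quotient.mkₐ_surjective R J⟩).symm.toAlgHom).comp ψ,
    AlgHom.ext fun s => ?_⟩
  exact (AlgEquiv.ofBijective _ ⟨hinj, Ideal.Quotient.mkₐ_surjective R J⟩).apply_symm_apply (ψ s)

theorem isAdicFormallySmooth_of_local [IsLocalRing R] [IsLocalRing S] [IsLocalHom (algebraMap R S)]
    (h : ∀ (A : Type u) [CommRing A] [IsLocalRing A] [Algebra R A] [IsLocalHom (algebraMap R A)]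
        (J : Ideal A), J ^ 2 = ⊥ → (∃ n : ℕ, maximalIdeal A ^ n = ⊥) →
        ∀ [IsLocalRing (A ⧸ J)] (ψ : S →ₐ[R] A ⧸ J) [IsLocalHom ψ.toRingHom],
          Function.Surjective ψ → Function.Bijective (ResidueField.map ψ.toRingHom) →
          ∃ χ : S →ₐ[R] A, (Ideal.Quotient.mkₐ R J).comp χ = ψ) :
    CAlgX.IsAdicFormallySmooth R S (maximalIdeal S) := by
  intro A _ _ J hJ ψ ⟨k, hk⟩
  rcases subsingleton_or_nontrivial (A ⧸ J) with _ | _
  · exact lift_of_trivial_quotient A J hJ ψ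
  obtain ⟨A', _, _, _, ψ', _, hs, hr, hJ', hn, hcomp⟩ := exists_local_sub A J hJ ψ k hk
  obtain ⟨χ, hχ⟩ := h A' _ hJ' hn ψ' hs hr
  refine ⟨A'.val.comp χ, AlgHom.ext fun s => ?_⟩
  rw [← hcomp, ← hχ]
  rfl

theorem lift_of_isAdicFormallySmooth [IsLocalRing S]
    (h : CAlgX.IsAdicFormallySmooth R S (maximalIdeal S)) (A : Type u) [CommRing A]
    [IsLocalRing A] [Algebra R A] (J : Ideal A) (hJ : J ^ 2 = ⊥) (n : ℕ)
    (hn : maximalIdeal A ^ n = ⊥) [IsLocalRing (A ⧸ J)] (ψ : S →ₐ[R] A ⧸ J)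
    [IsLocalHom ψ.toRingHom] : ∃ χ : S →ₐ[R] A, (Ideal.Quotient.mkₐ R J).comp χ = ψ := by
  refine h A J hJ ψ ⟨n, fun x hx => ?_⟩
  have h1 : (maximalIdeal S).map ψ.toRingHom ≤ (maximalIdeal A).map (Ideal.Quotient.mk J) := by
    refine Ideal.map_le_iff_le_comap.2 fun s hs => ?_
    obtain ⟨a, ha⟩ := Ideal.Quotient.mk_surjective (ψ s)
    rw [Ideal.mem_comap]
    refine (show ψ.toRingHom s = Ideal.Quotient.mk J a from ha.symm) ▸ Ideal.mem_map_of_mem _ ?_
    rw [mem_maximalIdeal, mem_nonunits_iff] at hs ⊢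
    intro hu
    refine hs (isUnit_of_map_unit ψ.toRingHom s ?_)
    exact (show ψ.toRingHom s = Ideal.Quotient.mk J a from ha.symm) ▸ hu.map _
  have h2 := Ideal.mem_map_of_mem ψ.toRingHom hx
  rw [Ideal.map_pow] at h2
  have h3 := Ideal.pow_right_mono h1 n h2
  rw [← Ideal.map_pow, hn, Ideal.map_bot] at h3
  exact Ideal.mem_bot.1 h3

section Small

variable {A : Type u} [CommRing A] [IsLocalRing A] [Algebra R A]

/-- Lifting through an ideal killed by the maximal ideal, given lifts through one dimensional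
quotients of it. -/
theorem lift_of_dual_lifts (K : Ideal A) (hmK : ∀ x ∈ maximalIdeal A, ∀ y ∈ K, x * y = 0)
    (hK : K ≤ maximalIdeal A) (ψ : S →ₐ[R] A ⧸ K)
    (h : ∀ (L : Ideal A) (hL : L ≤ K), IsAtom (K.map (Ideal.Quotient.mk L)) →
      ∃ β : S →ₐ[R] A ⧸ L, (Ideal.Quotient.factorₐ R hL).comp β = ψ) :
    ∃ χ : S →ₐ[R] A, (Ideal.Quotient.mkₐ R K).comp χ = ψ := by
  let _ : Module (ResidueField A) K :=
    Module.IsTorsionBySet.module (R := A) (M := K) (I := maximalIdeal A)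
      (fun y a => Subtype.ext (hmK a a.2 y.1 y.2))
  have hsmul : ∀ (a : A) (y : K), residue A a • y = a • y := fun a y => rfl
  -- the level ideals
  let L : Module.Dual (ResidueField A) K → Ideal A := fun l =>
    { carrier := {x | ∃ y : K, l y = 0 ∧ (y : A) = x}
      zero_mem' := ⟨0, map_zero l, rfl⟩
      add_mem' := by
        rintro _ _ ⟨y, hy, rfl⟩ ⟨z, hz, rfl⟩
        exact ⟨y + z, by rw [map_add, hy, hz, add_zero], rfl⟩
      smul_mem' := by
        rintro a _ ⟨y, hy, rfl⟩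
        exact ⟨a • y, by rw [← hsmul, map_smul, hy, smul_zero], rfl⟩ }
  have hL : ∀ l, L l ≤ K := fun l x ⟨y, _, hy⟩ => hy ▸ y.2
  have hex : ∀ l, ∃ β : S →ₐ[R] A ⧸ L l, (Ideal.Quotient.factorₐ R (hL l)).comp β = ψ := by
    intro l
    by_cases hl : l = 0
    · have he : K ≤ L l := fun x hx => ⟨⟨x, hx⟩, by rw [hl]; rfl, rfl⟩
      refine ⟨(Ideal.Quotient.factorₐ R he).comp ψ, AlgHom.ext fun s => ?_⟩
      simp only [AlgHom.comp_apply]
      obtain ⟨a, ha⟩ := Ideal.Quotient.mk_surjective (ψ s)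
      rw [← ha]
      rfl
    · refine h (L l) (hL l) ⟨?_, fun N hN => ?_⟩
      · rw [Ne, Ideal.map_eq_bot_iff_le_ker, Ideal.mk_ker]
        refine fun hle => hl (LinearMap.ext fun y => ?_)
        obtain ⟨z, hz, hzy⟩ := hle y.2
        rw [← Subtype.ext hzy, hz]
        rfl
      · rw [eq_bot_iff]
        intro q hq
        by_contra hq0
        refine hN.not_ge fun p hp => ?_
        obtain ⟨x, hx, rfl⟩ := (Ideal.mem_map_iff_of_surjective _ Ideal.Quotient.mk_surjective).1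
          (hN.le hq)
        obtain ⟨y, hy, rfl⟩ := (Ideal.mem_map_iff_of_surjective _ Ideal.Quotient.mk_surjective).1 hp
        rw [Submodule.mem_bot, Ideal.Quotient.eq_zero_iff_mem] at hq0
        have hlx : l ⟨x, hx⟩ ≠ 0 := fun h0 => hq0 ⟨_, h0, rfl⟩
        obtain ⟨a, ha⟩ := residue_surjective (l ⟨y, hy⟩ / l ⟨x, hx⟩)
        have : Ideal.Quotient.mk (L l) y = Ideal.Quotient.mk (L l) (a * x) := by
          rw [Ideal.Quotient.eq]
          refine ⟨⟨y, hy⟩ - a • ⟨x, hx⟩, ?_, rfl⟩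
          rw [map_sub, ← hsmul, map_smul, ha, smul_eq_mul, div_mul_cancel₀ _ hlx, sub_self]
        rw [this, map_mul]
        exact N.mul_mem_left _ hq
  choose β hβ using hex
  choose b hb using fun l s => Ideal.Quotient.mk_surjective (β l s)
  -- defects
  have hdiff : ∀ l (s : S) (a : A), Ideal.Quotient.mk K a = ψ s → b l s - a ∈ K := by
    intro l s a ha
    rw [← Ideal.Quotient.eq, ha, ← hβ l, AlgHom.comp_apply, ← hb l s]
    rfl
  let d : ∀ (s : S) (a : A), Ideal.Quotient.mk K a = ψ s →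
      Module.Dual (ResidueField A) K → ResidueField A :=
    fun s a ha l => l ⟨b l s - a, hdiff l s a ha⟩
  have hL0 : ∀ l (y : K), (y : A) ∈ L l → l y = 0 := by
    rintro l y ⟨z, hz, hzy⟩
    rw [← Subtype.ext hzy]
    exact hz
  let ev : K →ₗ[ResidueField A] (Module.Dual (ResidueField A) K → ResidueField A) :=
    LinearMap.pi fun l => l
  have hev : LinearMap.ker ev = ⊥ := by
    rw [eq_bot_iff]
    intro y hy
    exact (Module.forall_dual_apply_eq_zero_iff (ResidueField A) y).1 fun l => congrFun hy l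
  obtain ⟨r, hr⟩ := ev.exists_leftInverse_of_injective hev
  let Φ : ∀ (s : S) (a : A), Ideal.Quotient.mk K a = ψ s → A := fun s a ha => a + (r (d s a ha) : K)
  have hΦ : ∀ s a ha a' ha', Φ s a ha = Φ s a' ha' := by
    intro s a ha a' ha'
    let j : K := ⟨a' - a, by rw [← Ideal.Quotient.eq, ha, ha']⟩
    have h1 : d s a ha = d s a' ha' + ev j := by
      funext l
      show l _ = l _ + l _
      rw [← map_add]
      congr 1
      exact Subtype.ext (show b l s - a = b l s - a' + (a' - a) by ring)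
    have h2 : r (d s a ha) = r (d s a' ha') + j := by
      rw [h1, map_add]
      exact congrArg (r (d s a' ha') + ·) (LinearMap.congr_fun hr j)
    show a + (r (d s a ha) : A) = a' + (r (d s a' ha') : A)
    rw [h2]
    show a + ((r (d s a' ha') : A) + (a' - a)) = _
    ring
  choose σ hσ using fun s => Ideal.Quotient.mk_surjective (ψ s)
  let χ : S → A := fun s => Φ s (σ s) (hσ s)
  have hadd : ∀ s t, χ (s + t) = χ s + χ t := by
    intro s t
    have ha : Ideal.Quotient.mk K (σ s + σ t) = ψ (s + t) := by rw [map_add, map_add, hσ, hσ]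
    show Φ (s + t) (σ (s + t)) (hσ (s + t)) = Φ s (σ s) (hσ s) + Φ t (σ t) (hσ t)
    rw [hΦ (s + t) _ (hσ _) _ ha]
    have h1 : d (s + t) _ ha = d s _ (hσ s) + d t _ (hσ t) := by
      funext l
      show l _ = l _ + l _
      rw [← map_add, ← sub_eq_zero, ← map_sub]
      refine hL0 l _ ?_
      show b l (s + t) - (σ s + σ t) - ((b l s - σ s) + (b l t - σ t)) ∈ L l
      rw [show b l (s + t) - (σ s + σ t) - ((b l s - σ s) + (b l t - σ t)) =
        b l (s + t) - (b l s + b l t) by ring, ← Ideal.Quotient.eq, map_add, hb, hb, hb, map_add]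
    show (σ s + σ t) + ((r (d (s + t) _ ha) : K) : A) = _
    rw [h1, map_add, Submodule.coe_add]
    ring
  have hmul : ∀ s t, χ (s * t) = χ s * χ t := by
    intro s t
    have ha : Ideal.Quotient.mk K (σ s * σ t) = ψ (s * t) := by rw [map_mul, map_mul, hσ, hσ]
    show Φ (s * t) (σ (s * t)) (hσ (s * t)) = Φ s (σ s) (hσ s) * Φ t (σ t) (hσ t)
    rw [hΦ (s * t) _ (hσ _) _ ha]
    have h1 : d (s * t) _ ha = residue A (σ s) • d t _ (hσ t) + residue A (σ t) • d s _ (hσ s) := by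
      funext l
      show l _ = residue A (σ s) • l _ + residue A (σ t) • l _
      rw [← map_smul, ← map_smul, hsmul, hsmul, ← map_add, ← sub_eq_zero, ← map_sub]
      refine hL0 l _ ?_
      show b l (s * t) - σ s * σ t - (σ s * (b l t - σ t) + σ t * (b l s - σ s)) ∈ L l
      have h0 : (b l s - σ s) * (b l t - σ t) = 0 :=
        hmK _ (hK (hdiff l s _ (hσ s))) _ (hdiff l t _ (hσ t))
      rw [show b l (s * t) - σ s * σ t - (σ s * (b l t - σ t) + σ t * (b l s - σ s)) =
        b l (s * t) - b l s * b l t + (b l s - σ s) * (b l t - σ t) by ring, h0, add_zero,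
        ← Ideal.Quotient.eq, map_mul, hb, hb, hb, map_mul]
    show (σ s * σ t) + ((r (d (s * t) _ ha) : K) : A) = (_ + _) * (_ + _)
    rw [h1, map_add, map_smul, map_smul, hsmul, hsmul, Submodule.coe_add, Submodule.coe_smul,
      Submodule.coe_smul, smul_eq_mul, smul_eq_mul]
    have h0 : ((r (d s _ (hσ s)) : K) : A) * ((r (d t _ (hσ t)) : K) : A) = 0 :=
      hmK _ (hK (r (d s _ (hσ s))).2) _ (r (d t _ (hσ t))).2
    rw [add_mul, mul_add, mul_add, h0]
    ring
  have hcom : ∀ x : R, χ (algebraMap R S x) = algebraMap R A x := by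
    intro x
    have ha : Ideal.Quotient.mk K (algebraMap R A x) = ψ (algebraMap R S x) := by
      rw [AlgHom.commutes]
      rfl
    show Φ (algebraMap R S x) (σ _) (hσ _) = _
    rw [hΦ (algebraMap R S x) _ (hσ _) _ ha]
    have h1 : d _ _ ha = 0 := by
      funext l
      refine hL0 l _ ?_
      show b l (algebraMap R S x) - algebraMap R A x ∈ L l
      rw [← Ideal.Quotient.eq, hb, AlgHom.commutes]
      rfl
    show _ + ((r (d _ _ ha) : K) : A) = _
    rw [h1, map_zero, ZeroMemClass.coe_zero, add_zero]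
  refine ⟨{ toFun := χ
            map_one' := by simpa using hcom 1
            map_mul' := hmul
            map_zero' := by simpa using hcom 0
            map_add' := hadd
            commutes' := hcom }, AlgHom.ext fun s => ?_⟩
  show Ideal.Quotient.mk K (σ s + ((r (d s _ (hσ s)) : K) : A)) = ψ s
  rw [map_add, hσ, Ideal.Quotient.eq_zero_iff_mem.2 (r (d s _ (hσ s))).2, add_zero]

end Small

theorem isArtinianRing_of_atom {B : Type u} [CommRing B] (J : Ideal B) (hJ : IsAtom J)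
    [IsArtinianRing (B ⧸ J)] : IsArtinianRing B := by
  have : IsSimpleModule B J := isSimpleModule_iff_isAtom.2 hJ
  have : IsArtinian B (B ⧸ J) := isArtinian_of_surjective_algebraMap (S := B) (R := B ⧸ J) Ideal.Quotient.mk_surjective
  exact (isArtinian_iff_submodule_quotient J).2 ⟨inferInstance, inferInstance⟩

theorem isAdicFormallySmooth_of_small [IsLocalRing R] [IsLocalRing S] [IsNoetherianRing S]
    [IsLocalHom (algebraMap R S)]
    (h : ∀ (A : Type u) [CommRing A] [IsLocalRing A] [IsArtinianRing A] [Algebra R A]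
        [IsLocalHom (algebraMap R A)] (J : Ideal A), J ^ 2 = ⊥ → Module.length A J = 1 →
        ∀ [IsLocalRing (A ⧸ J)] (ψ : S →ₐ[R] A ⧸ J) [IsLocalHom ψ.toRingHom],
          Function.Bijective (ResidueField.map ψ.toRingHom) →
          ∃ χ : S →ₐ[R] A, (Ideal.Quotient.mkₐ R J).comp χ = ψ) :
    CAlgX.IsAdicFormallySmooth R S (maximalIdeal S) := by
  -- the case of an ideal killed by the maximal ideal
  have step : ∀ (B : Type u) [CommRing B] [Algebra R B] (K : Ideal B), K ^ 2 = ⊥ →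
      (∀ x : B, IsNilpotent x → ∀ y ∈ K, x * y = 0) →
      ∀ (ψ : S →ₐ[R] B ⧸ K) (k : ℕ), (∀ x ∈ maximalIdeal S ^ k, ψ x = 0) →
      ∃ χ : S →ₐ[R] B, (Ideal.Quotient.mkₐ R K).comp χ = ψ := by
    intro B _ _ K hK hnil ψ k hk
    rcases subsingleton_or_nontrivial (B ⧸ K) with _ | _
    · exact lift_of_trivial_quotient B K hK ψ
    obtain ⟨B', _, _, _, ψ', _, hs, hr, hK', ⟨n, hn⟩, hcomp⟩ := exists_local_sub B K hK ψ k hk
    let K' : Ideal B' := K.comap B'.val
    have hK'm : K' ≤ maximalIdeal B' := fun x hx => (maximalIdeal.isMaximal B').isPrime.mem_of_pow_mem 2 (by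
        rw [(Ideal.mem_bot.1 (hK' ▸ Ideal.pow_mem_pow hx 2) : x ^ 2 = 0)]; exact zero_mem _)
    suffices ∃ χ : S →ₐ[R] B', (Ideal.Quotient.mkₐ R K').comp χ = ψ' by
      obtain ⟨χ, hχ⟩ := this
      refine ⟨B'.val.comp χ, AlgHom.ext fun s => ?_⟩
      rw [← hcomp, ← hχ]
      rfl
    refine lift_of_dual_lifts K' (fun x hx y hy => Subtype.ext ?_) hK'm ψ' fun L hL hatom => ?_
    · refine hnil x.1 ?_ y.1 hy
      exact (IsNilpotent.map ⟨n, Ideal.mem_bot.1 (hn ▸ Ideal.pow_mem_pow hx n)⟩ B'.val)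
    have hLtop : L ≠ ⊤ := fun hh => (maximalIdeal.isMaximal B').ne_top (top_le_iff.1
      (hh ▸ hL.trans hK'm))
    have : Nontrivial (B' ⧸ L) := Ideal.Quotient.nontrivial_iff.2 hLtop
    have : IsLocalRing (B' ⧸ L) := IsLocalRing.of_surjective' _ Ideal.Quotient.mk_surjective
    have : IsLocalHom (Ideal.Quotient.mk L) := IsLocalHom.of_surjective _ Ideal.Quotient.mk_surjective
    have : IsLocalHom (algebraMap R (B' ⧸ L)) :=
      inferInstanceAs (IsLocalHom ((Ideal.Quotient.mk L).comp (algebraMap R B')))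
    let e : ((B' ⧸ L) ⧸ K'.map (Ideal.Quotient.mk L)) ≃ₐ[R] B' ⧸ K' :=
      DoubleQuot.quotQuotEquivQuotOfLEₐ R hL
    have : Nontrivial ((B' ⧸ L) ⧸ K'.map (Ideal.Quotient.mk L)) := e.toEquiv.nontrivial
    have : IsLocalRing ((B' ⧸ L) ⧸ K'.map (Ideal.Quotient.mk L)) :=
      IsLocalRing.of_surjective' _ Ideal.Quotient.mk_surjective
    let φ : S →ₐ[R] (B' ⧸ L) ⧸ K'.map (Ideal.Quotient.mk L) := e.symm.toAlgHom.comp ψ'
    have hφs : Function.Surjective φ := e.symm.surjective.comp hs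
    have : IsLocalHom φ.toRingHom := IsLocalHom.of_surjective _ hφs
    have : IsNoetherianRing ((B' ⧸ L) ⧸ K'.map (Ideal.Quotient.mk L)) :=
      isNoetherianRing_of_surjective S _ φ.toRingHom hφs
    have hart : IsArtinianRing ((B' ⧸ L) ⧸ K'.map (Ideal.Quotient.mk L)) := by
      rw [isArtinianRing_iff_isNilpotent_maximalIdeal]
      refine ⟨n, ?_⟩
      let g := (Ideal.Quotient.mk (K'.map (Ideal.Quotient.mk L))).comp (Ideal.Quotient.mk L)
      have hg : Function.Surjective g :=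
        Ideal.Quotient.mk_surjective.comp Ideal.Quotient.mk_surjective
      rw [← IsLocalRing.map_maximalIdeal_of_surjective g hg, ← Ideal.map_pow, hn, Ideal.map_bot]
      rfl
    have : IsArtinianRing (B' ⧸ L) := isArtinianRing_of_atom _ hatom
    have : IsSimpleModule (B' ⧸ L) (K'.map (Ideal.Quotient.mk L)) :=
      isSimpleModule_iff_isAtom.2 hatom
    obtain ⟨χ, hχ⟩ := h (B' ⧸ L) (K'.map (Ideal.Quotient.mk L))
      (by rw [← Ideal.map_pow, hK', Ideal.map_bot]) (Module.length_eq_one _ _) φ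
      ⟨RingHom.injective _, fun y => by
        obtain ⟨y, rfl⟩ := residue_surjective y
        obtain ⟨x, rfl⟩ := hφs y
        exact ⟨residue S x, rfl⟩⟩
    refine ⟨χ, AlgHom.ext fun s => ?_⟩
    have h2 := congrArg e (AlgHom.congr_fun hχ s)
    refine Eq.trans ?_ (h2.trans (e.apply_symm_apply (ψ' s)))
    obtain ⟨a, ha⟩ := Ideal.Quotient.mk_surjective (χ s)
    simp only [AlgHom.comp_apply, ← ha]
    rfl
  refine isAdicFormallySmooth_of_local fun A _ _ _ _ J hJ hn _ ψ _ hs _ => ?_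
  obtain ⟨n, hn⟩ := hn
  suffices ∀ i : ℕ, ∃ χ : S →ₐ[R] A ⧸ maximalIdeal A ^ i * J,
      (Ideal.Quotient.factorₐ R Ideal.mul_le_right).comp χ = ψ by
    obtain ⟨χ, hχ⟩ := this n
    have hbot : maximalIdeal A ^ n * J = ⊥ := by rw [hn, Ideal.bot_mul]
    refine ⟨((AlgEquiv.quotientBot R A).toAlgHom.comp
      (Ideal.quotientEquivAlgOfEq R hbot).toAlgHom).comp χ, AlgHom.ext fun s => ?_⟩
    rw [← hχ]
    obtain ⟨a, ha⟩ := Ideal.Quotient.mk_surjective (χ s)
    simp only [AlgHom.comp_apply, ← ha]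
    rfl
  intro i
  induction i with
  | zero =>
    have he : J ≤ maximalIdeal A ^ 0 * J := by rw [pow_zero, Ideal.one_eq_top, Ideal.top_mul]
    refine ⟨(Ideal.Quotient.factorₐ R he).comp ψ, AlgHom.ext fun s => ?_⟩
    obtain ⟨a, ha⟩ := Ideal.Quotient.mk_surjective (ψ s)
    simp only [AlgHom.comp_apply, ← ha]
    rfl
  | succ i ih =>
    obtain ⟨χ, hχ⟩ := ih
    let I := maximalIdeal A ^ (i + 1) * J
    let I' := maximalIdeal A ^ i * J
    have hII : I ≤ I' := Ideal.mul_mono_left (Ideal.pow_le_pow_right (Nat.le_succ i))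
    let e : ((A ⧸ I) ⧸ I'.map (Ideal.Quotient.mkₐ R I)) ≃ₐ[R] A ⧸ I' :=
      DoubleQuot.quotQuotEquivQuotOfLEₐ R hII
    have h2 : (I'.map (Ideal.Quotient.mkₐ R I)) ^ 2 = ⊥ := by
      rw [← Ideal.map_pow, eq_bot_iff, ← Ideal.map_bot (f := Ideal.Quotient.mkₐ R I), ← hJ]
      exact Ideal.map_mono (Ideal.pow_right_mono Ideal.mul_le_right 2)
    obtain ⟨n', hk⟩ : ∃ k : ℕ, ∀ x ∈ maximalIdeal S ^ k, χ x = 0 := by
      refine ⟨n * 2, fun x hx => ?_⟩
      have h1 : (maximalIdeal S).map χ.toRingHom ≤ (maximalIdeal A).map (Ideal.Quotient.mk I') := by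
        refine Ideal.map_le_iff_le_comap.2 fun s hs => ?_
        obtain ⟨a, ha⟩ := Ideal.Quotient.mk_surjective (χ s)
        rw [Ideal.mem_comap]
        refine (show χ.toRingHom s = Ideal.Quotient.mk I' a from ha.symm) ▸ Ideal.mem_map_of_mem _ ?_
        rw [mem_maximalIdeal, mem_nonunits_iff] at hs ⊢
        intro hu
        refine hs (isUnit_of_map_unit ψ.toRingHom s ?_)
        rw [← hχ]
        show IsUnit (Ideal.Quotient.factorₐ R (Ideal.mul_le_right : I' ≤ J) (χ s))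
        rw [← ha]
        exact (hu.map _).map _
      have h3 := Ideal.pow_right_mono h1 (n * 2) (Ideal.map_pow χ.toRingHom (maximalIdeal S) _ ▸
        Ideal.mem_map_of_mem χ.toRingHom hx)
      rw [← Ideal.map_pow, pow_mul, hn, ← Ideal.zero_eq_bot, zero_pow two_ne_zero,
        Ideal.zero_eq_bot, Ideal.map_bot] at h3
      exact Ideal.mem_bot.1 h3
    have hnil : ∀ x : A ⧸ I, IsNilpotent x → ∀ y ∈ I'.map (Ideal.Quotient.mkₐ R I), x * y = 0 := ?hnil
    obtain ⟨χ', hχ'⟩ := step (A ⧸ I) (I'.map (Ideal.Quotient.mkₐ R I)) h2 hnil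
      (e.symm.toAlgHom.comp χ) n' (fun x hx => by rw [AlgHom.comp_apply, hk x hx, map_zero])
    · refine ⟨χ', AlgHom.ext fun s => ?_⟩
      rw [← hχ]
      have h4 := congrArg e (AlgHom.congr_fun hχ' s)
      simp only [AlgHom.comp_apply] at h4 ⊢
      rw [show χ s = e (Ideal.Quotient.mkₐ R (I'.map (Ideal.Quotient.mkₐ R I)) (χ' s)) from
        ((h4.trans (e.apply_symm_apply (χ s)))).symm]
      obtain ⟨a, ha⟩ := Ideal.Quotient.mk_surjective (χ' s)
      rw [← ha]
      rfl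
    case hnil =>
      intro x hx y hy
      obtain ⟨x, rfl⟩ := Ideal.Quotient.mk_surjective x
      obtain ⟨y, hy', rfl⟩ := (Ideal.mem_map_iff_of_surjective _
        (Ideal.Quotient.mkₐ_surjective R I)).1 hy
      rw [Ideal.Quotient.mkₐ_eq_mk, ← map_mul, Ideal.Quotient.eq_zero_iff_mem]
      have hxm : x ∈ maximalIdeal A := by
        rw [mem_maximalIdeal, mem_nonunits_iff]
        intro hu
        have hI : I ≠ ⊤ := fun hh => (maximalIdeal.isMaximal A).ne_top (top_le_iff.1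
          (hh ▸ Ideal.mul_le_left.trans (Ideal.pow_le_self (Nat.succ_ne_zero i))))
        have : Nontrivial (A ⧸ I) := Ideal.Quotient.nontrivial_iff.2 hI
        exact hx.not_isUnit (hu.map _)
      show x * y ∈ maximalIdeal A ^ (i + 1) * J
      rw [pow_succ', mul_assoc]
      exact Ideal.mul_mem_mul hxm hy'

theorem lift_small_of_isAdicFormallySmooth [IsLocalRing S]
    (h : CAlgX.IsAdicFormallySmooth R S (maximalIdeal S)) (A : Type u) [CommRing A]
    [IsLocalRing A] [IsArtinianRing A] [Algebra R A] (J : Ideal A) (hJ : J ^ 2 = ⊥)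
    [IsLocalRing (A ⧸ J)] (ψ : S →ₐ[R] A ⧸ J)
    [IsLocalHom ψ.toRingHom] : ∃ χ : S →ₐ[R] A, (Ideal.Quotient.mkₐ R J).comp χ = ψ := by
  obtain ⟨n, hn⟩ := (isArtinianRing_iff_isNilpotent_maximalIdeal A).1 inferInstance
  exact lift_of_isAdicFormallySmooth h A J hJ n hn ψ

end Groth.Agent.CAlg5
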