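import Groth.Agent.CAlg5.FlatSolve

/-!
# Algebraizing quotients of completions with torsion conormal module
-/

set_option autoImplicit false
set_option maxHeartbeats 400000
universe u

namespace Groth.Agent.CAlg5

variable {B Bh : Type u} [CommRing B] [CommRing Bh] [Algebra B Bh]

/-- A morphism which is bijective modulo all powers of `a`. -/
structure BijMod {D M : Type u} [CommRing D] [CommRing M] [Algebra B D] [Algebra B M]
    (a : Ideal B) (θ : D →ₐ[B] M) : Prop where
  surj : ∀ (n : ℕ) (x : M), ∃ d : D, x - θ d ∈ (a.map (algebraMap B M)) ^ n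
  inj : ∀ (n : ℕ) (d : D), θ d ∈ (a.map (algebraMap B M)) ^ n → d ∈ (a.map (algebraMap B D)) ^ n

theorem exists_E (a : Ideal B) (J : Ideal Bh) (hJfg : J.FG) {c : ℕ}
    (hJ : (a.map (algebraMap B Bh)) ^ c * J ≤ J ^ 2) {x : B} (hx : x ∈ a ^ (c + 1)) :
    ∃ (e : ℕ) (E : Bh), 1 ≤ e ∧ E - algebraMap B Bh (x ^ e) ∈ J ∧ ∀ j ∈ J, E * j = 0 := by
  have : Module.Finite Bh J := .of_fg hJfg
  let f : Module.End Bh J := algebraMap Bh _ (algebraMap B Bh x)
  have hf : LinearMap.range f ≤ J • ⊤ := by
    rintro _ ⟨j, rfl⟩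
    rw [Submodule.mem_smul_top_iff]
    have h1 : algebraMap B Bh x * (j : Bh) ∈ J ^ 2 := by
      refine hJ (Ideal.mul_mem_mul ?_ j.2)
      rw [← Ideal.map_pow]
      exact Ideal.mem_map_of_mem _ (Ideal.pow_le_pow_right (Nat.le_succ c) hx)
    rw [pow_two] at h1
    simpa [f, Module.algebraMap_end_apply, Algebra.smul_def] using h1
  obtain ⟨p, hp, -, hcoeff, hpev⟩ :=
    LinearMap.exists_monic_and_natDegree_eq_and_coeff_mem_pow_and_aeval_eq_zero Bh f J hf
  let z := algebraMap B Bh x
  refine ⟨p.natDegree + 1, z * p.eval z, le_add_self, ?_, fun j hj => ?_⟩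
  · have h1 : p.eval z - z ^ p.natDegree ∈ J := by
      rw [congrArg (Polynomial.eval z) hp.as_sum]
      simp only [Polynomial.eval_add, Polynomial.eval_pow, Polynomial.eval_X, add_sub_cancel_left,
        Polynomial.eval_finsetSum, Polynomial.eval_mul, Polynomial.eval_C]
      refine Ideal.sum_mem _ fun i hi => Ideal.mul_mem_right _ _ ?_
      exact Ideal.pow_le_self (by have := Finset.mem_range.mp hi; omega) (hcoeff i)
    rw [map_pow, pow_succ']
    rw [← mul_sub]
    exact Ideal.mul_mem_left _ _ h1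
  · have h1 := congrArg (fun g : Module.End Bh J => (g ⟨j, hj⟩ : Bh)) hpev
    have h2 : Polynomial.aeval f p = algebraMap Bh (Module.End Bh J) (p.eval z) := by
      rw [Polynomial.aeval_algebraMap_apply, Polynomial.coe_aeval_eq_eval]
    simp only [h2, Module.algebraMap_end_apply, SetLike.val_smul, smul_eq_mul, LinearMap.zero_apply,
      ZeroMemClass.coe_zero] at h1
    rw [mul_assoc, h1, mul_zero]

/-- The setting after choosing generators: `E i` kills `J` and is congruent to `b i`. -/
theorem exists_decomp [Module.Flat B Bh] {a : Ideal B} (hc : Cong a Bh) {l : ℕ} (b : Fin l → B) {k : ℕ}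
    (hk : a ^ k ≤ Ideal.span (Set.range b)) (E : Fin l → Bh)
    (hE : ∀ i j, algebraMap B Bh (b i) * E j = algebraMap B Bh (b j) * E i) :
    ∃ (σ : Fin l → B) (bh : Bh), ∀ i, E i = algebraMap B Bh (σ i) + bh * algebraMap B Bh (b i) := by
  classical
  let e : Fin (l * l) ≃ Fin l × Fin l := finProdFinEquiv.symm
  let v : Fin (l * l) → Fin l → B := fun r =>
    Pi.single (e r).2 (b (e r).1) - Pi.single (e r).1 (b (e r).2)
  have hv : ∀ (M : Type u) [CommRing M] (g : B →+* M) (z : Fin l → M) (r : Fin (l * l)),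
      ∑ q, g (v r q) * z q = g (b (e r).1) * z (e r).2 - g (b (e r).2) * z (e r).1 := fun M _ g z r => by
    simp [v, map_sub, sub_mul, Finset.sum_sub_distrib, Pi.single_apply, apply_ite g, ite_mul]
  obtain ⟨N, φ, y, hφ, hy⟩ := exists_solution v E (fun r => by rw [hv Bh, hE, sub_self])
  have hφ' : ∀ t i j, b i * φ t j = b j * φ t i := fun t i j => by
    have h := hφ t (e.symm (i, j))
    have h' := hv B (RingHom.id B) (φ t) (e.symm (i, j))
    simp only [RingHom.id_apply, Equiv.apply_symm_apply] at h'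
    rw [h', sub_eq_zero] at h
    exact h
  choose c β hcβ using fun t => exists_approx b hc hk (y t)
  refine ⟨fun i => ∑ t, φ t i * c t, ∑ t, ∑ q, β t q * algebraMap B Bh (φ t q), fun i => ?_⟩
  rw [hy i, map_sum, Finset.sum_mul, ← Finset.sum_add_distrib]
  refine Finset.sum_congr rfl fun t _ => ?_
  rw [hcβ t, mul_add, map_mul, Finset.mul_sum, Finset.sum_mul]
  congr 1
  refine Finset.sum_congr rfl fun q _ => ?_
  have h' := congrArg (algebraMap B Bh) (hφ' t q i)
  rw [map_mul, map_mul] at h'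
  linear_combination β t q * h'

theorem isUnit_of_sub_one_mem {a : Ideal B} (hjac : a.map (algebraMap B Bh) ≤ (⊥ : Ideal Bh).jacobson)
    {x : Bh} (hx : x - 1 ∈ a.map (algebraMap B Bh)) : IsUnit x := by
  have h := Ideal.mem_jacobson_bot.mp (hjac hx) 1
  rwa [mul_one, sub_add_cancel] at h

theorem exists_model [IsNoetherianRing B] [IsNoetherianRing Bh] [Module.Flat B Bh] {a : Ideal B}
    (hc : Cong a Bh) (hjac : a.map (algebraMap B Bh) ≤ (⊥ : Ideal Bh).jacobson)
    (J : Ideal Bh) {c : ℕ} (hJ : (a.map (algebraMap B Bh)) ^ c * J ≤ J ^ 2) :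
    ∃ (H : Ideal Bh) (k : ℕ) (D : Type u) (_ : CommRing D) (_ : Algebra B D),
      H ≤ J ∧ (a.map (algebraMap B Bh)) ^ k * J ≤ H ∧ Algebra.FiniteType B D ∧
      ∃ θ : D →ₐ[B] Bh ⧸ H, BijMod a θ := by
  classical
  obtain ⟨l, g, hg⟩ := Submodule.fg_iff_exists_fin_generating_family.mp
    (IsNoetherian.noetherian (a ^ (c + 1)))
  choose e E he hEJ hEkill using fun i : Fin l => exists_E a J (IsNoetherian.noetherian J) hJ
    (x := g i) (hg ▸ Submodule.subset_span ⟨i, rfl⟩)
  let ι := algebraMap B Bh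
  let b : Fin l → B := fun i => g i ^ e i
  let h : Fin l → Bh := fun i => E i - ι (b i)
  let H : Ideal Bh := Ideal.span (Set.range h)
  have hH : H ≤ J := Ideal.span_le.mpr (by rintro _ ⟨i, rfl⟩; exact hEJ i)
  have hba : ∀ i, b i ∈ a := fun i =>
    Ideal.pow_mem_of_mem a (Ideal.pow_le_self (Nat.succ_ne_zero c) (hg ▸ Submodule.subset_span ⟨i, rfl⟩))
      (e i) (he i)
  obtain ⟨k, hk⟩ := exists_pow_le_span g e (m := c + 1) hg.ge
  have hkJ : (a.map ι) ^ k * J ≤ H := by
    rw [← Ideal.map_pow]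
    refine (Ideal.mul_mono_left (Ideal.map_mono hk)).trans ?_
    rw [Ideal.map_span, Ideal.mul_le]
    intro x hx j hj
    induction hx using Submodule.span_induction with
    | mem x hx =>
      obtain ⟨_, ⟨i, rfl⟩, rfl⟩ := hx
      have h0 : ι (g i ^ e i) * j = -(h i * j) := by
        simp only [h, b, sub_mul, hEkill i j hj, zero_sub, neg_neg]
      rw [h0]
      exact neg_mem (Ideal.mul_mem_right _ _ (Ideal.subset_span ⟨i, rfl⟩))
    | zero => simp
    | add x y _ _ hx hy => rw [add_mul]; exact add_mem hx hy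
    | smul r x _ hx => rw [smul_eq_mul, mul_assoc]; exact Ideal.mul_mem_left _ _ hx
  have hcross : ∀ i j, ι (b i) * E j = ι (b j) * E i := fun i j => by
    linear_combination (hEkill i (h j) (hEJ j)) - (hEkill j (h i) (hEJ i))
  have hidem : ∀ i, E i * E i = ι (b i) * E i := fun i => by
    linear_combination hEkill i (h i) (hEJ i)
  obtain ⟨σ, bh, hσ⟩ := exists_decomp hc b hk E hcross
  obtain ⟨b0, β', hb0⟩ := exists_approx b hc hk bh
  let dlt : Bh := ∑ i, β' i * ι (b i)
  let S : Bh := ∑ i, β' i * E i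
  have hdS : ∀ i, ι (b i) * S = dlt * E i := fun i => by
    rw [Finset.mul_sum, Finset.sum_mul]
    refine Finset.sum_congr rfl fun j _ => ?_
    linear_combination β' j * hcross i j
  let α : B := 1 - 2 * b0
  let gh : Bh := bh ^ 2 + ι α * bh - 2 * S
  have hbh : bh = ι b0 + dlt := hb0
  have hα : ι α = 1 - 2 * ι b0 := by simp only [ι, α, map_sub, map_one, map_mul, map_ofNat]
  obtain ⟨k2, hk2⟩ := exists_pow_le_span b (fun _ => 2) hk
  obtain ⟨f, β, hf, hfβ⟩ := exists_colon (fun i => b i ^ 2) hc hk2 gh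
    (fun i => σ i ^ 2 - α * (b i * σ i)) (fun i => by
      have hs : algebraMap B Bh (σ i) = E i - bh * ι (b i) := by rw [hσ i]; ring
      simp only [map_pow, map_sub, map_mul, hs, gh]
      change ι (b i) ^ 2 * (bh ^ 2 + ι α * bh - 2 * S) =
        (E i - bh * ι (b i)) ^ 2 - ι α * (ι (b i) * (E i - bh * ι (b i)))
      linear_combination (-(2 * ι (b i))) * hdS i - hidem i + (ι (b i) * E i) * hα
        + (2 * ι (b i) * E i) * hbh)
  -- the presentation
  let P := MvPolynomial (Fin 2) B
  let rels : Set P := Set.range (fun i => MvPolynomial.C (b i) * MvPolynomial.X 0 - MvPolynomial.C (σ i)) ∪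
    {MvPolynomial.C f * (MvPolynomial.X 0 ^ 2 - MvPolynomial.C α * MvPolynomial.X 0) - MvPolynomial.C β,
      MvPolynomial.C f * (MvPolynomial.X 0 + MvPolynomial.C b0) * MvPolynomial.X 1 - 1}
  let M := Bh ⧸ H
  let q : Bh →ₐ[B] M := Ideal.Quotient.mkₐ B H
  have hdlt : dlt ∈ a.map ι := Ideal.sum_mem _ fun i _ =>
    Ideal.mul_mem_left _ _ (Ideal.mem_map_of_mem _ (hba i))
  obtain ⟨w, hw⟩ : IsUnit (ι f * (1 - dlt)) := (isUnit_of_sub_one_mem hjac (by
      rw [← map_one ι, ← map_sub]; exact Ideal.mem_map_of_mem _ hf)).mul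
    (isUnit_of_sub_one_mem hjac (by rw [sub_sub_cancel_left]; exact neg_mem hdlt))
  let pt : Fin 2 → M := ![q (1 - bh), q ((w⁻¹ : Bhˣ) : Bh)]
  let ev : P →ₐ[B] M := MvPolynomial.aeval pt
  have hqH : ∀ x, x ∈ H → q x = 0 := fun x hx => Ideal.Quotient.eq_zero_iff_mem.mpr hx
  have hqh : ∀ i, q (h i) = 0 := fun i => hqH _ (Ideal.subset_span ⟨i, rfl⟩)
  have hqι : ∀ r, algebraMap B M r = q (ι r) := fun r => (q.commutes r).symm
  have hev0 : ev (MvPolynomial.X 0) = q (1 - bh) := MvPolynomial.aeval_X pt 0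
  have hev1 : ev (MvPolynomial.X 1) = q ((w⁻¹ : Bhˣ) : Bh) := MvPolynomial.aeval_X pt 1
  have hevC : ∀ r, ev (MvPolynomial.C r) = q (ι r) := fun r =>
    (MvPolynomial.aeval_C pt r).trans (hqι r)
  have hrels : Ideal.span rels ≤ RingHom.ker ev := by
    rw [Ideal.span_le]
    rintro x (⟨i, rfl⟩ | rfl | rfl)
    · show ev _ = 0
      rw [map_sub ev, map_mul ev, hevC, hev0, hevC, ← map_mul, ← map_sub]
      refine (congrArg q ?_).trans (neg_eq_zero.mpr (hqh i) ▸ map_neg q (h i))
      simp only [h]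
      linear_combination hσ i
    · show ev _ = 0
      rw [map_sub ev, map_mul ev, map_sub ev, map_pow ev, map_mul ev, hevC, hevC, hev0, hevC,
        ← map_pow, ← map_mul, ← map_sub, ← map_mul, ← map_sub]
      refine hqH _ ?_
      have h1 : S - dlt ∈ H := by
        simp only [S, dlt, ← Finset.sum_sub_distrib, ← mul_sub]
        exact Ideal.sum_mem _ fun i _ => Ideal.mul_mem_left _ _ (Ideal.subset_span ⟨i, rfl⟩)
      have h2 : ι f * ((1 - bh) ^ 2 - ι α * (1 - bh)) - ι β = 2 * ι f * (S - dlt) := by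
        change _ = _
        rw [show ι β = ι f * gh from hfβ.symm, hα, hbh]
        simp only [gh, hα, hbh]
        ring
      rw [h2]
      exact Ideal.mul_mem_left _ _ h1
    · show ev _ = 0
      rw [map_sub ev, map_mul ev, map_mul ev, map_add ev, map_one ev, hevC, hevC, hev0, hev1,
        ← map_add, ← map_mul, ← map_mul,
        show ι f * (1 - bh + ι b0) * ((w⁻¹ : Bhˣ) : Bh) = ι f * (1 - dlt) * ((w⁻¹ : Bhˣ) : Bh) by
          rw [hbh]; ring]
      rw [← hw, Units.mul_inv, map_one, sub_self]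
  let D := P ⧸ Ideal.span rels
  let θ : D →ₐ[B] M := Ideal.Quotient.liftₐ _ ev hrels
  refine ⟨H, k, D, (Ideal.Quotient.commRing (Ideal.span rels) : CommRing D),
    (Ideal.Quotient.algebra B : Algebra B D), hH, hkJ, inferInstance, θ, ⟨fun n x => ?_, fun n d hd => ?_⟩⟩
  · obtain ⟨x, rfl⟩ := Ideal.Quotient.mk_surjective x
    obtain ⟨r, hr⟩ := hc.surj n x
    refine ⟨algebraMap B D r, ?_⟩
    rw [θ.commutes, hqι, ← Ideal.Quotient.mkₐ_eq_mk B, ← map_sub,
      ← q.comp_algebraMap, ← Ideal.map_map, ← Ideal.map_pow]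
    exact Ideal.mem_map_of_mem (q : Bh →+* M) hr
  · -- the inverse modulo `a ^ n`
    let A : Ideal D := (a.map (algebraMap B D)) ^ n
    let En : Type u := D ⧸ A
    letI : CommRing En := Ideal.Quotient.commRing A
    letI : Algebra B En := Ideal.Quotient.algebra B
    let al : B →+* En := algebraMap B En
    have hann : ∀ x ∈ a ^ n, algebraMap B En x = 0 := fun x hx => by
      rw [IsScalarTower.algebraMap_apply B D En, Ideal.Quotient.algebraMap_eq,
        Ideal.Quotient.eq_zero_iff_mem]
      show _ ∈ (a.map _) ^ n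
      rw [← Ideal.map_pow]
      exact Ideal.mem_map_of_mem _ hx
    choose ap hap using hc.surj n
    have key : ∀ (x : Bh) (r : B), x - ι r ∈ (a.map ι) ^ n → al (ap x) = al r := by
      intro x r hr
      rw [← sub_eq_zero, ← map_sub]
      apply hann
      apply hc.inj
      rw [map_sub]
      have := sub_mem hr (hap x)
      convert this using 1
      ring
    let ρ : Bh →+* En :=
      { toFun := fun x => al (ap x)
        map_one' := by rw [key 1 1 (by rw [map_one, sub_self]; exact zero_mem _), map_one]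
        map_mul' := fun x y => by
          rw [key (x * y) (ap x * ap y), map_mul]
          rw [map_mul, show x * y - ι (ap x) * ι (ap y) = (x - ι (ap x)) * y + ι (ap x) * (y - ι (ap y)) by ring]
          exact add_mem (Ideal.mul_mem_right _ _ (hap x)) (Ideal.mul_mem_left _ _ (hap y))
        map_zero' := by rw [key 0 0 (by rw [map_zero, sub_self]; exact zero_mem _), map_zero]
        map_add' := fun x y => by
          rw [key (x + y) (ap x + ap y), map_add]
          rw [map_add, show x + y - (ι (ap x) + ι (ap y)) = (x - ι (ap x)) + (y - ι (ap y)) by ring]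
          exact add_mem (hap x) (hap y) }
    have hρι : ∀ r, ρ (ι r) = algebraMap B En r := fun r =>
      key (ι r) r (by rw [sub_self]; exact zero_mem _)
    let mkE : P →ₐ[B] En := (Ideal.Quotient.mkₐ B A).comp (Ideal.Quotient.mkₐ B (Ideal.span rels))
    let Y : En := mkE (MvPolynomial.X 0)
    let Z : En := mkE (MvPolynomial.X 1)
    have hrel : ∀ x ∈ rels, mkE x = 0 := fun x hx => by
      show Ideal.Quotient.mk A (Ideal.Quotient.mk _ x) = 0
      rw [Ideal.Quotient.eq_zero_iff_mem.mpr (Ideal.subset_span hx), map_zero]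
    have hmC : ∀ r, mkE (MvPolynomial.C r) = ρ (ι r) := fun r => by
      rw [hρι, ← MvPolynomial.algebraMap_eq, mkE.commutes]
    have rel1 : ∀ i, ρ (ι (b i)) * Y = ρ (ι (σ i)) := fun i => by
      have := hrel _ (Or.inl ⟨i, rfl⟩)
      simpa only [map_sub, map_mul, hmC, sub_eq_zero] using this
    have rel2 : ρ (ι f) * (Y ^ 2 - ρ (ι α) * Y) = ρ (ι β) := by
      have := hrel _ (Or.inr (Or.inl rfl))
      simpa only [map_sub, map_mul, map_pow, hmC, sub_eq_zero] using this
    have rel3 : ρ (ι f) * (Y + ρ (ι b0)) * Z = 1 := by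
      have := hrel _ (Or.inr (Or.inr rfl))
      simpa only [map_sub, map_mul, map_add, map_one, hmC, sub_eq_zero] using this
    have hnil : ∀ x ∈ a.map ι, IsNilpotent (ρ x) := fun x hx => ⟨n, by
      rw [← map_pow]
      have h1 := key (x ^ n) 0 (by rw [map_zero, sub_zero]; exact Ideal.pow_mem_pow hx n)
      rw [map_zero] at h1
      exact h1⟩
    have hbi : ∀ i, ρ (E i) = ρ (ι (b i)) * (Y + ρ bh) := fun i => by
      rw [hσ i, map_add, map_mul, mul_add, rel1, mul_comm (ρ bh)]
    have hρf : IsUnit (ρ (ι f)) := IsUnit.of_mul_eq_one ((Y + ρ (ι b0)) * Z) (by rw [← mul_assoc]; exact rel3)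
    have hY2 : Y ^ 2 - ρ (ι α) * Y = ρ gh := hρf.mul_left_cancel (by
      rw [rel2, show ι β = ι f * gh from hfβ.symm, map_mul])
    have hDY : ρ dlt * Y = ρ S - ρ dlt * ρ bh := by
      simp only [dlt, S, map_sum, Finset.sum_mul, ← Finset.sum_sub_distrib]
      refine Finset.sum_congr rfl fun i _ => ?_
      rw [map_mul, map_mul, hbi i]
      ring
    have he2 : (Y + ρ bh) * (Y + ρ bh) = Y + ρ bh := by
      have hgh : ρ gh = ρ bh ^ 2 + ρ (ι α) * ρ bh - 2 * ρ S := by
        simp only [gh, map_sub, map_add, map_mul, map_pow, map_ofNat]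
      have hαρ : ρ (ι α) = 1 - 2 * ρ (ι b0) := by
        rw [hα]; simp only [map_sub, map_one, map_mul, map_ofNat]
      have hbhρ : ρ bh = ρ (ι b0) + ρ dlt := by rw [hbh, map_add]
      linear_combination hY2 + hgh + 2 * hDY + (Y + ρ bh) * hαρ + (2 * (Y + ρ bh)) * hbhρ
    have he : IsUnit (Y + ρ bh) := by
      have h1 : IsUnit (Y + ρ (ι b0)) := IsUnit.of_mul_eq_one (ρ (ι f) * Z) (by rw [← rel3]; ring)
      rw [hbh, map_add, ← add_assoc]
      exact IsNilpotent.isUnit_add_left_of_commute (hnil dlt hdlt) h1 (Commute.all _ _)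
    have he1 : Y + ρ bh = 1 := he.mul_left_cancel (by rw [he2, mul_one])
    have hρH : ∀ x ∈ H, ρ x = 0 := fun x hx => (show H ≤ RingHom.ker ρ by
      rw [Ideal.span_le]
      rintro _ ⟨i, rfl⟩
      rw [SetLike.mem_coe, RingHom.mem_ker, map_sub, hbi, he1, mul_one, sub_self]) hx
    let ψ : M →ₐ[B] En :=
      { Ideal.Quotient.lift H ρ hρH with commutes' := fun r => hρι r }
    have hψq : ∀ x, ψ (q x) = ρ x := fun x => rfl
    have hψθ : (ψ.comp θ).comp (Ideal.Quotient.mkₐ B _) = mkE := by
      refine MvPolynomial.algHom_ext fun i => ?_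
      show ψ (θ (Ideal.Quotient.mk _ (MvPolynomial.X i))) = mkE (MvPolynomial.X i)
      rw [show θ (Ideal.Quotient.mk _ (MvPolynomial.X i)) = ev (MvPolynomial.X i) from rfl,
        show ev (MvPolynomial.X i) = pt i from MvPolynomial.aeval_X pt i]
      have h0 : ψ (pt 0) = Y := by
        show ψ (q (1 - bh)) = Y
        rw [hψq, map_sub, map_one]
        linear_combination -he1
      fin_cases i
      · exact h0
      · show ψ (q ((w⁻¹ : Bhˣ) : Bh)) = Z
        rw [hψq]
        have h1 : ρ (ι f * (1 - dlt)) * Z = 1 := by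
          have hbhρ : ρ bh = ρ (ι b0) + ρ dlt := by rw [hbh, map_add]
          have h2 : 1 - ρ dlt = Y + ρ (ι b0) := by linear_combination -he1 + hbhρ
          rw [map_mul, map_sub, map_one, h2, rel3]
        rw [← hw] at h1
        calc ρ ((w⁻¹ : Bhˣ) : Bh) = ρ ((w⁻¹ : Bhˣ) : Bh) * (ρ (w : Bh) * Z) := by rw [h1, mul_one]
          _ = Z := by rw [← mul_assoc, ← map_mul, Units.inv_mul, map_one, one_mul]
    obtain ⟨p, rfl⟩ := Ideal.Quotient.mk_surjective d
    have h1 : ψ (θ (Ideal.Quotient.mk _ p)) = mkE p := congr($hψθ p)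
    have h2 : ψ (θ (Ideal.Quotient.mk _ p)) = 0 := by
      have h3 := Ideal.mem_map_of_mem (ψ : M →+* En) hd
      rw [Ideal.map_pow, Ideal.map_map, ψ.comp_algebraMap, ← Ideal.map_pow] at h3
      have h4 : (a ^ n).map (algebraMap B En) = ⊥ := by
        rw [eq_bot_iff, Ideal.map_le_iff_le_comap]
        exact fun x hx => hann x hx
      rw [h4] at h3
      exact h3
    rw [h1] at h2
    exact Ideal.Quotient.eq_zero_iff_mem.mp h2

/-- Dividing a model by a torsion ideal. -/
theorem exists_quotient_model {a : Ideal B} {D M N : Type u} [CommRing D] [CommRing M] [CommRing N]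
    [Algebra B D] [Algebra B M] [Algebra B N] [IsNoetherianRing B] [IsNoetherianRing D] [IsNoetherianRing M]
    (θ : D →ₐ[B] M) (hθ : BijMod a θ) (π : M →ₐ[B] N) (hπ : Function.Surjective π)
    (hjac : a.map (algebraMap B M) ≤ (⊥ : Ideal M).jacobson)
    {k : ℕ} (hk : (a.map (algebraMap B M)) ^ k * RingHom.ker π = ⊥) :
    ∃ (L : Ideal D) (θ' : (D ⧸ L) →ₐ[B] N), BijMod a θ' := by
  classical
  refine ⟨RingHom.ker (π.comp θ), Ideal.Quotient.liftₐ _ (π.comp θ) (fun _ h => h),
    ⟨fun n x => ?_, fun n d hd => ?_⟩⟩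
  · obtain ⟨x, rfl⟩ := hπ x
    obtain ⟨d, hd⟩ := hθ.surj n x
    refine ⟨Ideal.Quotient.mk _ d, ?_⟩
    show π x - π (θ d) ∈ _
    rw [← map_sub, ← π.comp_algebraMap, ← Ideal.map_map, ← Ideal.map_pow]
    exact Ideal.mem_map_of_mem (π : M →+* N) hd
  · obtain ⟨d, rfl⟩ := Ideal.Quotient.mk_surjective d
    rw [← π.comp_algebraMap, ← Ideal.map_map, ← Ideal.map_pow] at hd
    have hd' : π (θ d) ∈ Ideal.map (π : M →+* N) ((a.map (algebraMap B M)) ^ n) := hd
    obtain ⟨m, hm, hmd⟩ := (Ideal.mem_map_iff_of_surjective _ hπ).mp hd'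
    have ht : θ d - m ∈ RingHom.ker π := by
      rw [RingHom.mem_ker, map_sub, sub_eq_zero]; exact hmd.symm
    -- the torsion element `θ d - m` comes from `D`
    obtain ⟨r, g, hg⟩ := Submodule.fg_iff_exists_fin_generating_family.mp
      (IsNoetherian.noetherian (a ^ k))
    have hgt : ∀ i, algebraMap B M (g i) * (θ d - m) = 0 := fun i => by
      have h1 : algebraMap B M (g i) * (θ d - m) ∈ (a.map (algebraMap B M)) ^ k * RingHom.ker π := by
        refine Ideal.mul_mem_mul ?_ ht
        rw [← Ideal.map_pow]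
        exact Ideal.mem_map_of_mem _ (hg ▸ Submodule.subset_span ⟨i, rfl⟩)
      rwa [hk] at h1
    let A := a.map (algebraMap B D)
    let φ : D →ₗ[D] (Fin r → D) := LinearMap.pi fun i => algebraMap B D (g i) • LinearMap.id
    obtain ⟨c, hc⟩ := Ideal.exists_pow_inf_eq_pow_smul A (LinearMap.range φ)
    choose ds hds using fun j => hθ.surj j (θ d - m)
    have hker : ∀ j, ∃ z, (∀ i, algebraMap B D (g i) * z = 0) ∧ ds (j + c) - z ∈ A ^ j := by
      intro j
      have hmem : φ (ds (j + c)) ∈ (A ^ (j + c) • ⊤ : Submodule D (Fin r → D)) := by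
        rw [show φ (ds (j + c)) = ∑ i, (algebraMap B D (g i) * ds (j + c)) •
            (fun q => if i = q then (1 : D) else 0) from (pi_eq_sum_univ _).trans (Finset.sum_congr rfl fun i _ => rfl)]
        refine Submodule.sum_mem _ fun i _ => Submodule.smul_mem_smul ?_ trivial
        refine hθ.inj (j + c) _ ?_
        rw [map_mul, θ.commutes]
        have h1 := Ideal.mul_mem_left _ (algebraMap B M (g i)) (hds (j + c))
        rw [mul_sub, hgt i, zero_sub] at h1
        exact neg_mem_iff.mp h1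
      have h2 : φ (ds (j + c)) ∈ (A ^ (j + c) • ⊤ ⊓ LinearMap.range φ : Submodule D (Fin r → D)) :=
        ⟨hmem, ⟨_, rfl⟩⟩
      rw [hc (j + c) (Nat.le_add_left c j), Nat.add_sub_cancel] at h2
      have h3 : φ (ds (j + c)) ∈ Submodule.map φ (A ^ j • ⊤ : Submodule D D) := by
        rw [Submodule.map_smul'', Submodule.map_top]
        exact Submodule.smul_mono le_rfl inf_le_right h2
      obtain ⟨u, hu, hφu⟩ := h3
      refine ⟨ds (j + c) - u, fun i => ?_, by simpa [Ideal.mul_top] using hu⟩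
      have := congr_fun hφu i
      simp only [φ, LinearMap.pi_apply, LinearMap.smul_apply, LinearMap.id_apply, smul_eq_mul] at this
      rw [mul_sub, this, sub_self]
    choose z hz hzd using hker
    -- Artin–Rees for the torsion submodule
    let K : Submodule D D := LinearMap.ker φ
    obtain ⟨c', hc'⟩ := Ideal.exists_pow_inf_eq_pow_smul A K
    have hK : ∀ j, k + c' ≤ j → (A ^ j • ⊤ ⊓ K : Submodule D D) = ⊥ := fun j hj => by
      rw [hc' j (by omega), eq_bot_iff]
      refine (Submodule.smul_mono (Ideal.pow_le_pow_right (show k ≤ j - c' by omega)) inf_le_right).trans ?_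
      rw [Submodule.smul_le]
      intro x hx y hy
      show x * y ∈ (⊥ : Submodule D D)
      rw [show A ^ k = (a ^ k).map (algebraMap B D) from (Ideal.map_pow _ _ _).symm, ← hg,
        Ideal.map_span] at hx
      induction hx using Submodule.span_induction with
      | mem x hx =>
        obtain ⟨_, ⟨i, rfl⟩, rfl⟩ := hx
        simpa [φ, Algebra.smul_def] using congr_fun hy i
      | zero => simp
      | add x x' _ _ h h' => rw [add_mul]; exact add_mem h h'
      | smul r' x _ h => rw [smul_eq_mul, mul_assoc]; exact Submodule.smul_mem _ r' h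
    have hzK : ∀ j, z j ∈ K := fun j => by
      ext i; simpa [φ, Algebra.smul_def] using hz j i
    have hstab : ∀ j, k + c' ≤ j → z j = z (k + c') := fun j hj => by
      have h1 : z j - z (k + c') ∈ (A ^ (k + c') • ⊤ ⊓ K : Submodule D D) := by
        refine ⟨?_, sub_mem (hzK _) (hzK _)⟩
        rw [SetLike.mem_coe, smul_eq_mul, Ideal.mul_top]
        have h2 : ds (j + c) - ds (k + c' + c) ∈ A ^ (k + c') := by
          refine hθ.inj _ _ ?_
          rw [map_sub]
          have h3 := sub_mem (Ideal.pow_le_pow_right (show k + c' ≤ k + c' + c by omega) (hds (k + c' + c)))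
            (Ideal.pow_le_pow_right (show k + c' ≤ j + c by omega) (hds (j + c)))
          convert h3 using 1
          ring
        have h4 := add_mem h2 (sub_mem (hzd (k + c')) (Ideal.pow_le_pow_right hj (hzd j)))
        convert h4 using 1
        ring
      rw [hK _ le_rfl, Submodule.mem_bot, sub_eq_zero] at h1
      exact h1
    set z0 := z (k + c')
    have hz0 : θ z0 = θ d - m := by
      have h1 : ∀ j, θ d - m - θ z0 ∈ (a.map (algebraMap B M)) ^ j := fun j => by
        have hh : θ d - m - θ z0 = (θ d - m - θ (ds (max j (k + c') + c))) +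
            θ (ds (max j (k + c') + c) - z (max j (k + c'))) := by
          rw [map_sub, hstab _ (le_max_right _ _)]; ring
        rw [hh]
        refine add_mem (Ideal.pow_le_pow_right (by omega) (hds _)) ?_
        rw [← θ.comp_algebraMap, ← Ideal.map_map, ← Ideal.map_pow]
        exact Ideal.mem_map_of_mem (θ : D →+* M)
          (Ideal.pow_le_pow_right (le_max_left _ _) (hzd _))
      have : IsHausdorff (a.map (algebraMap B M)) M := IsHausdorff.of_le_jacobson _ _ hjac
      refine (sub_eq_zero.mp (IsHausdorff.haus this _ fun j => ?_)).symm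
      rw [SModEq.zero, smul_eq_mul, Ideal.mul_top]
      exact h1 j
    have hdz : d - z0 ∈ A ^ n := hθ.inj n _ (by
      rw [map_sub, hz0, sub_sub_cancel]; exact hm)
    have hz0L : z0 ∈ RingHom.ker (π.comp θ) := by
      rw [RingHom.mem_ker, AlgHom.comp_apply, hz0]; exact ht
    rw [← AlgHom.comp_algebraMap (Ideal.Quotient.mkₐ B (RingHom.ker (π.comp θ))), ← Ideal.map_map, ← Ideal.map_pow]
    rw [show Ideal.Quotient.mk (RingHom.ker (π.comp θ)) d =
      Ideal.Quotient.mkₐ B (RingHom.ker (π.comp θ)) (d - z0) by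
        rw [map_sub, Ideal.Quotient.mkₐ_eq_mk, Ideal.Quotient.eq_zero_iff_mem.mpr hz0L, sub_zero]]
    exact Ideal.mem_map_of_mem _ hdz

end Groth.Agent.CAlg5
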