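import Mathlib
import Groth.Agent.CAlg1.Complete

/-! A prime of the completion over an analytically unramified prime with DVR localization. -/

set_option autoImplicit false
universe u

open IsLocalRing

namespace Groth.Agent.CAlg5

theorem dvr_of_principal_maximal_regular {T : Type u} [CommRing T] [IsLocalRing T] [IsNoetherianRing T]
    {π : T} (hmax : maximalIdeal T = Ideal.span {π}) (hπ : π ∈ nonZeroDivisors T) :
    ∃ _ : IsDomain T, IsDiscreteValuationRing T := by
  have hne : π ≠ 0 := nonZeroDivisors.ne_zero hπ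
  have hexp : ∀ x : T, x ≠ 0 → ∃ (n : ℕ) (v : T), IsUnit v ∧ x = π ^ n * v := by
    intro x hx
    have hinf : ⨅ n : ℕ, maximalIdeal T ^ n = ⊥ :=
      Ideal.iInf_pow_eq_bot_of_isLocalRing _ (maximalIdeal.isMaximal T).ne_top
    obtain ⟨n, hn⟩ : ∃ n, x ∉ maximalIdeal T ^ n := by
      by_contra h
      push Not at h
      exact hx (Ideal.mem_bot.1 (hinf ▸ (Ideal.mem_iInf).2 h))
    induction n generalizing x with
    | zero => exact absurd (by simp) hn
    | succ n ih =>
      by_cases hu : IsUnit x
      · exact ⟨0, x, hu, by simp⟩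
      · obtain ⟨y, rfl⟩ := Ideal.mem_span_singleton.1 (hmax ▸ (show x ∈ maximalIdeal T from hu))
        obtain ⟨m, v, hv, rfl⟩ := ih y (right_ne_zero_of_mul hx) (fun hy => hn (by
          rw [pow_succ']
          exact Ideal.mul_mem_mul (hmax ▸ Ideal.mem_span_singleton_self _) hy))
        exact ⟨m + 1, v, hv, by ring⟩
  have : NoZeroDivisors T := ⟨fun {a b} hab => by
    by_contra h
    push Not at h
    obtain ⟨n, v, hv, rfl⟩ := hexp a h.1
    obtain ⟨m, w, hw, rfl⟩ := hexp b h.2
    rw [mul_mul_mul_comm, ← pow_add, (hv.mul hw).mul_left_eq_zero] at hab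
    exact nonZeroDivisors.ne_zero (pow_mem hπ _) hab⟩
  have hdom : IsDomain T := NoZeroDivisors.to_isDomain T
  have hnf : ¬IsField T := fun hf => hne (by
    have h := IsLocalRing.isField_iff_maximalIdeal_eq.1 hf
    rw [hmax, Ideal.span_singleton_eq_bot] at h
    exact h)
  have hprin : (maximalIdeal T).IsPrincipal := ⟨π, hmax⟩
  exact ⟨hdom, ((IsDiscreteValuationRing.TFAE T hnf).out 4 0).1 hprin⟩

theorem dvr_localization_completion (R : Type u) [CommRing R] [IsLocalRing R] [IsNoetherianRing R]
    (p : Ideal R) [p.IsPrime]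
    [IsDomain (Localization.AtPrime p)] [IsDiscreteValuationRing (Localization.AtPrime p)]
    (hp : IsReduced (AdicCompletion (maximalIdeal R) R ⧸
      p.map (algebraMap R (AdicCompletion (maximalIdeal R) R))))
    (q : Ideal (AdicCompletion (maximalIdeal R) R)) [q.IsPrime]
    (hq : q ∈ associatedPrimes (AdicCompletion (maximalIdeal R) R)
      (AdicCompletion (maximalIdeal R) R ⧸ p.map (algebraMap R (AdicCompletion (maximalIdeal R) R)))) :
    ∃ _ : IsDomain (Localization.AtPrime q), IsDiscreteValuationRing (Localization.AtPrime q) := by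
  let S := AdicCompletion (maximalIdeal R) R
  let P := p.map (algebraMap R S)
  have : IsNoetherianRing S :=
    CAlg1.isNoetherianRing_adicCompletion _ (IsNoetherian.noetherian (maximalIdeal R))
  have hrad : P.IsRadical := (Ideal.isRadical_iff_quotient_reduced P).2 hp
  obtain ⟨-, x, hx⟩ := hq
  obtain ⟨y, rfl⟩ := Ideal.Quotient.mk_surjective x
  have hcol : ∀ a : S, a ∈ (⊥ : Submodule S (S ⧸ P)).colon {Ideal.Quotient.mk P y} ↔ a * y ∈ P := by
    intro a
    rw [Submodule.mem_colon_singleton, Submodule.mem_bot, ← Ideal.Quotient.eq_zero_iff_mem, map_mul]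
    rfl
  have hmemq : ∀ a : S, a ∈ q ↔ a * y ∈ P := by
    intro a
    rw [hx]
    constructor
    · rintro ⟨k, hk⟩
      refine hrad ⟨k + 1, ?_⟩
      have h1 : a ^ k * y * (y ^ k * a) ∈ P := Ideal.mul_mem_right _ _ ((hcol _).1 hk)
      convert h1 using 1
      ring
    · exact fun ha => Ideal.le_radical ((hcol a).2 ha)
  have hPq : P ≤ q := fun a ha => (hmemq a).2 (Ideal.mul_mem_right _ _ ha)
  have hmin : ∀ Q : Ideal S, Q.IsPrime → P ≤ Q → Q ≤ q → Q = q := by
    intro Q hQ hPQ hQq
    refine le_antisymm hQq fun a ha => ?_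
    rcases hQ.mem_or_mem (hPQ ((hmemq a).1 ha)) with h | h
    · exact h
    · exfalso
      have h1 : y ∈ q := hQq h
      have h2 : y * y ∈ P := (hmemq y).1 h1
      have h3 : y ∈ P := hrad ⟨2, by rwa [pow_two]⟩
      exact (inferInstance : q.IsPrime).ne_top
        ((Ideal.eq_top_iff_one _).2 ((hmemq 1).2 (by rwa [one_mul])))
  have hover : q.comap (algebraMap R S) = p := by
    have hle : p ≤ q.comap (algebraMap R S) := Ideal.map_le_iff_le_comap.1 hPq
    have : (q.comap (algebraMap R S)).IsPrime := Ideal.comap_isPrime _ _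
    have : q.LiesOver (q.comap (algebraMap R S)) := ⟨rfl⟩
    obtain ⟨Q, hQq, hQ, hQp⟩ :=
      Ideal.exists_ideal_le_liesOver_of_le (p := p) (q := q.comap (algebraMap R S)) q hle
    have hPQ : P ≤ Q := Ideal.map_le_iff_le_comap.2 hQp.over.le
    rw [← hmin Q hQ hPQ hQq]
    exact hQp.over.symm
  have : q.LiesOver p := ⟨hover.symm⟩
  let T := Localization.AtPrime q
  let _ : Algebra (Localization.AtPrime p) T := (Localization.localRingHom p q _ hover.symm).toAlgebra
  have : IsScalarTower R (Localization.AtPrime p) T := IsScalarTower.of_algebraMap_eq fun r => by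
    rw [RingHom.algebraMap_toAlgebra, Localization.localRingHom_to_map, ← IsScalarTower.algebraMap_apply]
  have : Module.Flat S T := IsLocalization.flat T q.primeCompl
  have : Module.Flat R T := Module.Flat.trans R S T
  have : Module.Flat (Localization.AtPrime p) T :=
    (Module.flat_iff_of_isLocalization (Localization.AtPrime p) p.primeCompl T).2 inferInstance
  obtain ⟨π, hπ⟩ := IsDiscreteValuationRing.exists_irreducible (Localization.AtPrime p)
  have hmaxp := hπ.maximalIdeal_eq
  have hPT : P.map (algebraMap S T) = Ideal.span {algebraMap (Localization.AtPrime p) T π} := by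
    rw [Ideal.map_map, ← IsScalarTower.algebraMap_eq R S T,
      IsScalarTower.algebraMap_eq R (Localization.AtPrime p) T, ← Ideal.map_map,
      Localization.AtPrime.map_eq_maximalIdeal, hmaxp, Ideal.map_span, Set.image_singleton]
  have hmax : maximalIdeal T = P.map (algebraMap S T) := by
    have hr : (P.map (algebraMap S T)).IsRadical := by
      have := IsLocalization.map_radical q.primeCompl T P
      rw [hrad.radical] at this
      rw [this]
      exact Ideal.radical_isRadical _
    refine le_antisymm ?_ (IsLocalRing.le_maximalIdeal fun htop => ?_)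
    · rw [← hr.radical, Ideal.radical_eq_sInf]
      refine le_sInf fun Q ⟨hPQ, hQ⟩ => ?_
      have h1 : Q.comap (algebraMap S T) = q := by
        refine hmin _ (Ideal.comap_isPrime _ _) (Ideal.map_le_iff_le_comap.1 hPQ) ?_
        exact (Ideal.comap_mono (IsLocalRing.le_maximalIdeal hQ.ne_top)).trans
          (IsLocalization.AtPrime.comap_maximalIdeal T q).le
      exact (Localization.AtPrime.map_eq_maximalIdeal (I := q)).symm.le.trans
        ((Ideal.map_mono h1.ge).trans Ideal.map_comap_le)
    · have h1 := Ideal.map_mono (f := algebraMap S T) hPq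
      rw [htop, Localization.AtPrime.map_eq_maximalIdeal, top_le_iff] at h1
      exact (maximalIdeal.isMaximal T).ne_top h1
  rw [hPT] at hmax
  refine dvr_of_principal_maximal_regular hmax ?_
  rw [mem_nonZeroDivisors_iff_right]
  intro t ht
  have h1 : π • t = π • (0 : T) := by rw [smul_zero, Algebra.smul_def, mul_comm, ht]
  exact (Module.Flat.isSMulRegular_of_nonZeroDivisors (mem_nonZeroDivisors_of_ne_zero hπ.ne_zero)) h1

end Groth.Agent.CAlg5
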