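import Mathlib
import Groth.Agent.Sep12.Basic

/-! Injectivity of the first map of the Jacobi–Zariski sequence for towers of fields. -/

set_option autoImplicit false
universe u

open TensorProduct Algebra KaehlerDifferential

namespace Groth.Agent.CAlg5

theorem perfectField_primeField (K : Type u) [Field K] : PerfectField (⊥ : Subfield K) := by
  obtain _ | ⟨p, hp, hpK⟩ := CharP.exists' K
  · infer_instance
  · have : Finite (⊥ : Subfield K) := by
      rw [← ZMod.fieldRange_castHom_eq_bot (K := K) p]
      exact Finite.of_surjective (ZMod.castHom (dvd_refl p) K).rangeRestrictField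
        (RingHom.rangeRestrictField_bijective _).2
    infer_instance

variable {F K L M : Type u} [CommRing F] [CommRing K] [CommRing L] [CommRing M]
  [Algebra F K] [Algebra F L] [Algebra F M] [Algebra K L] [Algebra K M] [Algebra L M]
  [IsScalarTower F K L] [IsScalarTower F K M] [IsScalarTower K L M]

/-- The base change comparison of the targets of the connecting maps. -/
noncomputable def kaehlerPush (F K L M : Type u) [CommRing F] [CommRing K] [CommRing L] [CommRing M]
    [Algebra F K] [Algebra K L] [Algebra K M] [Algebra L M] [IsScalarTower K L M] :
    L ⊗[K] Ω[K⁄F] →ₗ[L] M ⊗[K] Ω[K⁄F] :=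
  TensorProduct.AlgebraTensorModule.map (Algebra.linearMap L M) LinearMap.id

theorem δAux_natural (y : MvPolynomial L K) :
    Generators.H1Cotangent.δAux F (Generators.self K M)
      ((Generators.defaultHom (Generators.self K L) (Generators.self K M)).toAlgHom y) =
      kaehlerPush F K L M (Generators.H1Cotangent.δAux F (Generators.self K L) y) := by
  induction y using MvPolynomial.induction_on with
  | C r =>
    rw [Generators.Hom.toAlgHom_C, Generators.H1Cotangent.δAux_C, Generators.H1Cotangent.δAux_C]
    simp [kaehlerPush]
  | add a b ha hb => simp only [map_add, ha, hb]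
  | mul_X a i ha =>
    have hX : (Generators.defaultHom (Generators.self K L) (Generators.self K M)).val i =
        MvPolynomial.X (algebraMap L M i) := rfl
    rw [map_mul, Generators.Hom.toAlgHom_X, hX, Generators.H1Cotangent.δAux_mul,
      Generators.H1Cotangent.δAux_mul, Generators.H1Cotangent.δAux_X, Generators.H1Cotangent.δAux_X,
      smul_zero, smul_zero, zero_add, zero_add, ha]
    simp only [← @IsScalarTower.algebraMap_smul (Generators.self K L).Ring L,
      ← @IsScalarTower.algebraMap_smul (Generators.self K M).Ring M]
    simp [map_smul, IsScalarTower.algebraMap_smul]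

theorem δ_natural (x : Algebra.H1Cotangent K L) :
    H1Cotangent.δ F K M (Algebra.H1Cotangent.map K K L M x) =
      kaehlerPush F K L M (H1Cotangent.δ F K L x) := by
  obtain ⟨x, hx⟩ := x
  obtain ⟨⟨y, hy⟩, rfl⟩ := Extension.Cotangent.mk_surjective x
  refine (Generators.H1Cotangent.δ_eq_δAux (Generators.self K M) (Generators.self F K)
    ⟨_, ?_⟩ ?_).trans ((δAux_natural y).trans (congrArg _
      (Generators.H1Cotangent.δ_eq_δAux (Generators.self K L) (Generators.self F K) ⟨y, hy⟩ hx).symm))

theorem h1Cotangent_liftBaseChange_injective {K L M : Type u} [Field K] [Field L] [Field M]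
    [Algebra K L] [Algebra L M] [Algebra K M] [IsScalarTower K L M] :
    Function.Injective ((Algebra.H1Cotangent.map K K L M).liftBaseChange M) := by
  let F := (⊥ : Subfield K)
  have : IsScalarTower F K L := inferInstance
  have : IsScalarTower F K M := inferInstance
  have := perfectField_primeField K
  have : Algebra.FormallySmooth F L := Sep12.formallySmooth_of_perfectField F L
  have hδ : Function.Injective (H1Cotangent.δ F K L) := by
    rw [injective_iff_map_eq_zero]
    intro x hx
    obtain ⟨w, rfl⟩ := (H1Cotangent.exact_map_δ F K L x).1 hx
    rw [Subsingleton.elim w 0, map_zero]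
  have hb : Function.Injective ((H1Cotangent.δ F K L).baseChange M) := by
    rw [LinearMap.baseChange_eq_ltensor]
    exact Module.Flat.lTensor_preserves_injective_linearMap _ hδ
  let c := AlgebraTensorModule.cancelBaseChange K L M M Ω[K⁄F]
  have key : ∀ t : M ⊗[L] Algebra.H1Cotangent K L,
      H1Cotangent.δ F K M ((Algebra.H1Cotangent.map K K L M).liftBaseChange M t) =
        c ((H1Cotangent.δ F K L).baseChange M t) := by
    intro t
    induction t with
    | zero => simp
    | add a b ha hb => simp only [map_add, ha, hb]
    | tmul m x =>
      rw [LinearMap.liftBaseChange_tmul, map_smul, δ_natural, LinearMap.baseChange_tmul]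
      generalize H1Cotangent.δ F K L x = z
      induction z with
      | zero => simp
      | add a b ha hb => simp only [map_add, smul_add, TensorProduct.tmul_add, ha, hb]
      | tmul l w =>
        simp [kaehlerPush, c, Algebra.smul_def, TensorProduct.smul_tmul', mul_comm]
  intro a b hab
  exact hb (c.injective (by rw [← key, ← key, hab]))

end Groth.Agent.CAlg5
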