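import Mathlib
import Groth.Agent.CAlg5.H1Tower
import Groth.Agent.Sep12.Index

/-! Cartier's equality for a square of fields. -/

set_option autoImplicit false
universe u

open TensorProduct Algebra KaehlerDifferential Module

namespace Groth.Agent.CAlg5

variable {k A E : Type u} [Field k] [Field A] [Field E] [Algebra k A] [Algebra k E] [Algebra A E]
  [IsScalarTower k A E]

theorem map_h1_comp {k k' K K' : Type u} [CommRing k] [CommRing k'] [CommRing K] [CommRing K']
    [Algebra k k'] [Algebra k K] [Algebra k K'] [Algebra k' K'] [Algebra K K']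
    [IsScalarTower k k' K'] [IsScalarTower k K K'] :
    (Algebra.H1Cotangent.map k k' K K').liftBaseChange K' =
      Algebra.H1Cotangent.map k k' K' K' ∘ₗ (Algebra.H1Cotangent.map k k K K').liftBaseChange K' := by
  rw [LinearMap.liftBaseChange_comp]
  congr 1
  show Extension.H1Cotangent.map _ = (Extension.H1Cotangent.map _).restrictScalars K ∘ₗ Extension.H1Cotangent.map _
  rw [← Extension.H1Cotangent.map_comp]
  exact Extension.H1Cotangent.map_eq _ _

theorem map_kaehler_comp {k k' K K' : Type u} [CommRing k] [CommRing k'] [CommRing K] [CommRing K']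
    [Algebra k k'] [Algebra k K] [Algebra k K'] [Algebra k' K'] [Algebra K K']
    [IsScalarTower k k' K'] [IsScalarTower k K K'] :
    (KaehlerDifferential.map k k' K K').liftBaseChange K' =
      KaehlerDifferential.map k k' K' K' ∘ₗ mapBaseChange k K K' := by
  apply TensorProduct.AlgebraTensorModule.curry_injective
  apply LinearMap.ext_ring
  apply Derivation.liftKaehlerDifferential_unique
  ext a
  simp

variable (k A E) in
/-- The index computation for one side of the square: the first map. -/
theorem index_left [Algebra.EssFiniteType A E] :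
    Module.Finite E (LinearMap.ker (mapBaseChange k A E)) ∧
    Module.Finite E (Ω[E⁄k] ⧸ LinearMap.range (mapBaseChange k A E)) ∧
    Module.Finite E (LinearMap.ker ((Algebra.H1Cotangent.map k k A E).liftBaseChange E)) ∧
    Module.Finite E (Algebra.H1Cotangent k E ⧸
      LinearMap.range ((Algebra.H1Cotangent.map k k A E).liftBaseChange E)) ∧
    (mapBaseChange k A E).index - ((Algebra.H1Cotangent.map k k A E).liftBaseChange E).index =
      - (Cardinal.toNat (Algebra.trdeg A E) : ℤ) := by
  obtain ⟨hH, hW, hC⟩ := Sep12.cartier (k := A) (K := E)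
  let f0 := mapBaseChange k A E
  let f1 := (Algebra.H1Cotangent.map k k A E).liftBaseChange E
  let h := Algebra.H1Cotangent.map k A E E
  let d := Algebra.H1Cotangent.δ k A E
  have hinj : Function.Injective f1 := h1Cotangent_liftBaseChange_injective
  have e1 : Function.Exact f1 h := Algebra.H1Cotangent.exact_liftBaseChange_map_of_flat k A E
  have e2 : Function.Exact h d := Algebra.H1Cotangent.exact_map_δ k A E
  have e3 : Function.Exact d f0 := Algebra.H1Cotangent.exact_δ_mapBaseChange k A E
  let ec : (Ω[E⁄k] ⧸ LinearMap.range f0) ≃ₗ[E] Ω[E⁄A] :=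
    (Submodule.quotEquivOfEq _ _ (exact_mapBaseChange_map k A E).linearMap_ker_eq.symm).trans
      (LinearMap.quotKerEquivOfSurjective _ (map_surjective k A E))
  let ec1 : (Algebra.H1Cotangent k E ⧸ LinearMap.range f1) ≃ₗ[E] LinearMap.ker d :=
    ((Submodule.quotEquivOfEq _ _ e1.linearMap_ker_eq.symm).trans h.quotKerEquivRange).trans
      (LinearEquiv.ofEq _ _ e2.linearMap_ker_eq.symm)
  have hk1 : LinearMap.ker f1 = ⊥ := LinearMap.ker_eq_bot.2 hinj
  have hk0 : LinearMap.ker f0 = LinearMap.range d := e3.linearMap_ker_eq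
  have fk0 : Module.Finite E (LinearMap.ker f0) := by rw [hk0]; infer_instance
  have fc1 : Module.Finite E (Algebra.H1Cotangent k E ⧸ LinearMap.range f1) :=
    Module.Finite.equiv ec1.symm
  refine ⟨fk0, Module.Finite.equiv ec.symm, hk1 ▸ inferInstance, fc1, ?_⟩
  show f0.index - f1.index = _
  rw [LinearMap.index_eq_finrank_sub, LinearMap.index_eq_finrank_sub, hk0, hk1, finrank_bot,
    ec.finrank_eq, ec1.finrank_eq]
  have := d.finrank_range_add_finrank_ker
  omega

variable (k A E) in
/-- The index computation for one side of the square: the second map. -/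
theorem index_right [Algebra.EssFiniteType k A] :
    Module.Finite E (LinearMap.ker (KaehlerDifferential.map k A E E)) ∧
    Module.Finite E (Ω[E⁄A] ⧸ LinearMap.range (KaehlerDifferential.map k A E E)) ∧
    Module.Finite E (LinearMap.ker (Algebra.H1Cotangent.map k A E E)) ∧
    Module.Finite E (Algebra.H1Cotangent A E ⧸
      LinearMap.range (Algebra.H1Cotangent.map k A E E)) ∧
    (KaehlerDifferential.map k A E E).index - (Algebra.H1Cotangent.map k A E E).index =
      (Cardinal.toNat (Algebra.trdeg k A) : ℤ) := by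
  obtain ⟨hH, hW, hC⟩ := Sep12.cartier (k := k) (K := A)
  let f1 := (Algebra.H1Cotangent.map k k A E).liftBaseChange E
  let g1 := Algebra.H1Cotangent.map k A E E
  let g0 := KaehlerDifferential.map k A E E
  let d := Algebra.H1Cotangent.δ k A E
  let m := mapBaseChange k A E
  have hinj : Function.Injective f1 := h1Cotangent_liftBaseChange_injective
  have e1 : Function.Exact f1 g1 := Algebra.H1Cotangent.exact_liftBaseChange_map_of_flat k A E
  have e2 : Function.Exact g1 d := Algebra.H1Cotangent.exact_map_δ k A E
  have e3 : Function.Exact d m := Algebra.H1Cotangent.exact_δ_mapBaseChange k A E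
  have hk1 : LinearMap.ker g1 = LinearMap.range f1 := e1.linearMap_ker_eq
  have hk0 : LinearMap.ker g0 = LinearMap.range m := (exact_mapBaseChange_map k A E).linearMap_ker_eq
  let eh : (E ⊗[A] Algebra.H1Cotangent k A) ≃ₗ[E] LinearMap.ker g1 :=
    (LinearEquiv.ofInjective f1 hinj).trans (LinearEquiv.ofEq _ _ hk1.symm)
  have hsurj : LinearMap.range g0 = ⊤ := LinearMap.range_eq_top.2 (map_surjective k A E)
  have : Subsingleton (Ω[E⁄A] ⧸ LinearMap.range g0) := Submodule.Quotient.subsingleton_iff.2 hsurj
  let ec1 : (Algebra.H1Cotangent A E ⧸ LinearMap.range g1) ≃ₗ[E] LinearMap.ker m :=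
    ((Submodule.quotEquivOfEq _ _ e2.linearMap_ker_eq.symm).trans d.quotKerEquivRange).trans
      (LinearEquiv.ofEq _ _ e3.linearMap_ker_eq.symm)
  have fk0 : Module.Finite E (LinearMap.ker g0) := by rw [hk0]; infer_instance
  refine ⟨fk0, inferInstance, Module.Finite.equiv eh, Module.Finite.equiv ec1.symm, ?_⟩
  show g0.index - g1.index = _
  rw [LinearMap.index_eq_finrank_sub, LinearMap.index_eq_finrank_sub, hk0, ← eh.finrank_eq,
    ec1.finrank_eq, Module.finrank_zero_of_subsingleton (M := Ω[E⁄A] ⧸ LinearMap.range g0), Module.finrank_baseChange]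
  have h1 := m.finrank_range_add_finrank_ker
  rw [Module.finrank_baseChange] at h1
  omega

theorem finrank_ker_coker_square {k k' K K' : Type u} [Field k] [Field k'] [Field K] [Field K']
    [Algebra k k'] [Algebra k K] [Algebra k K'] [Algebra k' K'] [Algebra K K']
    [IsScalarTower k k' K'] [IsScalarTower k K K']
    [Algebra.EssFiniteType k k'] [Algebra.EssFiniteType K K'] :
    Module.Finite K' (LinearMap.ker ((KaehlerDifferential.map k k' K K').liftBaseChange K')) ∧
      Module.Finite K' (Ω[K'⁄k'] ⧸ LinearMap.range ((KaehlerDifferential.map k k' K K').liftBaseChange K')) ∧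
      Module.Finite K' (LinearMap.ker ((Algebra.H1Cotangent.map k k' K K').liftBaseChange K')) ∧
      Module.Finite K' (Algebra.H1Cotangent k' K' ⧸ LinearMap.range ((Algebra.H1Cotangent.map k k' K K').liftBaseChange K')) ∧
      ((Module.finrank K' (LinearMap.ker ((KaehlerDifferential.map k k' K K').liftBaseChange K')) : ℤ)
          - Module.finrank K' (Ω[K'⁄k'] ⧸ LinearMap.range ((KaehlerDifferential.map k k' K K').liftBaseChange K'))
          - Module.finrank K' (LinearMap.ker ((Algebra.H1Cotangent.map k k' K K').liftBaseChange K'))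
          + Module.finrank K' (Algebra.H1Cotangent k' K' ⧸ LinearMap.range ((Algebra.H1Cotangent.map k k' K K').liftBaseChange K'))
        = (Cardinal.toNat (Algebra.trdeg k k') : ℤ) - Cardinal.toNat (Algebra.trdeg K K')) := by
  obtain ⟨a0, b0, a1, b1, hl⟩ := index_left k K K'
  obtain ⟨c0, d0, c1, d1, hr⟩ := index_right k k' K'
  let g1 := Algebra.H1Cotangent.map k k' K' K'
  let f1 := (Algebra.H1Cotangent.map k k K K').liftBaseChange K'
  let g0 := KaehlerDifferential.map k k' K' K'
  let f0 := mapBaseChange k K K'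
  rw [map_h1_comp, map_kaehler_comp]
  have i0 := LinearMap.index_comp (f := f0) g0
  have i1 := LinearMap.index_comp (f := f1) g1
  rw [LinearMap.index_eq_finrank_sub] at i0 i1
  have fin : ∀ {U V W : Type u} [AddCommGroup U] [AddCommGroup V] [AddCommGroup W]
      [Module K' U] [Module K' V] [Module K' W] (f : U →ₗ[K'] V) (g : V →ₗ[K'] W),
      Module.Finite K' (LinearMap.ker f) → Module.Finite K' (V ⧸ LinearMap.range f) →
      Module.Finite K' (LinearMap.ker g) → Module.Finite K' (W ⧸ LinearMap.range g) →
      Module.Finite K' (LinearMap.ker (g ∘ₗ f)) ∧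
        Module.Finite K' (W ⧸ LinearMap.range (g ∘ₗ f)) := by
    intro U V W _ _ _ _ _ _ f g _ _ _ _
    have := (Sep12.HasIndex.mk ‹_› ‹_› rfl : Sep12.HasIndex f _).comp
      (Sep12.HasIndex.mk ‹_› ‹_› rfl : Sep12.HasIndex g _)
    exact ⟨this.finite_ker, this.finite_coker⟩
  obtain ⟨F1, F2⟩ := fin f0 g0 a0 b0 c0 d0
  obtain ⟨F3, F4⟩ := fin f1 g1 a1 b1 c1 d1
  refine ⟨F1, F2, F3, F4, ?_⟩
  simp only [f0, f1, g0, g1] at i0 i1
  omega

end Groth.Agent.CAlg5
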