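import Mathlib
import Groth.Agent.CAlg5.AdicFS
import Groth.Agent.Cohen12.FlatFS
import Groth.Prelude.Def_Found

/-! Cohen rings modulo powers of `p`, and power series over Cohen rings. -/

set_option autoImplicit false
universe u

open IsLocalRing TensorProduct

namespace Groth.Agent.CAlg5

variable {Λ : Type u} [CommRing Λ] [IsDomain Λ] [IsDiscreteValuationRing Λ]

theorem natCast_ne_zero_of_maximalIdeal (p : ℕ) (hm : maximalIdeal Λ = Ideal.span {(p : Λ)}) :
    (p : Λ) ≠ 0 := fun h0 => IsDiscreteValuationRing.not_a_field Λ (by rw [hm, h0]; simp)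

theorem charZero_of_maximalIdeal (p : ℕ) (hp : p.Prime)
    (hm : maximalIdeal Λ = Ideal.span {(p : Λ)}) : CharZero Λ := by
  refine charZero_of_inj_zero fun m => ?_
  induction m using Nat.strong_induction_on with
  | _ m IH =>
    intro h
    by_contra hm0
    by_cases hd : p ∣ m
    · obtain ⟨c, rfl⟩ := hd
      push_cast at h
      have hc : (c : Λ) = 0 := (mul_eq_zero.1 h).resolve_left (natCast_ne_zero_of_maximalIdeal p hm)
      have hc0 : c ≠ 0 := fun h0 => hm0 (by rw [h0, mul_zero])
      exact hc0 (IH c (lt_mul_left (Nat.pos_of_ne_zero hc0) hp.one_lt) hc)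
    · have hu : IsUnit (m : Λ) := by
        by_contra hu
        have h1 : (m : Λ) ∈ maximalIdeal Λ := hu
        obtain ⟨a, b, hab⟩ := Nat.isCoprime_iff_coprime.2 ((hp.coprime_iff_not_dvd).2 hd)
        have h2 : (p : Λ) ∈ maximalIdeal Λ := hm ▸ Ideal.mem_span_singleton_self _
        have h3 : (1 : Λ) ∈ maximalIdeal Λ := by
          have h4 := congrArg (Int.cast : ℤ → Λ) hab
          push_cast at h4
          rw [← h4]
          exact add_mem (Ideal.mul_mem_left _ _ h2) (Ideal.mul_mem_left _ _ h1)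
        exact (maximalIdeal.isMaximal Λ).ne_top ((Ideal.eq_top_iff_one _).2 h3)
      exact hu.ne_zero h

theorem formallySmooth_zmod_quotient (p : ℕ) (hp : p.Prime)
    (hm : maximalIdeal Λ = Ideal.span {(p : Λ)}) (n : ℕ) (hn : 1 ≤ n)
    [Algebra (ZMod (p ^ n)) (Λ ⧸ Ideal.span {((p : Λ) ^ n)})] :
    Algebra.FormallySmooth (ZMod (p ^ n)) (Λ ⧸ Ideal.span {((p : Λ) ^ n)}) := by
  classical
  have : Fact p.Prime := ⟨hp⟩
  have hn0 : n ≠ 0 := by omega
  let B := Λ ⧸ Ideal.span {((p : Λ) ^ n)}
  let Z := ZMod (p ^ n)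
  -- flatness
  have hflatB : Module.Flat Z B := by
    have : CharZero Λ := charZero_of_maximalIdeal p hp hm
    have htors : Module.IsTorsionFree ℤ Λ := inferInstance
    have : Module.Flat ℤ Λ := inferInstance
    let e1 : (ℤ ⧸ Ideal.span {((p ^ n : ℕ) : ℤ)}) ⊗[ℤ] Λ ≃+* Z ⊗[ℤ] Λ :=
      (Algebra.TensorProduct.congr ((Int.quotientSpanNatEquivZMod (p ^ n)).toIntAlgEquiv) AlgEquiv.refl).toRingEquiv
    let φ : Z ⊗[ℤ] Λ →ₐ[Z] B :=
      Algebra.TensorProduct.lift (Algebra.ofId Z B) (Ideal.Quotient.mkₐ ℤ _) fun _ _ => Commute.all _ _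
    have hφ : Function.Bijective φ := by
      refine ⟨(injective_iff_map_eq_zero φ).2 fun x hx => ?_, fun b => ?_⟩
      · obtain ⟨l, rfl⟩ : ∃ l : Λ, (1 : Z) ⊗ₜ[ℤ] l = x := by
          clear hx
          induction x using TensorProduct.induction_on with
          | zero => exact ⟨0, TensorProduct.tmul_zero _ _⟩
          | tmul z l =>
            obtain ⟨k, rfl⟩ := ZMod.intCast_surjective z
            exact ⟨k • l, by rw [TensorProduct.tmul_smul, TensorProduct.smul_tmul', zsmul_one]⟩
          | add a b ha hb =>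
            obtain ⟨a, rfl⟩ := ha
            obtain ⟨b, rfl⟩ := hb
            exact ⟨a + b, TensorProduct.tmul_add _ _ _⟩
        rw [Algebra.TensorProduct.lift_tmul, map_one, one_mul] at hx
        obtain ⟨c, rfl⟩ := Ideal.mem_span_singleton.1 (Ideal.Quotient.eq_zero_iff_mem.1 hx)
        rw [show (p : Λ) ^ n * c = ((p ^ n : ℕ) : ℤ) • c by rw [zsmul_eq_mul]; push_cast; rfl,
          TensorProduct.tmul_smul, TensorProduct.smul_tmul', zsmul_one, Int.cast_natCast,
          ZMod.natCast_self, TensorProduct.zero_tmul]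
      · obtain ⟨l, rfl⟩ := Ideal.Quotient.mk_surjective b
        exact ⟨1 ⊗ₜ l, by simp [φ]; rfl⟩
    exact Module.Flat.of_linearEquiv (AlgEquiv.ofBijective φ hφ).toLinearEquiv.symm
  -- move to the universe of `Λ`
  let A := ULift.{u} Z
  let u0 : A ≃+* Z := ULift.ringEquiv
  let _ : Algebra A B := ULift.algebra' Z B
  have : IsScalarTower Z A B := ⟨fun z a b => smul_assoc z a.down b⟩
  let π : Z →+* ZMod p := ZMod.castHom (dvd_pow_self p hn0) (ZMod p)
  have hZnt : Nontrivial Z := π.domain_nontrivial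
  have hkerπ : RingHom.ker π = Ideal.span {((p : ℕ) : Z)} := by
    refine le_antisymm (fun z hz => ?_) ?_
    · obtain ⟨k, rfl⟩ := ZMod.intCast_surjective z
      rw [RingHom.mem_ker, map_intCast, ZMod.intCast_zmod_eq_zero_iff_dvd] at hz
      obtain ⟨c, rfl⟩ := hz
      exact Ideal.mem_span_singleton.2 ⟨(c : Z), by push_cast; rfl⟩
    · rw [Ideal.span_le, Set.singleton_subset_iff, SetLike.mem_coe, RingHom.mem_ker, map_natCast,
        ZMod.natCast_self]
  have hpnil : IsNilpotent ((p : ℕ) : Z) := ⟨n, by rw [← Nat.cast_pow]; exact ZMod.natCast_self _⟩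
  have : IsLocalRing Z := by
    refine IsLocalRing.of_isUnit_or_isUnit_one_sub_self fun z => ?_
    have hu : ∀ w : Z, π w ≠ 0 → IsUnit w := fun w hw => by
      have hnil : IsNilpotent (RingHom.ker π) := by
        rw [hkerπ]
        obtain ⟨m, hm⟩ := hpnil
        exact ⟨m, by rw [Ideal.span_singleton_pow, hm]; simp⟩
      obtain ⟨v, hv⟩ := ZMod.ringHom_surjective π (π w)⁻¹
      have h1 : IsUnit (w * v) := by
        refine (IsNilpotent.isUnit_quotient_mk_iff hnil).1 ?_
        rw [show Ideal.Quotient.mk (RingHom.ker π) (w * v) = 1 from ?_]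
        · exact isUnit_one
        rw [← map_one (Ideal.Quotient.mk (RingHom.ker π)), Ideal.Quotient.eq, RingHom.mem_ker,
          map_sub, map_mul, hv, map_one, mul_inv_cancel₀ hw, sub_self]
      exact isUnit_of_mul_isUnit_left h1
    by_cases hz : π z = 0
    · exact Or.inr (hu _ (by rw [map_sub, map_one, hz, sub_zero]; exact one_ne_zero))
    · exact Or.inl (hu z hz)
  have : IsLocalRing A := u0.symm.isLocalRing
  have hmZ : maximalIdeal Z = Ideal.span {((p : ℕ) : Z)} := by
    rw [← hkerπ]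
    have : (RingHom.ker π).IsMaximal := RingHom.ker_isMaximal_of_surjective π (ZMod.ringHom_surjective π)
    exact (IsLocalRing.eq_maximalIdeal this).symm
  have hmA : maximalIdeal A = Ideal.span {((p : ℕ) : A)} := by
    rw [← IsLocalRing.map_maximalIdeal_of_surjective u0.symm.toRingHom u0.symm.surjective, hmZ,
      Ideal.map_span, Set.image_singleton, map_natCast]
  have hnt : Nontrivial B := Ideal.Quotient.nontrivial_iff.2 fun h => by
    rw [Ideal.span_singleton_eq_top, isUnit_pow_iff hn0] at h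
    exact (show (p : Λ) ∈ maximalIdeal Λ from hm ▸ Ideal.mem_span_singleton_self _) h
  have : IsLocalRing B := IsLocalRing.of_surjective' _ Ideal.Quotient.mk_surjective
  have hmB : maximalIdeal B = Ideal.span {((p : ℕ) : B)} := by
    rw [← IsLocalRing.map_maximalIdeal_of_surjective _ (Ideal.Quotient.mk_surjective
      (I := Ideal.span {((p : Λ) ^ n)})), hm, Ideal.map_span, Set.image_singleton, map_natCast]
  have hmap : (maximalIdeal A).map (algebraMap A B) = maximalIdeal B := by
    rw [hmA, hmB, Ideal.map_span, Set.image_singleton, map_natCast]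
  have : IsLocalHom (algebraMap A B) :=
    ((IsLocalRing.local_hom_TFAE (algebraMap A B)).out 0 2 rfl rfl).2 hmap.le
  have : Module.Flat A B := by
    have := hflatB
    have : IsLocalization (⊥ : Submonoid Z) Z :=
      IsLocalization.self fun x hx => (Submonoid.mem_bot.1 hx) ▸ isUnit_one
    have : IsLocalization (⊥ : Submonoid Z) A := IsLocalization.isLocalization_of_algEquiv (S := Z) _
      (AlgEquiv.ofBijective (Algebra.ofId Z A) u0.symm.bijective)
    exact (Module.flat_iff_of_isLocalization (R := Z) A ⊥ B).2 hflatB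
  have hfs : EGA41.IsFormallySmoothAdic A (maximalIdeal A) B (maximalIdeal B) := by
    refine Cohen12.isFormallySmoothAdic_of_flat_fibre ?_
    let _ : Field (A ⧸ maximalIdeal A) := Ideal.Quotient.field _
    have : Finite A := Finite.of_equiv Z u0.symm.toEquiv
    have : Finite (A ⧸ maximalIdeal A) := Finite.of_surjective _ Ideal.Quotient.mk_surjective
    have hmax : ((maximalIdeal A).map (algebraMap A B)).IsMaximal := hmap ▸ maximalIdeal.isMaximal B
    let _ : Field (B ⧸ (maximalIdeal A).map (algebraMap A B)) := Ideal.Quotient.field _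
    have : Algebra.FormallySmooth (A ⧸ maximalIdeal A) (B ⧸ (maximalIdeal A).map (algebraMap A B)) :=
      Sep12.formallySmooth_of_perfectField _ _
    exact isAdicFormallySmooth_of_formallySmooth _
  have hnilB : ∃ k, maximalIdeal B ^ k = ⊥ := ⟨n, by
    rw [hmB, Ideal.span_singleton_pow, Ideal.span_singleton_eq_bot, ← Nat.cast_pow,
      ← map_natCast (algebraMap Z B), ZMod.natCast_self, map_zero]⟩
  have hnilA : ∃ k, maximalIdeal A ^ k = ⊥ := ⟨n, by
    rw [hmA, Ideal.span_singleton_pow, ← Nat.cast_pow, ← map_natCast u0.symm.toRingHom,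
      ZMod.natCast_self, map_zero, Ideal.span_singleton_zero]⟩
  have : Algebra.FormallySmooth A B := by
    refine Algebra.FormallySmooth.iff_comp_surjective.2 fun C _ _ I hI f => ?_
    obtain ⟨k, hk⟩ := hnilA
    obtain ⟨l, hl⟩ := hnilB
    exact hfs C I ⟨2, hI⟩ ⟨k, by rw [hk, Ideal.map_bot]⟩ f ⟨l, fun x hx => by
      rw [hl] at hx
      rw [Ideal.mem_bot.1 hx, map_zero]⟩
  have : Algebra.FormallySmooth Z A :=
    .of_equiv (AlgEquiv.ofBijective (Algebra.ofId Z A) u0.symm.bijective)
  exact Algebra.FormallySmooth.comp Z A B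

section PowerSeries

variable {S T : Type u} [CommRing S] [CommRing T] [Algebra S T]

theorem mem_pow_of_dense_le {I N : Ideal S} (hIN : I ≤ N)
    (hdense : ∀ (k : ℕ) (t : T), ∃ s : S, t - algebraMap S T s ∈ I.map (algebraMap S T) ^ k)
    (hcomap : ∀ (k : ℕ) (s : S), algebraMap S T s ∈ I.map (algebraMap S T) ^ k → s ∈ I ^ k)
    (k : ℕ) (s : S) (hs : algebraMap S T s ∈ N.map (algebraMap S T) ^ k) : s ∈ N ^ k := by
  have key : ∀ t ∈ (N ^ k).map (algebraMap S T), ∀ a : T,
      ∃ s ∈ N ^ k, a * t - algebraMap S T s ∈ I.map (algebraMap S T) ^ k := by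
    intro t ht
    refine Submodule.span_induction ?_ ?_ ?_ ?_ ht
    · rintro _ ⟨x, hx, rfl⟩ a
      obtain ⟨r, hr⟩ := hdense k a
      refine ⟨r * x, Ideal.mul_mem_left _ _ hx, ?_⟩
      rw [map_mul, ← sub_mul]
      exact Ideal.mul_mem_right _ _ hr
    · exact fun a => ⟨0, zero_mem _, by simp⟩
    · intro x y _ _ hx hy a
      obtain ⟨s, hs, hs'⟩ := hx a
      obtain ⟨r, hr, hr'⟩ := hy a
      refine ⟨s + r, add_mem hs hr, ?_⟩
      rw [map_add, mul_add, add_sub_add_comm]
      exact add_mem hs' hr'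
    · intro c x _ hx a
      obtain ⟨s, hs, hs'⟩ := hx (a * c)
      exact ⟨s, hs, by rwa [smul_eq_mul, ← mul_assoc]⟩
  obtain ⟨r, hr, hr'⟩ := key _ (by rwa [Ideal.map_pow]) 1
  rw [one_mul, ← map_sub] at hr'
  have := Ideal.pow_right_mono hIN k (hcomap k _ hr')
  simpa using add_mem this hr

end PowerSeries

theorem isAdicFormallySmooth_int_powerSeries {Λ : Type} [CommRing Λ] [IsLocalRing Λ]
    (hΛ : CAlg.IsCohenRing Λ) (d : ℕ) :
    CAlgX.IsAdicFormallySmooth ℤ (MvPowerSeries (Fin d) Λ)
      (maximalIdeal (MvPowerSeries (Fin d) Λ)) := by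
  obtain ⟨_, _, -, p, hp, hm⟩ := hΛ
  let S := MvPolynomial (Fin d) Λ
  let T := MvPowerSeries (Fin d) Λ
  let V := MvPolynomial.idealOfVars (Fin d) Λ
  let N : Ideal S := V ⊔ Ideal.span {((p : ℕ) : S)}
  let e := MvPowerSeries.toAdicCompletionAlgEquiv (Fin d) Λ
  have hV : V.FG := MvPolynomial.idealOfVars_fg _ _
  have he : ∀ (k : ℕ) (t : T), t ∈ V.map (algebraMap S T) ^ k ↔
      e t ∈ V.map (algebraMap S (AdicCompletion V S)) ^ k := by
    intro k t
    rw [← Ideal.map_pow, ← Ideal.map_pow]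
    constructor
    · intro ht
      have h1 := Ideal.mem_map_of_mem e.toRingHom ht
      rwa [Ideal.map_map, show e.toRingHom.comp (algebraMap S T) = algebraMap S _ from
        e.toAlgHom.comp_algebraMap] at h1
    · intro ht
      have h1 := Ideal.mem_map_of_mem e.symm.toRingHom ht
      rw [Ideal.map_map, show e.symm.toRingHom.comp (algebraMap S (AdicCompletion V S)) = algebraMap S T from
        e.symm.toAlgHom.comp_algebraMap] at h1
      rwa [show e.symm.toRingHom (e t) = t from e.symm_apply_apply t] at h1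
  have hdV : ∀ (k : ℕ) (t : T), ∃ s : S, t - algebraMap S T s ∈ V.map (algebraMap S T) ^ k := by
    intro k t
    obtain ⟨s, hs⟩ := exists_sub_mem_pow V hV k (e t)
    exact ⟨s, (he k _).2 (by rwa [map_sub, e.commutes])⟩
  have hcV : ∀ (k : ℕ) (s : S), algebraMap S T s ∈ V.map (algebraMap S T) ^ k → s ∈ V ^ k := by
    intro k s hs
    have h := (he k _).1 hs
    rw [e.commutes] at h
    exact mem_pow_of_algebraMap_mem V hV k s h
  have hVN : V.map (algebraMap S T) ≤ N.map (algebraMap S T) := Ideal.map_mono le_sup_left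
  -- the maximal ideal
  have hmax : maximalIdeal T = N.map (algebraMap S T) := by
    have hCp : MvPowerSeries.constantCoeff ((p : ℕ) : T) = (p : Λ) := map_natCast _ _
    have hpm : (p : Λ) ∈ maximalIdeal Λ := hm ▸ Ideal.mem_span_singleton_self _
    have hle : N.map (algebraMap S T) ≤ maximalIdeal T := by
      rw [Ideal.map_le_iff_le_comap, sup_le_iff]
      constructor
      · rw [show V = Ideal.span (Set.range MvPolynomial.X) from rfl, Ideal.span_le]
        rintro _ ⟨i, rfl⟩
        show algebraMap S T (MvPolynomial.X i) ∈ maximalIdeal T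
        rw [mem_maximalIdeal, mem_nonunits_iff, MvPowerSeries.isUnit_iff_constantCoeff]
        simp [S, T, MvPowerSeries.algebraMap_apply']
      · rw [Ideal.span_le, Set.singleton_subset_iff]
        show algebraMap S T ((p : ℕ) : S) ∈ maximalIdeal T
        rw [map_natCast, mem_maximalIdeal, mem_nonunits_iff, MvPowerSeries.isUnit_iff_constantCoeff,
          hCp]
        exact hpm
    refine le_antisymm (fun t ht => ?_) hle
    obtain ⟨s, hs⟩ := hdV 1 t
    rw [pow_one] at hs
    have hsm : algebraMap S T s ∈ maximalIdeal T := by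
      have := Ideal.sub_mem _ ht (hle (hVN hs))
      rwa [sub_sub_cancel] at this
    have hs0 : s - MvPolynomial.C (MvPolynomial.constantCoeff s) ∈ V := by
      have := (MvPolynomial.mem_pow_idealOfVars_iff' 1
        (s - MvPolynomial.C (MvPolynomial.constantCoeff s))).2 (fun x hx => by
          have hx0 : x = 0 := (Finsupp.degree_eq_zero_iff x).1 (by omega)
          subst hx0
          rw [← MvPolynomial.constantCoeff_eq, map_sub, MvPolynomial.constantCoeff_C, sub_self])
      rwa [pow_one] at this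
    have hc : MvPolynomial.constantCoeff s ∈ maximalIdeal Λ := by
      rw [mem_maximalIdeal, mem_nonunits_iff] at hsm ⊢
      intro hu
      refine hsm (MvPowerSeries.isUnit_iff_constantCoeff.2 ?_)
      convert hu using 1
      rw [← MvPowerSeries.coeff_zero_eq_constantCoeff_apply, MvPolynomial.constantCoeff_eq]
      show _ = MvPowerSeries.coeff 0 (algebraMap S T s)
      simp [S, T, MvPowerSeries.algebraMap_apply', MvPolynomial.coeff_coe]
    have hsN : s ∈ N := by
      rw [← sub_add_cancel s (MvPolynomial.C (MvPolynomial.constantCoeff s))]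
      refine add_mem (Ideal.mem_sup_left hs0) (Ideal.mem_sup_right ?_)
      rw [hm] at hc
      obtain ⟨c, hc⟩ := Ideal.mem_span_singleton.1 hc
      exact Ideal.mem_span_singleton.2 ⟨MvPolynomial.C c, by rw [hc, map_mul, map_natCast]⟩
    rw [← sub_add_cancel t (algebraMap S T s)]
    exact add_mem (hVN hs) (Ideal.mem_map_of_mem _ hsN)
  rw [hmax]
  have : IsScalarTower ℤ S T := IsScalarTower.of_algebraMap_eq' (Subsingleton.elim _ _)
  refine @isAdicFormallySmooth_of_dense ℤ S T _ _ _ _ _ _ this _ (fun k t => ?_) (mem_pow_of_dense_le le_sup_left hdV hcV) ?_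
  · obtain ⟨s, hs⟩ := hdV k t
    exact ⟨s, Ideal.pow_right_mono hVN k hs⟩
  -- the polynomial ring
  intro C _ _ J hJ ψ ⟨k, hk⟩
  let M := k * 2 + 1
  have hpk : ((p : ℕ) : C) ^ M = 0 := by
    have h1 : ((p : ℕ) : C) ^ k ∈ J := by
      rw [← Ideal.Quotient.eq_zero_iff_mem]
      have := hk _ (Ideal.pow_mem_pow (Ideal.mem_sup_right (Ideal.mem_span_singleton_self _)) k)
      rw [map_pow, map_natCast] at this
      rwa [map_pow, map_natCast]
    have h2 : (((p : ℕ) : C) ^ k) ^ 2 ∈ J ^ 2 := Ideal.pow_mem_pow h1 2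
    rw [hJ] at h2
    rw [pow_succ, pow_mul, Ideal.mem_bot.1 h2, zero_mul]
  let Q := Λ ⧸ Ideal.span {((p : Λ) ^ M)}
  have hQ : ((p ^ M : ℕ) : Q) = 0 := by
    rw [← map_natCast (Ideal.Quotient.mk _), Ideal.Quotient.eq_zero_iff_mem]
    push_cast
    exact Ideal.mem_span_singleton_self _
  let _ : Algebra (ZMod (p ^ M)) Q :=
    (RingHom.toAlgebra (

        (Ideal.Quotient.lift (Ideal.span {((p ^ M : ℕ) : ℤ)}) (Int.castRingHom Q) (fun a ha => by
          obtain ⟨c, rfl⟩ := Ideal.mem_span_singleton.1 ha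
          rw [eq_intCast, Int.cast_mul, Int.cast_natCast, hQ, zero_mul])).comp
            (Int.quotientSpanNatEquivZMod (p ^ M)).symm.toRingHom))
  let _ : Algebra (ZMod (p ^ M)) C :=
    ((Ideal.Quotient.lift (Ideal.span {((p ^ M : ℕ) : ℤ)}) (Int.castRingHom C) (fun a ha => by
          obtain ⟨c, rfl⟩ := Ideal.mem_span_singleton.1 ha
          rw [eq_intCast, Int.cast_mul, Int.cast_natCast, Nat.cast_pow, hpk, zero_mul])).comp
            (Int.quotientSpanNatEquivZMod (p ^ M)).symm.toRingHom).toAlgebra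
  have hψ0 : ∀ a ∈ Ideal.span {((p : Λ) ^ M)}, ψ (MvPolynomial.C a) = 0 := by
    intro a ha
    obtain ⟨c, rfl⟩ := Ideal.mem_span_singleton.1 ha
    rw [map_mul, map_mul, map_pow, map_natCast, map_pow, map_natCast,
      ← map_natCast (Ideal.Quotient.mk J), ← map_pow, hpk, map_zero, zero_mul]
  let u : Q →+* C ⧸ J := Ideal.Quotient.lift _ (ψ.toRingHom.comp MvPolynomial.C) hψ0
  let uA : Q →ₐ[ZMod (p ^ M)] C ⧸ J :=
    { u with commutes' := fun z => RingHom.congr_fun (Subsingleton.elim
        (u.comp (algebraMap (ZMod (p ^ M)) Q)) (algebraMap (ZMod (p ^ M)) (C ⧸ J))) z }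
  have := formallySmooth_zmod_quotient p hp hm M (Nat.le_add_left 1 _)
  let v := Algebra.FormallySmooth.lift J ⟨2, hJ⟩ uA
  choose a ha using fun i => Ideal.Quotient.mk_surjective (I := J) (ψ (MvPolynomial.X i))
  let χ : S →+* C := MvPolynomial.eval₂Hom (v.toRingHom.comp (Ideal.Quotient.mk _)) a
  have hc : ∀ z, χ (algebraMap ℤ S z) = algebraMap ℤ C z := fun z =>
    RingHom.congr_fun (Subsingleton.elim (χ.comp (algebraMap ℤ S)) (algebraMap ℤ C)) z
  refine ⟨⟨χ, hc⟩, AlgHom.ext fun s => ?_⟩
  have h1 : (Ideal.Quotient.mk J).comp χ = ψ.toRingHom := by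
    refine MvPolynomial.ringHom_ext (fun r => ?_) fun i => ?_
    · simp only [RingHom.comp_apply, χ, MvPolynomial.eval₂Hom_C]
      exact Algebra.FormallySmooth.mk_lift J ⟨2, hJ⟩ uA (Ideal.Quotient.mk _ r)
    · simp [χ, ha]
  exact RingHom.congr_fun h1 s

end Groth.Agent.CAlg5
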