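import Groth.Agent.CAlg5.ColimSys
import Mathlib.RingTheory.FinitePresentation
import Mathlib.RingTheory.IntegralClosure.IsIntegralClosure.Basic
import Mathlib.RingTheory.Kaehler.TensorProduct
import Mathlib.RingTheory.Unramified.Basic

set_option autoImplicit false

universe u v

namespace Groth.Agent.CAlg5.ColimSys

open TensorProduct

variable {R : Type u} [CommRing R] {ι : Type v} {G : ι → Type u} [∀ i, CommRing (G i)]
  [∀ i, Algebra R (G i)] {A : Type u} [CommRing A] [Algebra R A] {g : ∀ i, G i →ₐ[R] A}
  (C : Type u) [CommRing C] [Algebra R C]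

/-- The map on base changes induced by a map of coefficient algebras. -/
noncomputable abbrev bmap {X Y : Type u} [CommRing X] [Algebra R X] [CommRing Y] [Algebra R Y]
    (f : X →ₐ[R] Y) : X ⊗[R] C →ₐ[R] Y ⊗[R] C :=
  Algebra.TensorProduct.map f (AlgHom.id R C)

theorem bmap_comp_apply {X Y Z : Type u} [CommRing X] [Algebra R X] [CommRing Y] [Algebra R Y]
    [CommRing Z] [Algebra R Z] (f : X →ₐ[R] Y) (f' : Y →ₐ[R] Z) (x : X ⊗[R] C) :
    bmap C f' (bmap C f x) = bmap C (f'.comp f) x := by
  induction x using TensorProduct.induction_on with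
  | zero => simp
  | tmul a b => simp
  | add a b ha hb => simp [ha, hb]

theorem bmap_algebraMap {X Y : Type u} [CommRing X] [Algebra R X] [CommRing Y] [Algebra R Y]
    (f : X →ₐ[R] Y) (x : X) :
    bmap C f (algebraMap X (X ⊗[R] C) x) = algebraMap Y (Y ⊗[R] C) (f x) := by
  rw [Algebra.TensorProduct.algebraMap_apply, Algebra.TensorProduct.algebraMap_apply,
    Algebra.TensorProduct.map_tmul, map_one]
  rfl

theorem exists_base_kill (hs : ColimSys R G A g) {κ : Type*} (s : Finset κ) (i : ι)
    (y : κ → G i ⊗[R] C) (hy : ∀ k ∈ s, bmap C (g i) (y k) = 0) :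
    ∃ l, ∃ h : G i →ₐ[R] G l, (g l).comp h = g i ∧ ∀ k ∈ s, bmap C h (y k) = 0 := by
  classical
  have hcomm : ∀ {X Y : Type u} [CommRing X] [Algebra R X] [CommRing Y] [Algebra R Y]
      (f : X →ₐ[R] Y) (x : X ⊗[R] C),
      f.toLinearMap.lTensor C (TensorProduct.comm R X C x) = TensorProduct.comm R Y C (bmap C f x) := by
    intros
    rename_i f x
    induction x using TensorProduct.induction_on with
    | zero => simp
    | tmul a b => simp
    | add a b ha hb => simp only [map_add, ha, hb]
  induction s using Finset.induction with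
  | empty => exact ⟨i, AlgHom.id R _, AlgHom.comp_id _, by simp⟩
  | insert a s ha ih =>
    obtain ⟨l, h, hh, hk⟩ := ih fun k hk => hy k (Finset.mem_insert_of_mem hk)
    obtain ⟨m, h', hh', hk'⟩ := hs.exists_tensor_kill C l (TensorProduct.comm R _ C (bmap C h (y a)))
      (by rw [hcomm, bmap_comp_apply, hh, hy a (Finset.mem_insert_self a s), map_zero])
    rw [hcomm, map_eq_zero_iff _ (TensorProduct.comm R (G m) C).injective, bmap_comp_apply] at hk'
    refine ⟨m, h'.comp h, by rw [← AlgHom.comp_assoc, hh', hh], fun k hk2 => ?_⟩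
    rcases Finset.mem_insert.mp hk2 with rfl | hk2
    · exact hk'
    · rw [← bmap_comp_apply, hk k hk2, map_zero]

theorem surjective_of_generators {X : Type u} [CommRing X] [Algebra R X] (S : Set C)
    (hS : Algebra.adjoin R S = ⊤) (h : ∀ c ∈ S, (1 : X) ⊗ₜ[R] c ∈ (algebraMap X (X ⊗[R] C)).range) :
    Function.Surjective (algebraMap X (X ⊗[R] C)) := by
  intro z
  induction z using TensorProduct.induction_on with
  | zero => exact ⟨0, map_zero _⟩
  | tmul a c =>
    have hc : (1 : X) ⊗ₜ[R] c ∈ (algebraMap X (X ⊗[R] C)).range := by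
      have hm : c ∈ Algebra.adjoin R S := hS ▸ Algebra.mem_top
      induction hm using Algebra.adjoin_induction with
      | mem x hx => exact h x hx
      | algebraMap r =>
        refine ⟨algebraMap R X r, ?_⟩
        exact (IsScalarTower.algebraMap_apply R X (X ⊗[R] C) r).symm.trans
          (Algebra.TensorProduct.algebraMap_apply' (R := R) (A := X) (B := C) r)
      | add x y _ _ hx hy => rw [TensorProduct.tmul_add]; exact add_mem hx hy
      | mul x y _ _ hx hy =>
        rw [← one_mul (1 : X), ← Algebra.TensorProduct.tmul_mul_tmul]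
        exact mul_mem hx hy
    obtain ⟨b, hb⟩ := hc
    refine ⟨a * b, ?_⟩
    rw [map_mul, hb, Algebra.TensorProduct.algebraMap_apply, Algebra.TensorProduct.tmul_mul_tmul]
    simp
  | add a b ha hb =>
    obtain ⟨⟨x, rfl⟩, ⟨y, rfl⟩⟩ := ha, hb
    exact ⟨x + y, map_add _ _ _⟩

/-- Surjectivity descends to a stage. -/
theorem exists_surjective (hs : ColimSys R G A g) [Algebra.FiniteType R C]
    (h : Function.Surjective (algebraMap A (A ⊗[R] C))) :
    ∃ l, ∀ m (f : G l →ₐ[R] G m), Function.Surjective (algebraMap (G m) (G m ⊗[R] C)) := by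
  classical
  obtain ⟨S, hS⟩ := ‹Algebra.FiniteType R C›.out
  choose a ha using fun c : C => h ((1 : A) ⊗ₜ[R] c)
  obtain ⟨i⟩ := hs.nonempty
  obtain ⟨l, -, -, x, hx⟩ := hs.exists_lift S a i
  obtain ⟨m, h', hh', hk⟩ := hs.exists_base_kill C S l
    (fun c => algebraMap (G l) (G l ⊗[R] C) (x c) - (1 : G l) ⊗ₜ[R] c) (fun c hc => by
      rw [map_sub, bmap_algebraMap, hx c hc, ha, Algebra.TensorProduct.map_tmul, map_one]
      simp)
  refine ⟨m, fun n f => surjective_of_generators C S hS fun c hc => ⟨f (h' (x c)), ?_⟩⟩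
  have := congrArg (bmap C f) (hk c hc)
  rw [map_zero, map_sub, map_sub, bmap_algebraMap, bmap_algebraMap, sub_eq_zero] at this
  rw [this]
  simp

/-- Bijectivity descends to a stage. -/
theorem exists_bijective (hs : ColimSys R G A g) [Algebra.FinitePresentation R C]
    (h : Function.Bijective (algebraMap A (A ⊗[R] C))) :
    ∃ l, Function.Bijective (algebraMap (G l) (G l ⊗[R] C)) := by
  classical
  obtain ⟨n, f, hf, T, hT⟩ := ‹Algebra.FinitePresentation R C›.out
  obtain ⟨l₀, hsurj⟩ := hs.exists_surjective C h.2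
  choose a ha using fun k : Fin n => h.2 ((1 : A) ⊗ₜ[R] f (MvPolynomial.X k))
  obtain ⟨l, h₀, hh₀, x, hx⟩ := hs.exists_lift Finset.univ a l₀
  have heval : ((Algebra.ofId A (A ⊗[R] C)).restrictScalars R).comp (MvPolynomial.aeval a) =
      (Algebra.TensorProduct.includeRight).comp f := MvPolynomial.algHom_ext fun k => by
    show algebraMap A (A ⊗[R] C) (MvPolynomial.aeval a (MvPolynomial.X k)) = _
    rw [MvPolynomial.aeval_X, ha]
    rfl
  obtain ⟨m, h', hh', hk⟩ := hs.exists_kill T l (fun t => MvPolynomial.aeval x t) (fun t ht => by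
    refine (DFunLike.congr_fun (MvPolynomial.comp_aeval x (g l)) t).trans ?_
    have hax : (fun k => g l (x k)) = a := funext fun k => hx k (Finset.mem_univ k)
    rw [hax]
    refine h.1 ?_
    rw [map_zero]
    refine (DFunLike.congr_fun heval t).trans ?_
    have : f t = 0 := by
      have h1 : t ∈ Ideal.span (T : Set (MvPolynomial (Fin n) R)) := Ideal.subset_span ht
      rw [hT] at h1
      exact h1
    show (1 : A) ⊗ₜ[R] f t = 0
    rw [this, TensorProduct.tmul_zero])
  have hsj := hsurj m (h'.comp h₀)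
  let ev : MvPolynomial (Fin n) R →ₐ[R] G m := MvPolynomial.aeval fun k => h' (x k)
  have hker : RingHom.ker f ≤ RingHom.ker ev := by
    show RingHom.ker f.toRingHom ≤ _
    rw [← hT, Ideal.span_le]
    intro t ht
    show ev t = 0
    exact ((DFunLike.congr_fun (MvPolynomial.comp_aeval x h') t).symm).trans (hk t ht)
  let ψ : C →ₐ[R] G m := (Ideal.Quotient.liftₐ (RingHom.ker f) ev (fun t ht => hker ht)).comp
    (Ideal.quotientKerAlgEquivOfSurjective hf).symm.toAlgHom
  refine ⟨m, Function.LeftInverse.injective (g := Algebra.TensorProduct.productMap (AlgHom.id R (G m)) ψ)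
    (fun b => ?_), hsj⟩
  rw [Algebra.TensorProduct.algebraMap_apply, Algebra.TensorProduct.productMap_apply_tmul, map_one,
    mul_one]
  rfl

theorem isIntegral_bmap {X Y : Type u} [CommRing X] [Algebra R X] [CommRing Y] [Algebra R Y]
    (f : X →ₐ[R] Y) {z : X ⊗[R] C} (hz : IsIntegral X z) : IsIntegral Y (bmap C f z) := by
  obtain ⟨p, hp, hpz⟩ := hz
  refine ⟨p.map f.toRingHom, hp.map _, ?_⟩
  rw [Polynomial.eval₂_map]
  have e : (algebraMap Y (Y ⊗[R] C)).comp f.toRingHom =
      (bmap C f).toRingHom.comp (algebraMap X (X ⊗[R] C)) :=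
    RingHom.ext fun x => (bmap_algebraMap C f x).symm
  rw [e]
  show Polynomial.eval₂ _ ((bmap C f).toRingHom z) p = 0
  rw [← Polynomial.hom_eval₂, hpz, map_zero]

/-- Finiteness descends to a stage. -/
theorem exists_finite (hs : ColimSys R G A g) [Algebra.FiniteType R C]
    (h : Module.Finite A (A ⊗[R] C)) : ∃ l, Module.Finite (G l) (G l ⊗[R] C) := by
  classical
  obtain ⟨S, hS⟩ := ‹Algebra.FiniteType R C›.out
  have key : ∀ T : Finset C, ∀ i, ∃ l, ∃ _ : G i →ₐ[R] G l,
      ∀ c ∈ T, IsIntegral (G l) ((1 : G l) ⊗ₜ[R] c) := by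
    intro T
    induction T using Finset.induction with
    | empty => exact fun i => ⟨i, AlgHom.id R _, by simp⟩
    | insert c T hc ih =>
      intro i
      obtain ⟨p, hp, hpc⟩ := IsIntegral.of_finite A ((1 : A) ⊗ₜ[R] c)
      obtain ⟨l₀, h₀, hT⟩ := ih i
      obtain ⟨l, h₁, -, x, hx⟩ := hs.exists_lift (Finset.range p.natDegree) p.coeff l₀
      obtain ⟨m, h', hh', hk⟩ := hs.exists_base_kill C ({()} : Finset Unit) l
        (fun _ => ((1 : G l) ⊗ₜ[R] c) ^ p.natDegree +
          ∑ k ∈ Finset.range p.natDegree, algebraMap (G l) (G l ⊗[R] C) (x k) * ((1 : G l) ⊗ₜ[R] c) ^ k)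
        (fun _ _ => by
          rw [map_add, map_pow, map_sum, Algebra.TensorProduct.map_tmul, map_one, AlgHom.id_apply]
          have h2 := hpc
          rw [hp.as_sum] at h2
          simp only [Polynomial.eval₂_add, Polynomial.eval₂_finset_sum, Polynomial.eval₂_mul,
            Polynomial.eval₂_C, Polynomial.eval₂_pow, Polynomial.eval₂_X] at h2
          refine Eq.trans ?_ h2
          congr 1
          refine Finset.sum_congr rfl fun k hk => ?_
          rw [map_mul, bmap_algebraMap, hx k hk, map_pow, Algebra.TensorProduct.map_tmul, map_one,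
            AlgHom.id_apply])
      refine ⟨m, (h'.comp h₁).comp h₀, fun d hd => ?_⟩
      rcases Finset.mem_insert.mp hd with rfl | hd
      · let q : Polynomial (G m) := Polynomial.X ^ p.natDegree +
          ∑ k ∈ Finset.range p.natDegree, Polynomial.C (h' (x k)) * Polynomial.X ^ k
        refine ⟨q, Polynomial.monic_X_pow_add ?_, ?_⟩
        · refine (Polynomial.degree_sum_le _ _).trans_lt ((Finset.sup_lt_iff (WithBot.bot_lt_coe _)).mpr
            fun k hk => (Polynomial.degree_C_mul_X_pow_le k _).trans_lt ?_)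
          exact WithBot.coe_lt_coe.mpr (Finset.mem_range.mp hk)
        · have h3 := hk () (Finset.mem_singleton_self _)
          rw [map_add, map_pow, map_sum, Algebra.TensorProduct.map_tmul, map_one, AlgHom.id_apply] at h3
          refine Eq.trans ?_ h3
          simp only [q, Polynomial.eval₂_add, Polynomial.eval₂_finset_sum, Polynomial.eval₂_mul,
            Polynomial.eval₂_C, Polynomial.eval₂_pow, Polynomial.eval₂_X]
          congr 1
          refine Finset.sum_congr rfl fun k hk => ?_
          rw [map_mul, bmap_algebraMap, map_pow, Algebra.TensorProduct.map_tmul, map_one,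
            AlgHom.id_apply]
      · have h4 := isIntegral_bmap C (h'.comp h₁) (hT d hd)
        rwa [Algebra.TensorProduct.map_tmul, map_one, AlgHom.id_apply] at h4
  obtain ⟨i⟩ := hs.nonempty
  obtain ⟨l, -, hl⟩ := key S i
  refine ⟨l, ?_⟩
  have : Algebra.FiniteType (G l) (G l ⊗[R] C) := inferInstance
  have : Algebra.IsIntegral (G l) (G l ⊗[R] C) := by
    constructor
    intro z
    induction z using TensorProduct.induction_on with
    | zero => exact isIntegral_zero
    | add a b ha hb => exact ha.add hb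
    | tmul a c =>
      have hc : IsIntegral (G l) ((1 : G l) ⊗ₜ[R] c) := by
        have hm : c ∈ Algebra.adjoin R (S : Set C) := hS ▸ Algebra.mem_top
        induction hm using Algebra.adjoin_induction with
        | mem x hx => exact hl x hx
        | algebraMap r =>
          rw [Algebra.algebraMap_eq_smul_one, TensorProduct.tmul_smul]
          exact (isIntegral_one (R := G l)).smul r
        | add x y _ _ hx hy => rw [TensorProduct.tmul_add]; exact hx.add hy
        | mul x y _ _ hx hy =>
          rw [← one_mul (1 : G l), ← Algebra.TensorProduct.tmul_mul_tmul]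
          exact hx.mul hy
      have : a ⊗ₜ[R] c = a • ((1 : G l) ⊗ₜ[R] c) := by
        rw [TensorProduct.smul_tmul', smul_eq_mul, mul_one]
      rw [this]
      exact hc.smul a
  exact Algebra.IsIntegral.finite

attribute [local instance] Algebra.TensorProduct.rightAlgebra in
theorem formallyUnramified_baseChange_iff (X : Type u) [CommRing X] [Algebra R X] :
    Algebra.FormallyUnramified X (X ⊗[R] C) ↔ Subsingleton (X ⊗[R] Ω[C⁄R]) := by
  let e := KaehlerDifferential.tensorKaehlerEquivBase R X C (X ⊗[R] C)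
  rw [Algebra.formallyUnramified_iff]
  exact e.toEquiv.subsingleton_congr.symm

/-- Being unramified descends to a stage. -/
theorem exists_unramified (hs : ColimSys R G A g) [Algebra.FiniteType R C]
    (h : Algebra.Unramified A (A ⊗[R] C)) : ∃ l, Algebra.Unramified (G l) (G l ⊗[R] C) := by
  classical
  have hA : Subsingleton (A ⊗[R] Ω[C⁄R]) :=
    (formallyUnramified_baseChange_iff C A).mp h.formallyUnramified
  obtain ⟨S, hS⟩ := ‹Algebra.FiniteType R C›.out
  obtain ⟨i⟩ := hs.nonempty
  have key : ∀ T : Finset C, ∃ l, ∀ c ∈ T,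
      (KaehlerDifferential.D R C c) ⊗ₜ[R] (1 : G l) = 0 := by
    intro T
    induction T using Finset.induction with
    | empty => exact ⟨i, by simp⟩
    | insert c T hc ih =>
      obtain ⟨l, hl⟩ := ih
      have hzero : Subsingleton (Ω[C⁄R] ⊗[R] A) := (TensorProduct.comm R _ _).toEquiv.subsingleton
      obtain ⟨m, f, -, hk⟩ := hs.exists_tensor_kill (Ω[C⁄R]) l
        ((KaehlerDifferential.D R C c) ⊗ₜ[R] (1 : G l)) (Subsingleton.elim _ _)
      rw [LinearMap.lTensor_tmul, AlgHom.toLinearMap_apply, map_one] at hk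
      refine ⟨m, fun d hd => ?_⟩
      rcases Finset.mem_insert.mp hd with rfl | hd
      · exact hk
      · have := congrArg (f.toLinearMap.lTensor _) (hl d hd)
        rwa [map_zero, LinearMap.lTensor_tmul, AlgHom.toLinearMap_apply, map_one] at this
  obtain ⟨l, hl⟩ := key S
  refine ⟨l, ?_, inferInstance⟩
  rw [formallyUnramified_baseChange_iff]
  have hc : ∀ (c : C) (ω : Ω[C⁄R]), ω ⊗ₜ[R] (1 : G l) = 0 → (c • ω) ⊗ₜ[R] (1 : G l) = 0 :=
    fun c ω hω => by rw [← TensorProduct.smul_tmul', hω, smul_zero]
  have hD : ∀ c : C, (KaehlerDifferential.D R C c) ⊗ₜ[R] (1 : G l) = 0 := by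
    intro c
    have hm : c ∈ Algebra.adjoin R (S : Set C) := hS ▸ Algebra.mem_top
    induction hm using Algebra.adjoin_induction with
    | mem x hx => exact hl x hx
    | algebraMap r => rw [Derivation.map_algebraMap, TensorProduct.zero_tmul]
    | add x y _ _ hx hy => rw [map_add, TensorProduct.add_tmul, hx, hy, add_zero]
    | mul x y _ _ hx hy =>
      rw [Derivation.leibniz, TensorProduct.add_tmul, hc _ _ hx, hc _ _ hy, add_zero]
  have hall : ∀ ω : Ω[C⁄R], ω ⊗ₜ[R] (1 : G l) = 0 := by
    intro ω
    have hm : ω ∈ Submodule.span C (Set.range (KaehlerDifferential.D R C)) := by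
      rw [KaehlerDifferential.span_range_derivation]; trivial
    induction hm using Submodule.span_induction with
    | mem x hx => obtain ⟨c, rfl⟩ := hx; exact hD c
    | zero => exact TensorProduct.zero_tmul _ _
    | add x y _ _ hx hy => rw [TensorProduct.add_tmul, hx, hy, add_zero]
    | smul c x _ hx => exact hc c x hx
  refine subsingleton_of_forall_eq 0 fun z => ?_
  induction z using TensorProduct.induction_on with
  | zero => rfl
  | tmul a ω =>
    have e : a ⊗ₜ[R] ω = a • ((1 : G l) ⊗ₜ[R] ω) := by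
      rw [TensorProduct.smul_tmul', smul_eq_mul, mul_one]
    have h0 : (1 : G l) ⊗ₜ[R] ω = 0 := (TensorProduct.comm R _ _).injective
      (by rw [TensorProduct.comm_tmul, map_zero]; exact hall ω)
    rw [e, h0, smul_zero]
  | add a b ha hb => rw [ha, hb, add_zero]

end Groth.Agent.CAlg5.ColimSys
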