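import Groth.Agent.CAlg5.AlgQuot
import Groth.Agent.CAlg1.Complete

/-!
# Recognising completions, and the completion as a congruent algebra
-/

set_option autoImplicit false
set_option maxHeartbeats 400000
universe u

namespace Groth.Agent.CAlg5

theorem cong_adicCompletion {B : Type u} [CommRing B] (a : Ideal B) (ha : a.FG) :
    Cong a (AdicCompletion a B) := by
  have hker : ∀ (n : ℕ) (x : AdicCompletion a B),
      x ∈ (a.map (algebraMap B (AdicCompletion a B))) ^ n ↔ AdicCompletion.evalₐ a n x = 0 := by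
    intro n x
    have hinj : Function.Injective (Ideal.quotientEquivAlgOfEq B (Ideal.mul_top (a ^ n))) :=
      AlgEquiv.injective _
    have h1 : (a ^ n • ⊤ : Submodule B (AdicCompletion a B)) =
        ((a.map (algebraMap B (AdicCompletion a B))) ^ n).restrictScalars B := by
      rw [Ideal.smul_top_eq_map, Ideal.map_pow]
    rw [← Submodule.restrictScalars_mem B, ← h1, AdicCompletion.pow_smul_top_eq_ker_eval ha, LinearMap.mem_ker]
    exact (map_eq_zero_iff _ hinj).symm
  refine ⟨fun n x => ?_, fun n r hr => ?_⟩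
  · obtain ⟨r, hr⟩ := Ideal.Quotient.mk_surjective (AdicCompletion.evalₐ a n x)
    refine ⟨r, (hker n _).mpr ?_⟩
    rw [map_sub, AlgHom.commutes, Ideal.Quotient.algebraMap_eq, hr, sub_self]
  · rw [hker, AlgHom.commutes, Ideal.Quotient.algebraMap_eq, Ideal.Quotient.eq_zero_iff_mem] at hr
    exact hr

/-- A map which is bijective modulo all powers onto a complete ring is a completion. -/
theorem exists_equiv {B D N : Type u} [CommRing B] [CommRing D] [CommRing N] [Algebra B D] [Algebra B N]
    {a : Ideal B} (θ : D →ₐ[B] N) (hθ : BijMod a θ)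
    [IsHausdorff (a.map (algebraMap B N)) N] [IsPrecomplete (a.map (algebraMap B N)) N] :
    ∃ e : N ≃+* AdicCompletion (a.map (algebraMap B D)) D,
      ∀ r : B, e (algebraMap B N r) = algebraMap D _ (algebraMap B D r) := by
  classical
  let A := a.map (algebraMap B D)
  let A' := a.map (algebraMap B N)
  have hA : A.map θ = A' := by
    show Ideal.map (θ : D →+* N) _ = _
    rw [Ideal.map_map, θ.comp_algebraMap]
  let u : ∀ n, D ⧸ A ^ n →+* N ⧸ A' ^ n := fun n => Ideal.quotientMap _ (θ : D →+* N) (by
    rw [← Ideal.map_le_iff_le_comap, Ideal.map_pow]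
    exact Ideal.pow_right_mono hA.le n)
  have hu : ∀ n (d : D), u n (Ideal.Quotient.mk _ d) = Ideal.Quotient.mk _ (θ d) := fun n d =>
    Ideal.quotientMap_mk
  have hbij : ∀ n, Function.Bijective (u n) := fun n => by
    constructor
    · rw [injective_iff_map_eq_zero]
      intro d hd
      obtain ⟨d, rfl⟩ := Ideal.Quotient.mk_surjective d
      rw [hu, Ideal.Quotient.eq_zero_iff_mem] at hd
      exact Ideal.Quotient.eq_zero_iff_mem.mpr (hθ.inj n d hd)
    · intro x
      obtain ⟨x, rfl⟩ := Ideal.Quotient.mk_surjective x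
      obtain ⟨d, hd⟩ := hθ.surj n x
      exact ⟨Ideal.Quotient.mk _ d, ((hu n d).trans (Ideal.Quotient.eq.mpr hd).symm)⟩
  let v : ∀ n, N →+* D ⧸ A ^ n := fun n =>
    ((RingEquiv.ofBijective (u n) (hbij n)).symm : N ⧸ A' ^ n →+* D ⧸ A ^ n).comp (Ideal.Quotient.mk _)
  have hv : ∀ n (x : N) (d : D), x - θ d ∈ A' ^ n → v n x = Ideal.Quotient.mk _ d := fun n x d h => by
    show (RingEquiv.ofBijective (u n) (hbij n)).symm (Ideal.Quotient.mk _ x) = _
    rw [RingEquiv.symm_apply_eq, RingEquiv.ofBijective_apply, hu]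
    exact Ideal.Quotient.eq.mpr h
  have hcompat : ∀ {m n : ℕ} (hle : m ≤ n), (Ideal.Quotient.factorPow A hle).comp (v n) = v m := by
    intro m n hle
    refine RingHom.ext fun x => ?_
    obtain ⟨d, hd⟩ := hθ.surj n x
    rw [RingHom.comp_apply, hv n x d hd, hv m x d (Ideal.pow_le_pow_right hle hd), Ideal.Quotient.factor_mk]
  let e : N →+* AdicCompletion A D := AdicCompletion.liftRingHom A v hcompat
  have he : ∀ n x, AdicCompletion.evalₐ A n (e x) = v n x := fun n x =>
    AdicCompletion.evalₐ_liftRingHom A v hcompat n x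
  have hebij : Function.Bijective e := by
    constructor
    · rw [injective_iff_map_eq_zero]
      intro x hx
      refine IsHausdorff.haus ‹IsHausdorff A' N› x fun n => ?_
      rw [SModEq.zero, smul_eq_mul, Ideal.mul_top]
      obtain ⟨d, hd⟩ := hθ.surj n x
      have h1 := he n x
      rw [hx, map_zero, hv n x d hd, eq_comm, Ideal.Quotient.eq_zero_iff_mem] at h1
      have h2 : θ d ∈ A' ^ n := by
        rw [← hA, ← Ideal.map_pow]; exact Ideal.mem_map_of_mem _ h1
      have := add_mem hd h2
      rwa [sub_add_cancel] at this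
    · intro y
      choose d hd using fun n => Ideal.Quotient.mk_surjective (AdicCompletion.evalₐ A n y)
      have hstep : ∀ n, θ (d (n + 1)) - θ (d n) ∈ A' ^ n := fun n => by
        rw [← map_sub, ← hA, ← Ideal.map_pow]
        refine Ideal.mem_map_of_mem _ ?_
        rw [← Ideal.Quotient.eq, hd n,
          ← Ideal.Quotient.factor_mk (Ideal.pow_le_pow_right (Nat.le_succ n)) (d (n + 1)), hd (n + 1)]
        obtain ⟨y', rfl⟩ := AdicCompletion.mk_surjective A D y
        rw [AdicCompletion.evalₐ_mk, AdicCompletion.evalₐ_mk, Ideal.Quotient.factor_mk, Ideal.Quotient.eq]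
        have h := SModEq.sub_mem.mp (y'.property (Nat.le_succ n)).symm
        rwa [smul_eq_mul, Ideal.mul_top] at h
      obtain ⟨L, hL⟩ := CAlg1.exists_limit A' (fun n => θ (d n)) hstep
      exact ⟨L, AdicCompletion.ext_evalₐ fun n => by rw [he n L, hv n L (d n) (hL n), hd n]⟩
  refine ⟨RingEquiv.ofBijective e hebij, fun r => ?_⟩
  refine AdicCompletion.ext_evalₐ fun n => ?_
  show AdicCompletion.evalₐ A n (e _) = _
  rw [he, hv n _ (algebraMap B D r) (by rw [θ.commutes, sub_self]; exact zero_mem _), AlgHom.commutes,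
    Ideal.Quotient.algebraMap_eq]

end Groth.Agent.CAlg5
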