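import Mathlib

/-! Finite flat covers dominating étale maps. -/

set_option autoImplicit false
universe u

open TensorProduct Polynomial

namespace Groth.Agent.CAlg5

/-- a universal splitting: a finite free extension over which a monic polynomial splits -/
theorem exists_split (n : ℕ) : ∀ (R : Type u) [CommRing R] (f : R[X]), f.Monic → f.natDegree = n →
    ∃ (S' : Type u) (_ : CommRing S') (_ : Algebra R S') (_ : Module.Finite R S') (_ : Module.Free R S')
      (α : Fin n → S'), Function.Injective (algebraMap R S') ∧
        f.map (algebraMap R S') = ∏ i, (X - C (α i)) := by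
  induction n with
  | zero =>
    intro R _ f hf hn
    refine ⟨R, inferInstance, inferInstance, inferInstance, inferInstance, Fin.elim0, Function.injective_id, ?_⟩
    rw [Finset.univ_eq_empty, Finset.prod_empty, hf.natDegree_eq_zero.mp hn]
    simp
  | succ n ih =>
    intro R _ f hf hn
    rcases subsingleton_or_nontrivial R with hR | hR
    · refine ⟨R, inferInstance, inferInstance, inferInstance, inferInstance, fun _ => 0, Function.injective_id, ?_⟩
      exact Subsingleton.elim _ _
    let A := AdjoinRoot f
    have : Module.Finite R A := hf.finite_adjoinRoot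
    have : Module.Free R A := hf.free_adjoinRoot
    have hinj : Function.Injective (algebraMap R A) := by
      rw [injective_iff_map_eq_zero]
      intro r hr
      have h1 : f ∣ C r := AdjoinRoot.mk_eq_zero.mp hr
      rw [← Polynomial.modByMonic_eq_zero_iff_dvd hf] at h1
      rw [(Polynomial.modByMonic_eq_self_iff hf).mpr ?_] at h1
      · exact C_eq_zero.mp h1
      · refine degree_C_le.trans_lt ?_
        rw [degree_eq_natDegree hf.ne_zero, hn]
        exact_mod_cast Nat.succ_pos n
    have : Nontrivial A := hinj.nontrivial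
    set fA := f.map (algebraMap R A) with hfA
    have hroot : fA.IsRoot (AdjoinRoot.root f) := by
      rw [IsRoot, hfA, eval_map]; exact AdjoinRoot.eval₂_root f
    set h := fA /ₘ (X - C (AdjoinRoot.root f)) with hh
    have hmul : (X - C (AdjoinRoot.root f)) * h = fA := mul_divByMonic_eq_iff_isRoot.mpr hroot
    have hm : h.Monic := (monic_X_sub_C _).of_mul_monic_left (by rw [hmul, hfA]; exact hf.map _)
    have hdeg : h.natDegree = n := by
      rw [hh, natDegree_divByMonic _ (monic_X_sub_C _), hfA, hf.natDegree_map, hn, natDegree_X_sub_C]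
      omega
    obtain ⟨S', _, _, _, _, α, hinj', hα⟩ := ih A h hm hdeg
    let : Algebra R S' := ((algebraMap A S').comp (algebraMap R A)).toAlgebra
    have : IsScalarTower R A S' := IsScalarTower.of_algebraMap_eq fun _ => rfl
    refine ⟨S', inferInstance, inferInstance, Module.Finite.trans A S', Module.Free.trans (R := R) (S := A),
      Fin.cons (algebraMap A S' (AdjoinRoot.root f)) α, hinj'.comp hinj, ?_⟩
    rw [IsScalarTower.algebraMap_eq R A S', ← Polynomial.map_map, ← hfA, ← hmul, Polynomial.map_mul, hα,
      Fin.prod_univ_succ, Fin.cons_zero]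
    simp [Polynomial.map_sub, map_X, map_C]

/-- A cover over which a standard étale algebra has all possible points -/
theorem exists_cover (R S : Type u) [CommRing R] [CommRing S] [Algebra R S] [Algebra.IsStandardEtale R S] :
    ∃ (S' : Type u) (_ : CommRing S') (_ : Algebra R S'),
      Module.Finite R S' ∧ Algebra.FinitePresentation R S' ∧ Module.Flat R S' ∧
        Function.Surjective (PrimeSpectrum.comap (algebraMap R S')) ∧
        ∀ (q : Ideal S) [q.IsPrime] (q' : Ideal S') [q'.IsPrime], q'.under R = q.under R →
          ∃ (g' : S') (_ : g' ∉ q') (φ : S →ₐ[R] Localization.Away g'),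
            (q'.map (algebraMap S' (Localization.Away g'))).comap φ = q := by
  obtain ⟨P⟩ := Algebra.IsStandardEtale.nonempty_standardEtalePresentation (R := R) (S := S)
  obtain ⟨S', _, _, _, _, α, hinj, hα⟩ := exists_split P.f.natDegree R P.f P.monic_f rfl
  have : Algebra.IsIntegral R S' := inferInstance
  have hfp : Module.FinitePresentation R S' := Module.finitePresentation_of_projective R S'
  have : Algebra.FinitePresentation R S' := inferInstance
  refine ⟨S', inferInstance, inferInstance, inferInstance, inferInstance, inferInstance, ?_, ?_⟩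
  · exact RingHom.IsIntegral.comap_surjective (algebraMap_isIntegral_iff.mpr inferInstance) hinj
  intro q _ q' _ hqq
  let p := q.under R
  have : q.LiesOver p := ⟨rfl⟩
  have : q'.LiesOver p := ⟨hqq.symm⟩
  let : Algebra p.ResidueField q.ResidueField :=
    (Ideal.ResidueField.map p q (algebraMap R S) rfl).toAlgebra
  let : Algebra p.ResidueField q'.ResidueField :=
    (Ideal.ResidueField.map p q' (algebraMap R S') hqq.symm).toAlgebra
  have : IsScalarTower R p.ResidueField q.ResidueField := IsScalarTower.of_algebraMap_eq fun r => by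
    rw [RingHom.algebraMap_toAlgebra, Ideal.ResidueField.map_algebraMap, ← IsScalarTower.algebraMap_apply]
  have : IsScalarTower R p.ResidueField q'.ResidueField := IsScalarTower.of_algebraMap_eq fun r => by
    rw [RingHom.algebraMap_toAlgebra, Ideal.ResidueField.map_algebraMap, ← IsScalarTower.algebraMap_apply]
  let W := q.ResidueField ⊗[p.ResidueField] q'.ResidueField
  have : Nontrivial W := Algebra.TensorProduct.nontrivial_of_algebraMap_injective_of_flat_left
    p.ResidueField q.ResidueField q'.ResidueField (algebraMap p.ResidueField q'.ResidueField).injective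
  obtain ⟨M, hM⟩ := Ideal.exists_maximal W
  let := Ideal.Quotient.field M
  let K := W ⧸ M
  let a : S →ₐ[R] K := (Ideal.Quotient.mkₐ R M).comp
    (((Algebra.TensorProduct.includeLeft : q.ResidueField →ₐ[p.ResidueField] W).restrictScalars R).comp
      (IsScalarTower.toAlgHom R S q.ResidueField))
  let b : S' →ₐ[R] K := (Ideal.Quotient.mkₐ R M).comp
    (((Algebra.TensorProduct.includeRight : q'.ResidueField →ₐ[p.ResidueField] W).restrictScalars R).comp
      (IsScalarTower.toAlgHom R S' q'.ResidueField))
  have ha : ∀ x, a x = 0 ↔ x ∈ q := fun x => by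
    rw [← Ideal.algebraMap_residueField_eq_zero (I := q)]
    exact map_eq_zero ((Ideal.Quotient.mkₐ p.ResidueField M).comp
      (Algebra.TensorProduct.includeLeft : q.ResidueField →ₐ[p.ResidueField] W))
  have hb : ∀ x, b x = 0 ↔ x ∈ q' := fun x => by
    rw [← Ideal.algebraMap_residueField_eq_zero (I := q')]
    exact map_eq_zero ((Ideal.Quotient.mkₐ p.ResidueField M).comp
      (Algebra.TensorProduct.includeRight : q'.ResidueField →ₐ[p.ResidueField] W))
  obtain ⟨i, hi⟩ : ∃ i, a P.x = b (α i) := by
    have h1 : Polynomial.aeval (a P.x) P.f = 0 := (P.hasMap.map a).1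
    have h2 : P.f.map (algebraMap R K) = ∏ i, (X - C (b (α i))) := by
      rw [← b.comp_algebraMap, ← Polynomial.map_map, hα, Polynomial.map_prod]
      simp [Polynomial.map_sub, map_X, map_C]
    rw [aeval_def, ← eval_map, h2, eval_prod, Finset.prod_eq_zero_iff] at h1
    obtain ⟨i, -, hi⟩ := h1
    exact ⟨i, sub_eq_zero.mp (by simpa using hi)⟩
  set g' := aeval (α i) P.g
  have hg' : g' ∉ q' := fun h => by
    rw [← hb, ← aeval_algHom_apply, ← hi] at h
    exact not_isUnit_zero (h ▸ (P.hasMap.map a).2)
  let L := Localization.Away g'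
  have hmap : P.HasMap (algebraMap S' L (α i)) := by
    constructor
    · show aeval (algebraMap S' L (α i)) P.f = 0
      rw [aeval_algebraMap_apply, aeval_def, ← eval_map, hα, eval_prod,
        Finset.prod_eq_zero (Finset.mem_univ i) (by simp), map_zero]
    · show IsUnit (aeval (algebraMap S' L (α i)) P.g)
      rw [aeval_algebraMap_apply]
      exact IsLocalization.Away.algebraMap_isUnit g'
  let φ : S →ₐ[R] L := (P.lift _ hmap).comp P.equivRing.toAlgHom
  have hu : ∀ y : Submonoid.powers g', IsUnit (b y) := by
    rintro ⟨_, n, rfl⟩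
    exact isUnit_iff_ne_zero.mpr fun h => hg' (‹q'.IsPrime›.mem_of_pow_mem n ((hb _).mp h))
  let θ : L →ₐ[R] K := IsLocalization.liftAlgHom (M := Submonoid.powers g') (f := b) hu
  have hθS : ∀ y, θ (algebraMap S' L y) = b y := fun y => IsLocalization.lift_eq (hg := hu) y
  have hθφ : ∀ x, θ (φ x) = a x := by
    have h1 : (θ.comp φ).comp P.equivRing.symm.toAlgHom = a.comp P.equivRing.symm.toAlgHom := by
      refine StandardEtalePair.hom_ext ?_
      show θ (P.lift _ hmap (P.equivRing (P.equivRing.symm P.X))) = a (P.equivRing.symm P.X)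
      rw [AlgEquiv.apply_symm_apply, StandardEtalePair.lift_X, StandardEtalePresentation.equivRing_symm_X,
        hθS, hi]
    intro x
    have h2 := DFunLike.congr_fun h1 (P.equivRing x)
    change θ (φ (P.equivRing.symm (P.equivRing x))) = a (P.equivRing.symm (P.equivRing x)) at h2
    rwa [AlgEquiv.symm_apply_apply] at h2
  refine ⟨g', hg', φ, Ideal.ext fun x => ?_⟩
  rw [Ideal.mem_comap, ← ha, ← hθφ]
  obtain ⟨⟨y, s⟩, hy⟩ := IsLocalization.surj (Submonoid.powers g') (φ x)
  have hu' : IsUnit (algebraMap S' L s.1) := IsLocalization.map_units L s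
  constructor
  · intro h
    refine (Ideal.map_le_iff_le_comap.mpr fun z hz => ?_ : q'.map (algebraMap S' L) ≤ RingHom.ker θ.toRingHom) h
    show θ (algebraMap S' L z) = 0
    rw [hθS, hb]; exact hz
  · intro h
    have h3 : θ (φ x * algebraMap S' L s.1) = 0 := by rw [map_mul, h, zero_mul]
    rw [hy, hθS, hb] at h3
    rw [← Ideal.mul_unit_mem_iff_mem _ hu', hy]
    exact Ideal.mem_map_of_mem _ h3

/-- One finite flat cover serving a finite family of standard étale neighbourhoods. -/
theorem exists_cover_family (R T : Type u) [CommRing R] [CommRing T] [Algebra R T] (s : Finset T)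
    (hs : ∀ f ∈ s, Algebra.IsStandardEtale R (Localization.Away f)) :
    ∃ (S' : Type u) (_ : CommRing S') (_ : Algebra R S'),
      Module.Finite R S' ∧ Algebra.FinitePresentation R S' ∧ Module.Flat R S' ∧
        Function.Surjective (PrimeSpectrum.comap (algebraMap R S')) ∧
        ∀ (q' : Ideal S') [q'.IsPrime], ∀ (q : Ideal T) [q.IsPrime], q'.under R = q.under R →
          (∃ f ∈ s, f ∉ q) → ∃ (g' : S') (_ : g' ∉ q'), Nonempty (T →ₐ[R] Localization.Away g') := by
  classical
  induction s using Finset.induction_on with
  | empty =>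
    exact ⟨R, inferInstance, inferInstance, inferInstance, inferInstance, inferInstance,
      fun p => ⟨p, PrimeSpectrum.ext (Ideal.comap_id _)⟩, fun q' _ q _ _ h => by simp at h⟩
  | insert f s _ ih =>
    obtain ⟨S₁, _, _, h1f, h1p, h1l, h1s, h1⟩ := ih fun x hx => hs x (Finset.mem_insert_of_mem hx)
    have := hs f (Finset.mem_insert_self f s)
    obtain ⟨S₂, _, _, h2f, h2p, h2l, h2s, h2⟩ := exists_cover R (Localization.Away f)
    have : Module.FaithfullyFlat R S₁ := Module.FaithfullyFlat.of_comap_surjective h1s
    have : Module.FaithfullyFlat R S₂ := Module.FaithfullyFlat.of_comap_surjective h2s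
    let W := S₁ ⊗[R] S₂
    have : Module.FaithfullyFlat R W := Module.FaithfullyFlat.trans R S₁ W
    have hWf : Module.Finite R W := inferInstance
    have hWp : Algebra.FinitePresentation R W := Algebra.FinitePresentation.trans R S₁ W
    refine ⟨W, inferInstance, inferInstance, hWf, hWp, inferInstance,
      PrimeSpectrum.comap_surjective_of_faithfullyFlat, ?_⟩
    intro Q _ q _ hQq hex
    have hproj : ∀ {E : Type u} [CommRing E] [Algebra R E] (e : E →ₐ[R] W) (g : E)
        (_ : g ∉ Q.comap e.toRingHom) (ψ : T →ₐ[R] Localization.Away g),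
        ∃ (g' : W) (_ : g' ∉ Q), Nonempty (T →ₐ[R] Localization.Away g') := by
      intro E _ _ e g hg ψ
      refine ⟨e g, hg, ⟨(IsLocalization.liftAlgHom (M := Submonoid.powers g)
        (f := (IsScalarTower.toAlgHom R W (Localization.Away (e g))).comp e) ?_).comp ψ⟩⟩
      rintro ⟨_, n, rfl⟩
      show IsUnit (algebraMap W _ (e (g ^ n)))
      rw [map_pow, map_pow]
      exact (IsLocalization.Away.algebraMap_isUnit (e g)).pow n
    obtain ⟨f', hf', hf'q⟩ := hex
    by_cases hsq : ∃ x ∈ s, x ∉ q
    · let e : S₁ →ₐ[R] W := Algebra.TensorProduct.includeLeft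
      have : (Q.comap e.toRingHom).IsPrime := Ideal.IsPrime.comap _
      obtain ⟨g, hg, ⟨ψ⟩⟩ := h1 (Q.comap e.toRingHom) q (by
        rw [Ideal.under_def, Ideal.comap_comap, AlgHom.toRingHom_eq_coe, AlgHom.comp_algebraMap]
        exact hQq) hsq
      exact hproj e g hg ψ
    · have hfq : f ∉ q := by
        rcases Finset.mem_insert.mp hf' with rfl | h
        · exact hf'q
        · exact absurd ⟨f', h, hf'q⟩ hsq
      let e : S₂ →ₐ[R] W := Algebra.TensorProduct.includeRight
      have : (Q.comap e.toRingHom).IsPrime := Ideal.IsPrime.comap _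
      have hd : Disjoint (Submonoid.powers f : Set T) q := by
        refine Set.disjoint_left.mpr ?_
        rintro _ ⟨n, rfl⟩ hx
        exact hfq (‹q.IsPrime›.mem_of_pow_mem n hx)
      have : (q.map (algebraMap T (Localization.Away f))).IsPrime :=
        IsLocalization.isPrime_of_isPrime_disjoint (Submonoid.powers f) _ q ‹_› hd
      obtain ⟨g, hg, ψ, -⟩ := h2 (q.map (algebraMap T (Localization.Away f))) (Q.comap e.toRingHom) (by
        rw [Ideal.under_def, Ideal.comap_comap, AlgHom.toRingHom_eq_coe, AlgHom.comp_algebraMap,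
          Ideal.under_def, IsScalarTower.algebraMap_eq R T (Localization.Away f), ← Ideal.comap_comap,
          ← Ideal.under_def T, IsLocalization.under_map_of_isPrime_disjoint (Submonoid.powers f) _ ‹_› hd]
        exact hQq)
      exact hproj e g hg (ψ.comp (IsScalarTower.toAlgHom R T _))

end Groth.Agent.CAlg5
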