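import Mathlib

/-! Étale neighbourhoods splitting off all finite parts of a finite type algebra. -/

set_option autoImplicit false
universe u

open TensorProduct

namespace Groth.Agent.CAlg5

variable {R S : Type u} [CommRing R] [CommRing S] [Algebra R S]

/-- Primes over `p` that are minimal among the primes over `p`. -/
def minOver (S : Type u) [CommRing S] [Algebra R S] (p : Ideal R) : Set (Ideal S) :=
  {q | q ∈ p.primesOver S ∧ ∀ q' ∈ p.primesOver S, q' ≤ q → q' = q}

theorem minOver_finite [Algebra.FiniteType R S] (p : Ideal R) [p.IsPrime] :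
    (minOver S p).Finite := by
  have : IsNoetherianRing (p.Fiber S) := Algebra.FiniteType.isNoetherianRing p.ResidueField _
  let α := PrimeSpectrum.primesOverOrderIsoFiber R S p
  have hmin : Set.Finite {x : PrimeSpectrum (p.Fiber S) | x.asIdeal ∈ minimalPrimes (p.Fiber S)} :=
    (minimalPrimes.finite_of_isNoetherianRing (p.Fiber S)).preimage
      (fun _ _ _ _ h => PrimeSpectrum.ext h)
  refine Set.Finite.subset (hmin.image fun x => (α.symm x).1) ?_
  rintro q ⟨hq, hq'⟩
  refine ⟨α ⟨q, hq⟩, ⟨⟨(α ⟨q, hq⟩).2, bot_le⟩, fun y hy hle => ?_⟩, by simp⟩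
  have h1 : α.symm ⟨y, hy.1⟩ ≤ ⟨q, hq⟩ := by
    rw [← α.symm_apply_apply ⟨q, hq⟩]
    exact α.symm.monotone hle
  have h2 : α.symm ⟨y, hy.1⟩ = ⟨q, hq⟩ := Subtype.ext (hq' _ (α.symm ⟨y, hy.1⟩).2 h1)
  rw [← h2, OrderIso.apply_symm_apply]

theorem quasiFiniteAt_mem_minOver (p : Ideal R) (q : Ideal S) [q.IsPrime] [q.LiesOver p]
    [Algebra.QuasiFiniteAt R q] : q ∈ minOver S p := by
  refine ⟨⟨inferInstance, inferInstance⟩, fun q' hq' hle => ?_⟩
  have := hq'.1
  have := hq'.2
  exact Algebra.QuasiFiniteAt.eq_of_le_of_under_eq (R := R) hle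
    ((q'.over_def p).symm.trans (q.over_def p))

/-- The conclusion of the splitting theorem. -/
def HasSplitting (R S : Type u) [CommRing R] [CommRing S] [Algebra R S] (p : Ideal R) [p.IsPrime] :
    Prop :=
  ∃ (R' : Type u) (_ : CommRing R') (_ : Algebra R R') (_ : Algebra.Etale R R') (p' : Ideal R')
      (_ : p'.IsPrime) (_ : p'.LiesOver p) (n : ℕ) (A : Fin n → Type u) (_ : ∀ i, CommRing (A i))
      (_ : ∀ i, Algebra R' (A i)) (B : Type u) (_ : CommRing B) (_ : Algebra R' B),
      Function.Bijective (Ideal.ResidueField.mapₐ p p' (Algebra.ofId _ _) (p'.over_def p)) ∧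
      Nonempty ((R' ⊗[R] S) ≃ₐ[R'] ((∀ i, A i) × B)) ∧
        (∀ i, Module.Finite R' (A i) ∧
          ∃! r : Ideal (A i), r.IsPrime ∧ r.comap (algebraMap R' (A i)) = p') ∧
        ∀ (q : Ideal B) [q.IsPrime], q.comap (algebraMap R' B) = p' →
          ¬ Algebra.QuasiFiniteAt R' q

theorem hasSplitting_of_no_qf (p : Ideal R) [p.IsPrime]
    (h : ∀ (q : Ideal S) [q.IsPrime], q.comap (algebraMap R S) = p → ¬ Algebra.QuasiFiniteAt R q) :
    HasSplitting R S p := by
  have : Algebra.Etale R R := inferInstance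
  refine ⟨R, inferInstance, Algebra.id R, this, p, inferInstance, ⟨rfl⟩, 0, fun _ => R,
    fun _ => inferInstance, fun _ => Algebra.id R, S, inferInstance, inferInstance, ?_, ⟨?_⟩,
    fun i => i.elim0, h⟩
  · exact (RingHom.surjectiveOnStalks_of_surjective (f := algebraMap R R)
      Function.surjective_id).residueFieldMap_bijective _ _ _
  · refine (Algebra.TensorProduct.lid R S).trans (AlgEquiv.ofBijective
      (AlgHom.prod (AlgHom.pi fun i : Fin 0 => (i.elim0 : S →ₐ[R] R)) (AlgHom.id R S))
      ⟨fun a b hab => congrArg Prod.snd hab, fun x => ⟨x.2, Prod.ext (funext fun i => i.elim0) rfl⟩⟩)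

/-- Splitting off one more factor from a product. -/
noncomputable def piConsEquiv {R' : Type u} [CommRing R'] {n : ℕ} (A : Fin (n + 1) → Type u)
    [∀ i, CommRing (A i)] [∀ i, Algebra R' (A i)] :
    (A 0 × ∀ i : Fin n, A i.succ) ≃ₐ[R'] ∀ i, A i where
  toFun x := Fin.cases x.1 x.2
  invFun f := (f 0, fun i => f i.succ)
  left_inv x := rfl
  right_inv f := funext fun i => by cases i using Fin.cases <;> rfl
  map_mul' x y := funext fun i => by cases i using Fin.cases <;> rfl
  map_add' x y := funext fun i => by cases i using Fin.cases <;> rfl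
  commutes' r := funext fun i => by cases i using Fin.cases <;> rfl

/-- Associativity of products of algebras. -/
noncomputable def prodAssocEquiv {R' X Y Z : Type u} [CommRing R'] [CommRing X] [CommRing Y]
    [CommRing Z] [Algebra R' X] [Algebra R' Y] [Algebra R' Z] :
    (X × (Y × Z)) ≃ₐ[R'] (X × Y) × Z where
  toFun x := ((x.1, x.2.1), x.2.2)
  invFun x := (x.1.1, (x.1.2, x.2))
  left_inv _ := rfl
  right_inv _ := rfl
  map_mul' _ _ := rfl
  map_add' _ _ := rfl
  commutes' _ := rfl

theorem hasSplitting_aux : ∀ (k : ℕ) (R S : Type u) [CommRing R] [CommRing S] [Algebra R S]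
    [Algebra.FiniteType R S] (p : Ideal R) [p.IsPrime],
    (minOver S p).ncard ≤ k → HasSplitting R S p := by
  intro k
  induction k with
  | zero =>
    intro R S _ _ _ _ p _ hk
    refine hasSplitting_of_no_qf p fun q _ hq hqf => ?_
    have : q.LiesOver p := ⟨hq.symm⟩
    have h0 := (Set.ncard_eq_zero (minOver_finite (S := S) p)).1 (Nat.le_zero.1 hk)
    exact Set.notMem_empty _ (h0 ▸ quasiFiniteAt_mem_minOver p q)
  | succ k IH =>
    intro R S _ _ _ _ p _ hk
    by_cases hex : ∃ (q : Ideal S) (_ : q.IsPrime), q.comap (algebraMap R S) = p ∧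
        Algebra.QuasiFiniteAt R q
    swap
    · exact hasSplitting_of_no_qf p fun q _ hq hqf => hex ⟨q, ‹_›, hq, hqf⟩
    obtain ⟨q, _, hqp, _⟩ := hex
    have : q.LiesOver p := ⟨hqp.symm⟩
    obtain ⟨R', _, _, _, P, _, _, e, he, P', _, _, hP'q, heP', hbij, hfin, huniq⟩ :=
      Algebra.exists_etale_isIdempotentElem_forall_liesOver_eq p q
    let A₀ := (R' ⊗[R] S) ⧸ Ideal.span {1 - e}
    let B₀ := (R' ⊗[R] S) ⧸ Ideal.span {e}
    have : IsLocalization.Away e A₀ := IsLocalization.Away.quotient_of_isIdempotentElem he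
    have hA₀ : Module.Finite R' A₀ := Module.Finite.equiv
      ((IsLocalization.algEquiv (Submonoid.powers e) (Localization.Away e) A₀).restrictScalars R').toLinearEquiv
    let eT : (R' ⊗[R] S) ≃ₐ[R'] A₀ × B₀ :=
      AlgEquiv.ofBijective ((Ideal.Quotient.mkₐ R' _).prod (Ideal.Quotient.mkₐ R' _))
        (RingHom.prod_bijective_of_isIdempotentElem he.one_sub he (by ring)
          (by rw [sub_mul, one_mul, he.eq, sub_self]))
    let ι := Ideal.fiberIsoOfBijectiveResidueField (S := S) hbij
    -- the prime of the finite factor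
    have hmem : ∀ (Q : Ideal (R' ⊗[R] S)), Q.IsPrime → e ∉ Q → 1 - e ∈ Q := by
      intro Q hQ h
      exact (hQ.mem_or_mem (show e * (1 - e) ∈ Q by
        rw [mul_sub, mul_one, he.eq, sub_self]; exact zero_mem _)).resolve_left h
    have hA₀uniq : ∃! r : Ideal A₀, r.IsPrime ∧ r.comap (algebraMap R' A₀) = P := by
      have hle : Ideal.span {1 - e} ≤ P' := (Ideal.span_singleton_le_iff_mem _).2 (hmem P' ‹_› heP')
      have hcm : (P'.map (Ideal.Quotient.mk (Ideal.span {1 - e}))).comap (Ideal.Quotient.mk _) = P' := by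
        rw [Ideal.comap_map_of_surjective _ Ideal.Quotient.mk_surjective, ← RingHom.ker_eq_comap_bot,
          Ideal.mk_ker, sup_eq_left.2 hle]
      refine ⟨P'.map (Ideal.Quotient.mk (Ideal.span {1 - e})), ⟨?_, ?_⟩, ?_⟩
      · exact Ideal.map_isPrime_of_surjective Ideal.Quotient.mk_surjective (by rwa [Ideal.mk_ker])
      · show Ideal.comap ((Ideal.Quotient.mk _).comp (algebraMap R' (R' ⊗[R] S))) _ = P
        rw [← Ideal.comap_comap, hcm]
        exact (P'.over_def P).symm
      · rintro r ⟨hr, hrP⟩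
        let r' := r.comap (Ideal.Quotient.mk (Ideal.span {1 - e}))
        have h1e : 1 - e ∈ r' := by
          rw [Ideal.mem_comap, Ideal.Quotient.eq_zero_iff_mem.2 (Ideal.mem_span_singleton_self _)]
          exact zero_mem _
        have her : e ∉ r' := fun h =>
          (inferInstance : r'.IsPrime).ne_top ((Ideal.eq_top_iff_one _).2 (by simpa using add_mem h1e h))
        have : r'.LiesOver P := ⟨by rw [← hrP]; exact (Ideal.comap_comap _ _).symm⟩
        rw [← Ideal.map_comap_of_surjective _ Ideal.Quotient.mk_surjective r,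
          show Ideal.comap (Ideal.Quotient.mk (Ideal.span {1 - e})) r = P' from
            huniq r' inferInstance inferInstance her]
    -- counting the minimal primes over `P` in the second factor
    have hcard : (minOver B₀ P).ncard ≤ k := by
      have hover : ∀ Q ∈ P.primesOver B₀,
          Q.comap (Ideal.Quotient.mk (Ideal.span {e})) ∈ P.primesOver (R' ⊗[R] S) := fun Q hQ => by
        have := hQ.1
        exact ⟨inferInstance, ⟨hQ.2.over.trans (Ideal.comap_comap _ _).symm⟩⟩
      classical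
      let g : Ideal B₀ → Ideal S := fun Q =>
        (Q.comap (Ideal.Quotient.mk (Ideal.span {e}))).comap
          (Algebra.TensorProduct.includeRight (R := R) (A := R') (B := S)).toRingHom
      have hg : ∀ Q (hQ : Q ∈ P.primesOver B₀), g Q = (ι ⟨_, hover Q hQ⟩).1 := fun Q hQ =>
        (Ideal.comap_fiberIsoOfBijectiveResidueField_apply hbij ⟨_, hover Q hQ⟩).symm
      have hle : (minOver B₀ P).ncard ≤ (minOver S p \ {q}).ncard := by
        refine Set.ncard_le_ncard_of_injOn g ?_ ?_ ((minOver_finite p).subset Set.sdiff_subset)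
        · intro Q hQ
          refine ⟨⟨hg Q hQ.1 ▸ (ι ⟨_, hover Q hQ.1⟩).2, fun q' hq' hle => ?_⟩, ?_⟩
          · rw [hg Q hQ.1] at hle ⊢
            let Q' := ι.symm ⟨q', hq'⟩
            have hQ' : Q' ≤ ⟨_, hover Q hQ.1⟩ := by
              rw [← ι.symm_apply_apply ⟨_, hover Q hQ.1⟩]
              exact ι.symm.monotone hle
            have := Q'.2.1
            have heQ' : Ideal.span {e} ≤ Q'.1 := by
              rw [Ideal.span_singleton_le_iff_mem]
              by_contra h
              have h1 : 1 - e ∈ Q.comap (Ideal.Quotient.mk (Ideal.span {e})) := hQ' (hmem _ this h)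
              have h2 : e ∈ Q.comap (Ideal.Quotient.mk (Ideal.span {e})) := by
                rw [Ideal.mem_comap, Ideal.Quotient.eq_zero_iff_mem.2 (Ideal.mem_span_singleton_self _)]
                exact zero_mem _
              exact (hover Q hQ.1).1.ne_top
                ((Ideal.eq_top_iff_one _).2 (by simpa using add_mem h1 h2))
            have hcm : (Q'.1.map (Ideal.Quotient.mk (Ideal.span {e}))).comap (Ideal.Quotient.mk _) = Q'.1 := by
              rw [Ideal.comap_map_of_surjective _ Ideal.Quotient.mk_surjective, ← RingHom.ker_eq_comap_bot,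
                Ideal.mk_ker, sup_eq_left.2 heQ']
            have hQ'' : Q'.1.map (Ideal.Quotient.mk (Ideal.span {e})) ∈ P.primesOver B₀ := by
              refine ⟨Ideal.map_isPrime_of_surjective Ideal.Quotient.mk_surjective (by rwa [Ideal.mk_ker]), ⟨?_⟩⟩
              show P = Ideal.comap ((Ideal.Quotient.mk _).comp (algebraMap R' (R' ⊗[R] S))) _
              rw [← Ideal.comap_comap, hcm]
              exact Q'.2.2.over
            have heq := hQ.2 _ hQ'' ((Ideal.map_mono hQ').trans Ideal.map_comap_le)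
            have h3 : Q' = ⟨_, hover Q hQ.1⟩ := Subtype.ext (by rw [← hcm, heq])
            rw [← h3]
            simp [Q']
          · intro h
            rw [Set.mem_singleton_iff, hg Q hQ.1] at h
            have h1 : (⟨_, hover Q hQ.1⟩ : P.primesOver (R' ⊗[R] S)) = ⟨P', ‹_›, ‹_›⟩ := by
              refine ι.injective (Subtype.ext ?_)
              rw [h, Ideal.comap_fiberIsoOfBijectiveResidueField_apply]
              exact hP'q.symm
            refine heP' ?_
            have h2 : Q.comap (Ideal.Quotient.mk (Ideal.span {e})) = P' := congrArg Subtype.val h1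
            rw [← h2, Ideal.mem_comap,
              Ideal.Quotient.eq_zero_iff_mem.2 (Ideal.mem_span_singleton_self _)]
            exact zero_mem _
        · intro Q₁ h₁ Q₂ h₂ h
          rw [hg Q₁ h₁.1, hg Q₂ h₂.1] at h
          exact Ideal.comap_injective_of_surjective _ Ideal.Quotient.mk_surjective
            (congrArg Subtype.val (ι.injective (Subtype.ext h)))
      rw [Set.ncard_sdiff_singleton_of_mem (quasiFiniteAt_mem_minOver p q)] at hle
      omega
    have : Algebra.FiniteType R' B₀ :=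
      .of_surjective (Ideal.Quotient.mkₐ R' (Ideal.span {e})) Ideal.Quotient.mk_surjective
    obtain ⟨R'', _, _, _, P'', _, _, n, A, instC, instA, B, _, _, hbij', ⟨eB⟩, hA, hB⟩ :=
      IH R' B₀ P hcard
    let _ : Algebra R R'' := ((algebraMap R' R'').comp (algebraMap R R')).toAlgebra
    have : IsScalarTower R R' R'' := IsScalarTower.of_algebraMap_eq fun _ => rfl
    have : Algebra.Etale R R'' := Algebra.Etale.comp R R' R''
    have : P''.LiesOver p := Ideal.LiesOver.trans P'' P p
    let A' : Fin (n + 1) → Type u := Fin.cons (R'' ⊗[R'] A₀) A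
    let iT : CommRing (R'' ⊗[R'] A₀) := inferInstance
    let iTA : Algebra R'' (R'' ⊗[R'] A₀) := inferInstance
    let iC : ∀ i, CommRing (A' i) := Fin.cases (motive := fun i => CommRing (A' i)) iT instC
    let iA : ∀ i, Algebra R'' (A' i) := fun i => by
      cases i using Fin.cases with
      | zero => exact iTA
      | succ i => exact instA i
    refine ⟨R'', inferInstance, inferInstance, inferInstance, P'', inferInstance, inferInstance,
      n + 1, A', iC, iA, B, inferInstance, inferInstance, ?_, ⟨?_⟩, ?_, hB⟩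
    · convert! hbij'.comp hbij using 1
      rw [← AlgHom.coe_restrictScalars' R (Ideal.ResidueField.mapₐ P P'' _ _), ← AlgHom.coe_comp]
      congr
      ext
    · let e1 : R'' ⊗[R] S ≃ₐ[R''] R'' ⊗[R'] (R' ⊗[R] S) :=
        (Algebra.TensorProduct.cancelBaseChange R R' R'' R'' S).symm
      let e2 : R'' ⊗[R'] (R' ⊗[R] S) ≃ₐ[R''] ((R'' ⊗[R'] A₀) × (R'' ⊗[R'] B₀)) :=
        (Algebra.TensorProduct.congr AlgEquiv.refl eT).trans
          (Algebra.TensorProduct.prodRight R' R'' R'' A₀ B₀)
      let e3 : ((R'' ⊗[R'] A₀) × (R'' ⊗[R'] B₀)) ≃ₐ[R''] (((R'' ⊗[R'] A₀) × ∀ i, A i) × B) :=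
        (AlgEquiv.prodCongr (AlgEquiv.refl : (R'' ⊗[R'] A₀) ≃ₐ[R''] _) eB).trans prodAssocEquiv
      exact e1.trans (e2.trans (e3.trans (AlgEquiv.prodCongr (piConsEquiv A') AlgEquiv.refl)))
    · intro i
      cases i using Fin.cases with
      | succ i => exact hA i
      | zero =>
        refine ⟨inferInstanceAs (Module.Finite R'' (R'' ⊗[R'] A₀)), ?_⟩
        show ∃! r : Ideal (R'' ⊗[R'] A₀), r.IsPrime ∧ r.comap (algebraMap R'' (R'' ⊗[R'] A₀)) = P''
        let κ := Ideal.fiberIsoOfBijectiveResidueField (S := A₀) hbij'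
        obtain ⟨r, ⟨hr, hrP⟩, hru⟩ := hA₀uniq
        let x := κ.symm ⟨r, hr, ⟨hrP.symm⟩⟩
        refine ⟨x.1, ⟨x.2.1, x.2.2.over.symm⟩, fun y ⟨hy, hyP⟩ => ?_⟩
        have hκ : κ ⟨y, hy, ⟨hyP.symm⟩⟩ = ⟨r, hr, ⟨hrP.symm⟩⟩ :=
          Subtype.ext (hru _ ⟨(κ ⟨y, hy, ⟨hyP.symm⟩⟩).2.1, (κ ⟨y, hy, ⟨hyP.symm⟩⟩).2.2.over.symm⟩)
        exact congrArg Subtype.val ((κ.symm_apply_apply ⟨y, hy, ⟨hyP.symm⟩⟩).symm.trans
          (congrArg κ.symm hκ))

theorem exists_etale_split (R S : Type u) [CommRing R] [CommRing S] [Algebra R S]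
    [Algebra.FiniteType R S] (p : Ideal R) [p.IsPrime] :
    ∃ (R' : Type u) (_ : CommRing R') (_ : Algebra R R') (_ : Algebra.Etale R R') (p' : Ideal R')
      (_ : p'.IsPrime) (_ : p'.LiesOver p) (n : ℕ) (A : Fin n → Type u) (_ : ∀ i, CommRing (A i))
      (_ : ∀ i, Algebra R' (A i)) (B : Type u) (_ : CommRing B) (_ : Algebra R' B),
      Subfield.closure (Set.range (algebraMap R p'.ResidueField)) = ⊤ ∧
      Nonempty ((R' ⊗[R] S) ≃ₐ[R'] ((∀ i, A i) × B)) ∧
        (∀ i, Module.Finite R' (A i) ∧
          ∃! r : Ideal (A i), r.IsPrime ∧ r.comap (algebraMap R' (A i)) = p') ∧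
        ∀ (q : Ideal B) [q.IsPrime], q.comap (algebraMap R' B) = p' →
          ¬ Algebra.QuasiFiniteAt R' q := by
  obtain ⟨R', _, _, _, p', _, _, n, A, _, _, B, _, _, hbij, hiso, hA, hB⟩ :=
    hasSplitting_aux (minOver S p).ncard R S p le_rfl
  refine ⟨R', inferInstance, inferInstance, inferInstance, p', inferInstance, inferInstance, n, A,
    inferInstance, inferInstance, B, inferInstance, inferInstance, ?_, hiso, hA, hB⟩
  let f := Ideal.ResidueField.mapₐ p p' (Algebra.ofId R R') (p'.over_def p)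
  have h1 : Set.range (algebraMap R p'.ResidueField) =
      f.toRingHom '' Set.range (algebraMap (R ⧸ p) p.ResidueField) := by
    rw [← Set.range_comp]
    ext z
    constructor
    · rintro ⟨r, rfl⟩
      exact ⟨Ideal.Quotient.mk p r, f.commutes r⟩
    · rintro ⟨r, rfl⟩
      obtain ⟨r, rfl⟩ := Ideal.Quotient.mk_surjective r
      exact ⟨r, (f.commutes r).symm⟩
  rw [h1, ← RingHom.map_field_closure, IsFractionRing.closure_range_algebraMap]
  exact eq_top_iff.2 fun z _ => by
    obtain ⟨w, rfl⟩ := hbij.2 z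
    exact ⟨w, trivial, rfl⟩

end Groth.Agent.CAlg5
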