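import Groth.Agent.CAlg5.ColimDescent
import Mathlib.RingTheory.FinitePresentation

set_option autoImplicit false

universe u

namespace Groth.Agent.CAlg5

variable (R : Type u) [CommRing R] (S : Type u) [CommRing S] [Algebra R S]

/-- A finitely presented algebra given by a presentation, with a map to `S`. -/
structure FPData : Type u where
  n : ℕ
  rels : Finset (MvPolynomial (Fin n) R)
  pt : Fin n → S
  sol : ∀ t ∈ rels, MvPolynomial.aeval pt t = 0

namespace FPData

variable {R S}

/-- The algebra of an `FPData`. -/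
abbrev Alg (d : FPData R S) : Type u :=
  MvPolynomial (Fin d.n) R ⧸ Ideal.span (d.rels : Set (MvPolynomial (Fin d.n) R))

theorem finitePresentation (d : FPData R S) : Algebra.FinitePresentation R d.Alg :=
  Algebra.FinitePresentation.quotient ⟨d.rels, rfl⟩

theorem span_le (d : FPData R S) :
    Ideal.span (d.rels : Set (MvPolynomial (Fin d.n) R)) ≤ RingHom.ker (MvPolynomial.aeval d.pt) :=
  Ideal.span_le.mpr fun t ht => d.sol t ht

/-- The map to `S`. -/
noncomputable def hom (d : FPData R S) : d.Alg →ₐ[R] S :=
  Ideal.Quotient.liftₐ _ (MvPolynomial.aeval d.pt) fun _ h => d.span_le h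

theorem hom_mk (d : FPData R S) (p : MvPolynomial (Fin d.n) R) :
    d.hom (Ideal.Quotient.mk _ p) = MvPolynomial.aeval d.pt p := rfl

theorem exists_hom (d e : FPData R S) (σ : Fin d.n → Fin e.n) (hσ : ∀ k, e.pt (σ k) = d.pt k)
    (hrel : ∀ t ∈ d.rels, MvPolynomial.rename σ t ∈ e.rels) :
    ∃ h : d.Alg →ₐ[R] e.Alg, e.hom.comp h = d.hom ∧
      ∀ p, h (Ideal.Quotient.mk _ p) = Ideal.Quotient.mk _ (MvPolynomial.rename σ p) := by
  let φ : MvPolynomial (Fin d.n) R →ₐ[R] e.Alg :=
    (Ideal.Quotient.mkₐ R (Ideal.span (e.rels : Set (MvPolynomial (Fin e.n) R)))).comp (MvPolynomial.rename σ)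
  have hφ : Ideal.span (d.rels : Set (MvPolynomial (Fin d.n) R)) ≤ RingHom.ker φ :=
    Ideal.span_le.mpr fun t ht => Ideal.Quotient.eq_zero_iff_mem.mpr (Ideal.subset_span (hrel t ht))
  refine ⟨Ideal.Quotient.liftₐ _ φ fun _ h => hφ h, ?_, fun p => rfl⟩
  refine Ideal.Quotient.algHom_ext R (MvPolynomial.algHom_ext fun k => ?_)
  show e.hom (Ideal.Quotient.mk _ (MvPolynomial.rename σ (MvPolynomial.X k))) = d.hom (Ideal.Quotient.mk _ (MvPolynomial.X k))
  rw [hom_mk, hom_mk, MvPolynomial.rename_X, MvPolynomial.aeval_X, MvPolynomial.aeval_X, hσ]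

/-- Every algebra is the filtered colimit of finitely presented ones. -/
theorem colimSys : ColimSys R (fun d : FPData R S => d.Alg) S hom where
  surj a := by
    refine ⟨⟨1, ∅, fun _ => a, by simp⟩, Ideal.Quotient.mk _ (MvPolynomial.X 0), ?_⟩
    rw [hom_mk, MvPolynomial.aeval_X]
  dir d e := by
    classical
    let c : FPData R S :=
      { n := d.n + e.n
        rels := (d.rels.image (MvPolynomial.rename (Fin.castAdd e.n))) ∪
          (e.rels.image (MvPolynomial.rename (Fin.natAdd d.n)))
        pt := Fin.append d.pt e.pt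
        sol := by
          intro t ht
          simp only [Finset.mem_union, Finset.mem_image] at ht
          rcases ht with ⟨s, hs, rfl⟩ | ⟨s, hs, rfl⟩
          · rw [MvPolynomial.aeval_rename]
            convert d.sol s hs using 3
            funext k; simp
          · rw [MvPolynomial.aeval_rename]
            convert e.sol s hs using 3
            funext k; simp }
    obtain ⟨h1, hh1, -⟩ := exists_hom d c (Fin.castAdd e.n) (fun k => Fin.append_left _ _ _)
      (fun t ht => Finset.mem_union_left _ (Finset.mem_image_of_mem _ ht))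
    obtain ⟨h2, hh2, -⟩ := exists_hom e c (Fin.natAdd d.n) (fun k => Fin.append_right _ _ _)
      (fun t ht => Finset.mem_union_right _ (Finset.mem_image_of_mem _ ht))
    exact ⟨c, ⟨h1, hh1⟩, h2, hh2⟩
  ker d x hx := by
    classical
    obtain ⟨p, rfl⟩ := Ideal.Quotient.mk_surjective x
    let c : FPData R S :=
      { n := d.n
        rels := insert p d.rels
        pt := d.pt
        sol := by
          intro t ht
          rcases Finset.mem_insert.mp ht with rfl | ht
          · exact hx
          · exact d.sol t ht }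
    obtain ⟨h, hh, hp⟩ := exists_hom d c id (fun _ => rfl)
      (fun t ht => by rw [MvPolynomial.rename_id]; exact Finset.mem_insert_of_mem ht)
    refine ⟨c, h, hh, ?_⟩
    rw [hp, MvPolynomial.rename_id, Ideal.Quotient.eq_zero_iff_mem]
    exact Ideal.subset_span (Finset.mem_insert_self p d.rels)
  nonempty := ⟨⟨0, ∅, fun k => k.elim0, by simp⟩⟩

end FPData

end Groth.Agent.CAlg5
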