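import Mathlib

/-!
# Linear equations in a flat algebra which is congruent to the base modulo powers of an ideal
-/

set_option autoImplicit false
set_option maxHeartbeats 400000
universe u

namespace Groth.Agent.CAlg5

open Finset

variable {B Bh : Type u} [CommRing B] [CommRing Bh] [Algebra B Bh]

/-- A completion-like algebra: congruent to the base modulo all powers of `ah = a · Bh`. -/
structure Cong (a : Ideal B) (Bh : Type u) [CommRing Bh] [Algebra B Bh] : Prop where
  surj : ∀ (n : ℕ) (x : Bh), ∃ c : B, x - algebraMap B Bh c ∈ (a.map (algebraMap B Bh)) ^ n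
  inj : ∀ (n : ℕ) (c : B), algebraMap B Bh c ∈ (a.map (algebraMap B Bh)) ^ n → c ∈ a ^ n

theorem exists_solution [Module.Flat B Bh] {n R : ℕ} (v : Fin R → Fin n → B) (x : Fin n → Bh)
    (h : ∀ r, ∑ k, algebraMap B Bh (v r k) * x k = 0) :
    ∃ (N : ℕ) (φ : Fin N → Fin n → B) (y : Fin N → Bh),
      (∀ t r, ∑ k, v r k * φ t k = 0) ∧ ∀ k, x k = ∑ t, algebraMap B Bh (φ t k) * y t := by
  classical
  let f : (Fin R → B) →ₗ[B] (Fin n → B) := Fintype.linearCombination B v
  let X : (Fin n → B) →ₗ[B] Bh := Fintype.linearCombination B x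
  have h0 : X ∘ₗ f = 0 := by
    apply LinearMap.pi_ext'
    intro r
    ext
    simp [f, X, Fintype.linearCombination_apply, Algebra.smul_def, Pi.single_apply, h r]
  obtain ⟨N, a, y, hy, ha⟩ := Module.Flat.exists_factorization_of_comp_eq_zero_of_free h0
  refine ⟨N, fun t k => a (Pi.single k 1) t, fun t => y (Finsupp.single t 1), fun t r => ?_, fun k => ?_⟩
  · have h1 := congrArg (fun (g : Fin N →₀ B) => g t) (LinearMap.congr_fun ha (Pi.single r 1))
    have h2 : (v r : Fin n → B) = ∑ k, v r k • (Pi.single k (1 : B) : Fin n → B) := by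
      ext j; simp [Pi.single_apply]
    simp only [LinearMap.comp_apply, f, Fintype.linearCombination_apply_single, one_smul,
      LinearMap.zero_apply, Finsupp.coe_zero, Pi.zero_apply] at h1
    rw [h2, map_sum, Finsupp.coe_finset_sum, Finset.sum_apply] at h1
    simpa only [map_smul, Finsupp.smul_apply, smul_eq_mul] using h1
  · have h1 := LinearMap.congr_fun hy (Pi.single k 1)
    simp only [X, Fintype.linearCombination_apply_single, one_smul, LinearMap.comp_apply] at h1
    have h2 : a (Pi.single k 1) = ∑ t, a (Pi.single k 1) t • Finsupp.single t (1 : B) := by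
      conv_lhs => rw [← Finsupp.univ_sum_single (a (Pi.single k 1))]
      simp
    rw [h1, h2, map_sum]
    refine Finset.sum_congr rfl fun t _ => ?_
    rw [map_smul, Algebra.smul_def]

theorem exists_pow_le_span {l : ℕ} {a : Ideal B} [IsNoetherianRing B] (g : Fin l → B) (e : Fin l → ℕ)
    {m : ℕ} (hm : a ^ m ≤ Ideal.span (Set.range g)) :
    ∃ k, a ^ k ≤ Ideal.span (Set.range fun i => g i ^ e i) := by
  apply Ideal.exists_pow_le_of_le_radical_of_fg_radical _ (IsNoetherian.noetherian _)
  intro x hx
  have h1 : Ideal.span (Set.range g) ≤ (Ideal.span (Set.range fun i => g i ^ e i)).radical := by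
    rw [Ideal.span_le]
    rintro _ ⟨i, rfl⟩
    exact ⟨e i, Ideal.subset_span ⟨i, rfl⟩⟩
  rw [← Ideal.radical_idem (Ideal.span (Set.range fun i => g i ^ e i))]
  exact ⟨m, h1 (hm (Ideal.pow_mem_pow hx m))⟩

variable {a : Ideal B} {l : ℕ} (b : Fin l → B)

theorem exists_approx (hc : Cong a Bh) {k : ℕ} (hk : a ^ k ≤ Ideal.span (Set.range b)) (x : Bh) :
    ∃ (c : B) (β : Fin l → Bh), x = algebraMap B Bh c + ∑ i, β i * algebraMap B Bh (b i) := by
  obtain ⟨c, hcm⟩ := hc.surj k x
  rw [← Ideal.map_pow] at hcm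
  have h1 := Ideal.map_mono hk hcm
  rw [Ideal.map_span, ← Set.range_comp] at h1
  obtain ⟨β, hβ⟩ := Submodule.mem_span_range_iff_exists_fun Bh |>.mp h1
  refine ⟨c, β, ?_⟩
  simp only [smul_eq_mul, Function.comp_apply] at hβ
  rw [hβ]; ring

/-- Elements killed by the `b i` come from the base. -/
theorem exists_of_killed [Module.Flat B Bh] (hc : Cong a Bh) {k : ℕ} (hk : a ^ k ≤ Ideal.span (Set.range b))
    (x : Bh) (hx : ∀ i, algebraMap B Bh (b i) * x = 0) : ∃ c : B, x = algebraMap B Bh c := by
  obtain ⟨N, φ, y, hφ, hy⟩ := exists_solution (fun i (_ : Fin 1) => b i) (fun _ => x)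
    (fun i => by simpa using hx i)
  choose c β hcβ using fun t => exists_approx b hc hk (y t)
  refine ⟨∑ t, φ t 0 * c t, ?_⟩
  rw [hy 0, map_sum]
  refine Finset.sum_congr rfl fun t _ => ?_
  rw [hcβ t, mul_add, map_mul, Finset.mul_sum, Finset.sum_eq_zero, add_zero]
  intro i _
  have h := hφ t i
  simp only [Fin.sum_univ_one] at h
  have h' := congrArg (algebraMap B Bh) h
  rw [map_mul, map_zero] at h'
  linear_combination β t i * h'

/-- An element whose multiples by the `b i` come from the base comes from it up to a factor in `1 + a`. -/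
theorem exists_colon [Module.Flat B Bh] (hc : Cong a Bh) {k : ℕ} (hk : a ^ k ≤ Ideal.span (Set.range b))
    (x : Bh) (w : Fin l → B) (hx : ∀ i, algebraMap B Bh (b i) * x = algebraMap B Bh (w i)) :
    ∃ f β : B, f - 1 ∈ a ∧ algebraMap B Bh f * x = algebraMap B Bh β := by
  obtain ⟨N, φ, y, hφ, hy⟩ := exists_solution (fun i => ![b i, -w i]) ![x, 1]
    (fun i => by simp [Fin.sum_univ_two, hx i])
  choose c hcy using fun t => hc.surj 1 (y t)
  let f := ∑ t, φ t 1 * c t
  let β₀ := ∑ t, φ t 0 * c t
  have hf : f - 1 ∈ a := by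
    have h1 : algebraMap B Bh (f - 1) ∈ (a.map (algebraMap B Bh)) ^ 1 := by
      have h := hy 1
      simp only [Matrix.cons_val_one, Matrix.cons_val_zero] at h
      rw [map_sub, map_one, h, map_sum, ← Finset.sum_sub_distrib]
      refine Ideal.sum_mem _ fun t _ => ?_
      rw [map_mul, ← mul_sub]
      exact Ideal.mul_mem_left _ _ (by simpa using neg_mem (hcy t))
    simpa using hc.inj 1 _ h1
  have hτ : ∀ i, algebraMap B Bh (b i) * (algebraMap B Bh f * x - algebraMap B Bh β₀) = 0 := by
    intro i
    have hw : w i * f = b i * β₀ := by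
      rw [Finset.mul_sum, Finset.mul_sum]
      refine Finset.sum_congr rfl fun t _ => ?_
      have h := hφ t i
      simp only [Fin.sum_univ_two, Matrix.cons_val_zero, Matrix.cons_val_one] at h
      linear_combination -(c t) * h
    have h' := congrArg (algebraMap B Bh) hw
    rw [map_mul, map_mul] at h'
    linear_combination algebraMap B Bh f * hx i + h'
  obtain ⟨τ, hτ'⟩ := exists_of_killed b hc hk _ hτ
  exact ⟨f, β₀ + τ, hf, by rw [map_add, ← hτ']; ring⟩

end Groth.Agent.CAlg5
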