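import Groth.Agent.CAlg1.GRingBasic
import Groth.Agent.EGA4H10.DedekindExc
import Groth.Agent.EGA4H10.FormalFibreEFT
import Groth.Agent.Henz21.FiniteLocal
import Groth.Agent.Henz21.Unique

/-!
# Henselian local rings as unions of henselian local G-rings
-/

set_option autoImplicit false
set_option maxHeartbeats 400000
universe u

open IsLocalRing

namespace Groth.Agent.CAlg5

theorem isGRing_ulift_int : CAlg.IsGRing (ULift.{u} ℤ) := by
  have : IsPrincipalIdealRing (ULift.{u} ℤ) := IsPrincipalIdealRing.of_surjective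
    (ULift.ringEquiv.symm : ℤ ≃+* ULift.{u} ℤ).toRingHom (ULift.ringEquiv.symm : ℤ ≃+* ULift.{u} ℤ).surjective
  have : CharZero (ULift.{u} ℤ) := charZero_of_injective_ringHom
    (f := (ULift.ringEquiv.symm : ℤ ≃+* ULift.{u} ℤ).toRingHom) (ULift.ringEquiv.symm : ℤ ≃+* ULift.{u} ℤ).injective
  have : IsDomain (ULift.{u} ℤ) := ULift.ringEquiv.toMulEquiv.isDomain
  exact (EGA4H10.isExcellent_of_isDedekindDomain (ULift.{u} ℤ)).2.2.1

variable (A : Type u) [CommRing A] [HenselianLocalRing A]

/-- The polynomial ring of a finite set of elements. -/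
abbrev Pol (s : Finset A) : Type u := MvPolynomial ↥s (ULift.{u} ℤ)

noncomputable def evPol (s : Finset A) : Pol A s →+* A :=
  MvPolynomial.eval₂Hom ((Int.castRingHom A).comp ULift.ringEquiv.toRingHom) (fun x => (x : A))

noncomputable abbrev pr (s : Finset A) : Ideal (Pol A s) := (maximalIdeal A).comap (evPol A s)

theorem exists_stage (s : Finset A) :
    ∃ T : Subring A, CAlg.IsGRing T ∧ HenselianLocalRing T ∧ IsLocalHom T.subtype ∧ (∀ a ∈ s, a ∈ T) ∧
      ∀ (U : Subring A), HenselianLocalRing U → IsLocalHom U.subtype → (∀ a ∈ s, a ∈ U) → T ≤ U := by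
  classical
  have hP : CAlg.IsGRing (Pol A s) := EGA4H10.isGRing_of_finiteType_gRing _ isGRing_ulift_int _
  have hR : CAlg.IsGRing (Localization.AtPrime (pr A s)) :=
    EGA4H10.isGRing_localization hP (pr A s).primeCompl
  have := hR.1
  let g : Localization.AtPrime (pr A s) →+* A := IsLocalization.lift (M := (pr A s).primeCompl)
    (g := evPol A s) fun y => by
      by_contra hy
      exact y.2 hy
  have hg : ∀ x, g (algebraMap (Pol A s) _ x) = evPol A s x := fun x => IsLocalization.lift_eq _ x
  have hgloc : IsLocalHom g := ⟨fun x hx => by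
    obtain ⟨a, t, rfl⟩ := IsLocalization.exists_mk'_eq (pr A s).primeCompl x
    rw [IsLocalization.AtPrime.isUnit_mk'_iff _ (pr A s)]
    intro hmem
    have h1 : g (IsLocalization.mk' _ a t) * g (algebraMap (Pol A s) _ (t : Pol A s)) =
        g (algebraMap (Pol A s) _ a) := by
      rw [← map_mul, IsLocalization.mk'_spec]
    rw [hg, hg] at h1
    have h2 : IsUnit (evPol A s (t : Pol A s)) := by
      by_contra hy
      exact t.2 hy
    exact hmem (h1 ▸ hx.mul h2)⟩
  obtain ⟨H, _, _, _, _, hH⟩ := (⟨Henz21.Henselization (Localization.AtPrime (pr A s)), inferInstance,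
    inferInstance, inferInstance, inferInstance, inferInstance⟩ :
    ∃ (S : Type u) (_ : CommRing S) (_ : IsLocalRing S) (_ : Algebra (Localization.AtPrime (pr A s)) S)
      (_ : IsLocalHom (algebraMap (Localization.AtPrime (pr A s)) S)),
      Hensel.IsHenselization (Localization.AtPrime (pr A s)) S)
  have := hH.henselian
  have hHG := CAlg1.GR.isGRing_henselization (S := H) hR
  obtain ⟨φ, hφ, -⟩ := hH.universal A g hgloc
  have hφloc : IsLocalHom φ := ⟨fun x hx => by
    by_contra hnu
    have hxm : x ∈ maximalIdeal H := hnu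
    rw [← Henz21.henselization_map_maximalIdeal (R := Localization.AtPrime (pr A s)) H] at hxm
    have h2 := Ideal.mem_map_of_mem φ hxm
    rw [Ideal.map_map, hφ] at h2
    have h3 : (maximalIdeal (Localization.AtPrime (pr A s))).map g ≤ maximalIdeal A :=
      ((IsLocalRing.local_hom_TFAE g).out 0 2).mp hgloc
    exact h3 h2 hx⟩
  have hsur : Function.Surjective φ.rangeRestrict := φ.rangeRestrict_surjective
  letI : Algebra H φ.range := φ.rangeRestrict.toAlgebra
  have : IsLocalRing φ.range := IsLocalRing.of_surjective' φ.rangeRestrict hsur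
  have : Algebra.IsIntegral H φ.range := ⟨fun y => by
    obtain ⟨x, rfl⟩ := hsur y
    exact isIntegral_algebraMap⟩
  refine ⟨φ.range, ?_, Henz21.henselianLocalRing_of_isIntegral (A := H), ⟨fun x hx => ?_⟩, fun a ha => ?_, ?_⟩
  · exact EGA4H10.isGRing_of_ringEquiv (RingHom.quotientKerEquivRange φ)
      (EGA4H10.isGRing_of_finiteType_gRing H hHG (H ⧸ RingHom.ker φ))
  · obtain ⟨y, rfl⟩ := hsur x
    exact (hφloc.1 y hx).map φ.rangeRestrict
  · refine ⟨algebraMap _ H (algebraMap (Pol A s) (Localization.AtPrime (pr A s)) (MvPolynomial.X ⟨a, ha⟩)), ?_⟩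
    rw [← RingHom.comp_apply, hφ, hg]
    exact MvPolynomial.eval₂Hom_X' _ _ _
  · intro U hU hUloc hsU
    have hev : ∀ x, evPol A s x ∈ U := fun x => by
      induction x using MvPolynomial.induction_on with
      | C n => rw [evPol, MvPolynomial.eval₂Hom_C]; exact intCast_mem U _
      | add p q hp hq => rw [map_add]; exact U.add_mem hp hq
      | mul_X p n hp => rw [map_mul]; exact U.mul_mem hp (by rw [evPol, MvPolynomial.eval₂Hom_X']; exact hsU _ n.2)
    have hgU : ∀ x, g x ∈ U := fun x => by
      obtain ⟨a, t, rfl⟩ := IsLocalization.exists_mk'_eq (pr A s).primeCompl x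
      have ht : IsUnit (⟨evPol A s (t : Pol A s), hev _⟩ : U) := hUloc.1 _ (by
        show IsUnit (evPol A s (t : Pol A s))
        by_contra hy
        exact t.2 hy)
      obtain ⟨v, hv⟩ := ht
      have h1 : g (IsLocalization.mk' _ a t) * evPol A s (t : Pol A s) = evPol A s a := by
        rw [← hg, ← map_mul, IsLocalization.mk'_spec, hg]
      have hv' : ((v : U) : A) = evPol A s (t : Pol A s) := congrArg Subtype.val hv
      have h2 : g (IsLocalization.mk' _ a t) = evPol A s a * ((↑v⁻¹ : U) : A) := by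
        rw [← h1, mul_assoc, ← hv', ← Subring.coe_mul, Units.mul_inv, Subring.coe_one, mul_one]
      rw [h2]
      exact U.mul_mem (hev a) (↑v⁻¹ : U).2
    let gU : Localization.AtPrime (pr A s) →+* U := g.codRestrict U hgU
    have hgUloc : IsLocalHom gU := ⟨fun x hx => hgloc.1 x (hx.map U.subtype)⟩
    obtain ⟨ψ, hψ, -⟩ := hH.universal U gU hgUloc
    obtain ⟨_, -, uni⟩ := hH.universal A g hgloc
    have he : U.subtype.comp ψ = φ := (uni _ (by
      show (U.subtype.comp ψ).comp _ = g
      rw [RingHom.comp_assoc, hψ]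
      rfl)).trans (uni _ hφ).symm
    rintro _ ⟨x, rfl⟩
    rw [← he]
    exact (ψ x).2

end Groth.Agent.CAlg5
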