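import Mathlib

/-! The complement of a locally idempotent localization. -/

set_option autoImplicit false
universe u

namespace Groth.Agent.CAlg5

variable {A : Type u} [CommRing A]

/-- Elements killed, at every `g ∈ G`, after multiplication with any element of `J`. -/
def locAnn (G : Finset A) (J : Ideal A) : Ideal A where
  carrier := {a | ∀ x ∈ J, ∀ g ∈ G, algebraMap A (Localization.Away g) (a * x) = 0}
  add_mem' {a b} ha hb x hx g hg := by rw [add_mul, map_add, ha x hx g hg, hb x hx g hg, add_zero]
  zero_mem' x _ g _ := by rw [zero_mul, map_zero]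
  smul_mem' c a ha x hx g hg := by rw [smul_eq_mul, mul_assoc, map_mul, ha x hx g hg, mul_zero]

theorem away_eq_zero_of_mem_span (G : Finset A) (b : A)
    (h : ∀ g ∈ G, algebraMap A (Localization.Away g) b = 0) (f : A) (hf : f ∈ Ideal.span (G : Set A)) :
    algebraMap A (Localization.Away f) b = 0 := by
  have hle : Ideal.span (G : Set A) ≤
      Ideal.radical (LinearMap.ker (LinearMap.toSpanSingleton A A b) : Ideal A) := by
    refine Ideal.span_le.2 fun g hg => ?_
    obtain ⟨⟨_, n, rfl⟩, hn⟩ :=
      (IsLocalization.map_eq_zero_iff (Submonoid.powers g) _ b).1 (h g (Finset.mem_coe.1 hg))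
    exact ⟨n, by simpa using hn⟩
  obtain ⟨n, hn⟩ := hle hf
  exact (IsLocalization.map_eq_zero_iff (Submonoid.powers f) _ b).2
    ⟨⟨_, n, rfl⟩, by simpa using hn⟩

theorem exists_quotient_complement (I : Ideal A) (hI : I.FG) (C : Type u) [CommRing C] [Algebra A C]
    (h : ∀ f ∈ I, ∃ e : Localization.Away f, IsIdempotentElem e ∧
      IsLocalization.Away e (Localization (Algebra.algebraMapSubmonoid C (Submonoid.powers f)))) :
    ∃ K : Ideal A, ∀ f ∈ I, Function.Bijective
      (algebraMap (Localization.Away f)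
        (Localization (Algebra.algebraMapSubmonoid (C × (A ⧸ K)) (Submonoid.powers f)))) := by
  classical
  let J : Ideal A := RingHom.ker (algebraMap A C)
  -- the local data at an element of `I`
  have hloc : ∀ f ∈ I, ∃ e : Localization.Away f, IsIdempotentElem e ∧
      (∀ x ∈ J, algebraMap A (Localization.Away f) x * e = 0) ∧
      (∃ w ∈ J, ∃ u : (Localization.Away f)ˣ, algebraMap A _ w = u * (1 - e)) ∧
      (∀ c : C, ∃ t : Localization.Away f,
        algebraMap (Localization.Away f) (Localization (Algebra.algebraMapSubmonoid C (Submonoid.powers f))) t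
          = algebraMap C _ c) ∧
      algebraMap (Localization.Away f)
        (Localization (Algebra.algebraMapSubmonoid C (Submonoid.powers f))) e = 1 := by
    intro f hf
    obtain ⟨e, he, hM⟩ := h f hf
    let L := Localization.Away f
    let M := Localization (Algebra.algebraMapSubmonoid C (Submonoid.powers f))
    have he1 : algebraMap L M e = 1 := by
      have h1 : IsUnit (algebraMap L M e) := IsLocalization.Away.algebraMap_isUnit e
      exact (IsIdempotentElem.iff_eq_one_of_isUnit h1).1 (he.map (algebraMap L M))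
    have hker : ∀ t : L, algebraMap L M t = 0 → t * e = 0 := by
      intro t ht
      obtain ⟨⟨_, n, rfl⟩, hn⟩ := (IsLocalization.map_eq_zero_iff (Submonoid.powers e) M t).1 ht
      calc t * e = t * e ^ (n + 1) := by rw [he.pow_succ_eq n]
        _ = e ^ n * t * e := by ring
        _ = 0 := by rw [show e ^ n * t = 0 from hn, zero_mul]
    have hJ : ∀ x ∈ J, algebraMap A L x * e = 0 := fun x hx => hker _ (by
      rw [← IsScalarTower.algebraMap_apply A L M, IsScalarTower.algebraMap_apply A C M,
        RingHom.mem_ker.1 hx, map_zero])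
    refine ⟨e, he, hJ, ?_, fun c => ?_, he1⟩
    · obtain ⟨w, ⟨_, r, rfl⟩, hw⟩ := IsLocalization.exists_mk'_eq (Submonoid.powers f) (1 - e : L)
      rw [IsLocalization.mk'_eq_iff_eq_mul] at hw
      have hw0 : algebraMap C M (algebraMap A C w) = 0 := by
        rw [← IsScalarTower.algebraMap_apply A C M, IsScalarTower.algebraMap_apply A L M, hw, map_mul,
          map_sub, map_one, he1, sub_self, zero_mul]
      obtain ⟨⟨_, _, ⟨s, rfl⟩, rfl⟩, hs⟩ :=
        (IsLocalization.map_eq_zero_iff (Algebra.algebraMapSubmonoid C (Submonoid.powers f)) M _).1 hw0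
      refine ⟨f ^ s * w, RingHom.mem_ker.2 (by rw [map_mul]; exact hs), ?_⟩
      have hu : IsUnit (algebraMap A L (f ^ (r + s))) := by
        rw [map_pow]; exact (IsLocalization.Away.algebraMap_isUnit f).pow _
      refine ⟨hu.unit, ?_⟩
      rw [IsUnit.unit_spec]
      show algebraMap A L (f ^ s * w) = algebraMap A L (f ^ (r + s)) * (1 - e)
      rw [map_mul, hw, pow_add, map_mul]
      ring
    · obtain ⟨⟨t, _, n, rfl⟩, ht⟩ := IsLocalization.surj (Submonoid.powers e) (algebraMap C M c)
      refine ⟨t, ?_⟩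
      have ht2 : algebraMap C M c * (algebraMap L M e) ^ n = algebraMap L M t := by
        rw [← map_pow]; exact ht
      rw [he1, one_pow, mul_one] at ht2
      exact ht2.symm
  obtain ⟨G, hG⟩ := hI
  have hGI : ∀ g ∈ G, g ∈ I := fun g hg => hG ▸ Ideal.subset_span (Finset.mem_coe.2 hg)
  refine ⟨locAnn G J, fun f hf => ?_⟩
  let L := Localization.Away f
  let K := locAnn G J
  obtain ⟨e, he, hJe, ⟨w, hwJ, u, hwu⟩, hsurj, he1⟩ := hloc f hf
  have hK : ∀ a ∈ K, algebraMap A L a * (1 - e) = 0 := by
    intro a ha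
    have h1 : algebraMap A L (a * w) = 0 :=
      away_eq_zero_of_mem_span G _ (fun g hg => ha w hwJ g hg) f (hG ▸ hf)
    rw [map_mul, hwu, mul_left_comm] at h1
    exact u.isUnit.mul_right_eq_zero.1 h1
  have hKrev : ∀ a : A, algebraMap A L a * (1 - e) = 0 → ∃ N, f ^ N * a ∈ K := by
    intro a ha
    have hN : ∀ g ∈ G, ∃ w ∈ J, ∃ u : (Localization.Away g)ˣ, ∃ eg : Localization.Away g,
        (∀ x ∈ J, algebraMap A (Localization.Away g) x * eg = 0) ∧
        algebraMap A _ w = u * (1 - eg) ∧ ∃ N, f ^ N * (a * w) = 0 := by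
      intro g hg
      obtain ⟨eg, -, hJg, ⟨wg, hwg, ug, hwug⟩, -, -⟩ := hloc g (hGI g hg)
      refine ⟨wg, hwg, ug, eg, hJg, hwug, ?_⟩
      have h0 : algebraMap A L (a * wg) = 0 := by
        calc algebraMap A L (a * wg) = algebraMap A L a * (1 - e) * algebraMap A L wg
              + algebraMap A L a * (algebraMap A L wg * e) := by rw [map_mul]; ring
          _ = 0 := by rw [ha, hJe wg hwg]; ring
      obtain ⟨⟨_, N, rfl⟩, hN⟩ := (IsLocalization.map_eq_zero_iff (Submonoid.powers f) L _).1 h0
      exact ⟨N, hN⟩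
    choose! wg hwg ug eg hJg hwug N hN using hN
    refine ⟨G.sup N, fun x hx g hg => ?_⟩
    have h1 : f ^ G.sup N * (a * wg g) = 0 :=
      pow_mul_eq_zero_of_le (Finset.le_sup hg) (hN g hg)
    have h2 : algebraMap A (Localization.Away g) (f ^ G.sup N * a) * (1 - eg g) = 0 := by
      have h3 := congrArg (algebraMap A (Localization.Away g)) h1
      rw [← mul_assoc, map_mul, hwug g hg, map_zero, mul_left_comm] at h3
      exact (ug g).isUnit.mul_right_eq_zero.1 h3
    calc algebraMap A (Localization.Away g) (f ^ G.sup N * a * x)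
        = algebraMap A (Localization.Away g) (f ^ G.sup N * a) * (1 - eg g) * algebraMap A _ x
          + algebraMap A (Localization.Away g) (f ^ G.sup N * a) * (algebraMap A _ x * eg g) := by
          rw [map_mul]; ring
      _ = 0 := by rw [h2, hJg g hg x hx]; ring
  let P := C × (A ⧸ K)
  let T := Localization (Algebra.algebraMapSubmonoid P (Submonoid.powers f))
  show Function.Bijective (algebraMap L T)
  constructor
  · rw [injective_iff_map_eq_zero]
    intro t ht
    obtain ⟨a, ⟨_, n, rfl⟩, rfl⟩ := IsLocalization.exists_mk'_eq (Submonoid.powers f) t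
    have ht' : algebraMap P T (algebraMap A P a) = 0 := by
      rw [← IsScalarTower.algebraMap_apply A P T, IsScalarTower.algebraMap_apply A L T,
        ← IsLocalization.mk'_spec L a (⟨f ^ n, n, rfl⟩ : Submonoid.powers f), map_mul, ht, zero_mul]
    obtain ⟨⟨_, _, ⟨m, rfl⟩, rfl⟩, hm⟩ :=
      (IsLocalization.map_eq_zero_iff (Algebra.algebraMapSubmonoid P (Submonoid.powers f)) T _).1 ht'
    rw [← map_mul] at hm
    have h1 : f ^ m * a ∈ J := RingHom.mem_ker.2 (congrArg Prod.fst hm)
    have h2 : f ^ m * a ∈ K := Ideal.Quotient.eq_zero_iff_mem.1 (congrArg Prod.snd hm)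
    have h3 : algebraMap A L (f ^ m * a) = 0 := by
      linear_combination hJe _ h1 + hK _ h2
    rw [map_mul] at h3
    have h4 : algebraMap A L a = 0 := by
      refine (((IsLocalization.Away.algebraMap_isUnit f).pow m).mul_right_eq_zero).1 ?_
      rwa [← map_pow]
    exact IsLocalization.mk'_eq_zero_iff .. |>.2
      ((IsLocalization.map_eq_zero_iff (Submonoid.powers f) L a).1 h4)
  · intro y
    obtain ⟨⟨c, qa⟩, ⟨_, _, ⟨n, rfl⟩, rfl⟩, rfl⟩ :=
      IsLocalization.exists_mk'_eq (Algebra.algebraMapSubmonoid P (Submonoid.powers f)) y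
    obtain ⟨a, rfl⟩ := Ideal.Quotient.mk_surjective qa
    obtain ⟨t, ht⟩ := hsurj c
    obtain ⟨d, ⟨_, m, rfl⟩, hd⟩ :=
      IsLocalization.exists_mk'_eq (Submonoid.powers f) (e * t + (1 - e) * algebraMap A L a : L)
    rw [IsLocalization.mk'_eq_iff_eq_mul] at hd
    let M := Localization (Algebra.algebraMapSubmonoid C (Submonoid.powers f))
    have hC : algebraMap C M (algebraMap A C d) = algebraMap C M (algebraMap A C (f ^ m) * c) := by
      rw [← IsScalarTower.algebraMap_apply A C M, map_mul, ← IsScalarTower.algebraMap_apply A C M,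
        IsScalarTower.algebraMap_apply A L M, IsScalarTower.algebraMap_apply A L M (f ^ m), hd, map_mul,
        map_add, map_mul, map_mul, map_sub, map_one, he1, ht]
      ring
    obtain ⟨⟨_, _, ⟨k₁, rfl⟩, rfl⟩, hk₁⟩ :=
      (IsLocalization.eq_iff_exists (Algebra.algebraMapSubmonoid C (Submonoid.powers f)) M).1 hC
    obtain ⟨k₂, hk₂⟩ := hKrev (d - f ^ m * a) (by
      rw [map_sub, map_mul, hd]
      have he0 : e * (1 - e) = 0 := by rw [mul_sub, mul_one, he.eq, sub_self]
      linear_combination (algebraMap A L (f ^ m) * (t - algebraMap A L a)) * he0)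
    refine ⟨IsLocalization.mk' L d (⟨f ^ (m + n), m + n, rfl⟩ : Submonoid.powers f), ?_⟩
    rw [IsLocalization.eq_mk'_iff_mul_eq, ← IsScalarTower.algebraMap_apply A P T,
      IsScalarTower.algebraMap_apply A L T (f ^ n), ← map_mul]
    have hu : IsUnit (algebraMap A T (f ^ m)) := by
      rw [IsScalarTower.algebraMap_apply A L T, map_pow]
      exact ((IsLocalization.Away.algebraMap_isUnit f).pow _).map _
    refine hu.mul_left_injective ?_
    show algebraMap L T _ * algebraMap A T (f ^ m) = algebraMap P T _ * algebraMap A T (f ^ m)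
    rw [IsScalarTower.algebraMap_apply A L T (f ^ m), ← map_mul, mul_assoc, ← map_mul, ← pow_add,
      show n + m = m + n by omega, IsLocalization.mk'_spec L d (⟨f ^ (m + n), m + n, rfl⟩ : Submonoid.powers f),
      ← IsScalarTower.algebraMap_apply A L T, ← IsScalarTower.algebraMap_apply A L T,
      IsScalarTower.algebraMap_apply A P T, IsScalarTower.algebraMap_apply A P T, ← map_mul]
    refine (IsLocalization.eq_iff_exists (Algebra.algebraMapSubmonoid P (Submonoid.powers f)) T).2
      ⟨⟨algebraMap A P (f ^ (k₁ + k₂)), _, ⟨k₁ + k₂, rfl⟩, rfl⟩, Prod.ext ?_ ?_⟩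
    · show algebraMap A C (f ^ (k₁ + k₂)) * algebraMap A C d
        = algebraMap A C (f ^ (k₁ + k₂)) * (c * algebraMap A C (f ^ m))
      rw [pow_add, map_mul]
      linear_combination algebraMap A C (f ^ k₂) * hk₁
    · show algebraMap A (A ⧸ K) (f ^ (k₁ + k₂)) * algebraMap A (A ⧸ K) d
        = algebraMap A (A ⧸ K) (f ^ (k₁ + k₂)) * (Ideal.Quotient.mk K a * algebraMap A (A ⧸ K) (f ^ m))
      simp only [Ideal.Quotient.algebraMap_eq, ← map_mul]
      rw [Ideal.Quotient.eq]
      have := Ideal.mul_mem_left K (f ^ k₁) hk₂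
      convert this using 1
      ring

end Groth.Agent.CAlg5
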