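import Groth.Agent.FlatStage64.Syzygy

/-! A flat finitely presented module comes from a finite type `ℤ`-algebra. -/

set_option autoImplicit false
set_option linter.style.haveILetI false

universe u

open TensorProduct

namespace Groth.Agent.CAlg5

theorem exists_int_algebra_model {A B : Type u} [CommRing A] [CommRing B] [Algebra A B]
    [Algebra.FinitePresentation A B] {t : Set B} (ht : t.Finite) :
    ∃ (A₀ : Subalgebra ℤ A) (B₀ : Type u) (_ : CommRing B₀) (_ : Algebra A₀ B₀)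
      (e : A ⊗[A₀] B₀ ≃ₐ[A] B), Algebra.FiniteType ℤ A₀ ∧ Algebra.FinitePresentation A₀ B₀ ∧
        t ⊆ Set.range (fun b : B₀ => e (1 ⊗ₜ b)) := by
  classical
  let P := Algebra.Presentation.ofFinitePresentation A B
  choose g hg using fun b : B => P.toGenerators.algebraMap_surjective b
  let cs : Set A := P.coeffs ∪ ⋃ b ∈ t, ((g b).coeffs : Set A)
  have hcs : cs.Finite := P.finite_coeffs.union (ht.biUnion fun b _ => Finset.finite_toSet _)
  let A₀ : Subalgebra ℤ A := Algebra.adjoin ℤ cs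
  have : Algebra.FiniteType ℤ A₀ := .adjoin_of_finite hcs
  have : P.HasCoeffs A₀ := ⟨fun x hx => ⟨⟨x, Algebra.subset_adjoin (Or.inl hx)⟩, rfl⟩⟩
  refine ⟨A₀, P.ModelOfHasCoeffs A₀, inferInstance, inferInstance, P.tensorModelOfHasCoeffsEquiv A₀,
    inferInstance, inferInstance, fun b hb => ?_⟩
  obtain ⟨y, hy⟩ : g b ∈ Set.range (MvPolynomial.map (algebraMap A₀ A)) := by
    rw [MvPolynomial.mem_range_map_iff_coeffs_subset]
    intro x hx
    exact ⟨⟨x, Algebra.subset_adjoin (Or.inr (Set.mem_biUnion hb hx))⟩, rfl⟩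
  refine ⟨Ideal.Quotient.mk _ y, ?_⟩
  show P.tensorModelOfHasCoeffsEquiv A₀ (1 ⊗ₜ Ideal.Quotient.mk _ y) = b
  rw [P.tensorModelOfHasCoeffsEquiv_tmul, map_one, one_mul, ← MvPolynomial.aeval_map_algebraMap A, hy]
  rw [← P.algebraMap_apply]
  exact hg b

theorem core_model {A₀ C R B₀ B₁ S : Type u} [CommRing A₀] [CommRing C] [CommRing R] [CommRing B₀]
    [CommRing B₁] [CommRing S] [Algebra A₀ C] [Algebra A₀ B₀] [Algebra A₀ B₁] [Algebra C B₁] [Algebra B₀ B₁]
    [IsScalarTower A₀ C B₁] [IsScalarTower A₀ B₀ B₁] [Algebra.IsPushout A₀ C B₀ B₁]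
    [Algebra C R] [Algebra R S] [Algebra C S] [IsScalarTower C R S] [Algebra B₁ S] [IsScalarTower C B₁ S]
    [Algebra B₀ S] [IsScalarTower B₀ B₁ S]
    (hZ : Algebra.FiniteType ℤ C) [Algebra.FiniteType C B₁] (hp : Algebra.IsPushout C R B₁ S)
    {M : Type u} [AddCommGroup M] [Module S M] {M₀ : Type u} [AddCommGroup M₀] [Module B₀ M₀]
    [Module A₀ M₀] [IsScalarTower A₀ B₀ M₀] [Module.Finite B₀ M₀] [Module.Flat C (C ⊗[A₀] M₀)]
    (eM : M ≃ₗ[S] S ⊗[B₀] M₀) :
    ∃ (R₀ : Type u) (_ : CommRing R₀) (_ : Algebra R₀ R) (S₀ : Type u) (_ : CommRing S₀)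
      (_ : Algebra R₀ S₀) (_ : Algebra S₀ S) (_ : Algebra R₀ S) (_ : IsScalarTower R₀ R S)
      (_ : IsScalarTower R₀ S₀ S) (M₀ : Type u) (_ : AddCommGroup M₀) (_ : Module S₀ M₀)
      (_ : Module R₀ M₀) (_ : IsScalarTower R₀ S₀ M₀) (_ : Module S₀ M) (_ : IsScalarTower S₀ S M)
      (f : M₀ →ₗ[S₀] M),
      Algebra.FiniteType ℤ R₀ ∧ Algebra.FiniteType R₀ S₀ ∧ Module.Finite S₀ M₀ ∧ Module.Flat R₀ M₀ ∧
        Algebra.IsPushout R₀ R S₀ S ∧ IsBaseChange S f := by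
  letI : Module B₁ M := Module.compHom M (algebraMap B₁ S)
  haveI : IsScalarTower B₁ S M := IsScalarTower.of_algebraMap_smul fun _ _ => rfl
  let E : S ⊗[B₁] (B₁ ⊗[B₀] M₀) ≃ₗ[S] M :=
    TensorProduct.AlgebraTensorModule.cancelBaseChange B₀ B₁ S S M₀ ≪≫ₗ eM.symm
  let f : (B₁ ⊗[B₀] M₀) →ₗ[B₁] M :=
    (E.toLinearMap.restrictScalars B₁).comp (TensorProduct.mk B₁ S (B₁ ⊗[B₀] M₀) 1)
  refine ⟨C, inferInstance, inferInstance, B₁, inferInstance, inferInstance, inferInstance,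
    inferInstance, inferInstance, inferInstance, B₁ ⊗[B₀] M₀, inferInstance, inferInstance, inferInstance,
    inferInstance, inferInstance, inferInstance, f, hZ, inferInstance, inferInstance, ?_, hp,
    IsBaseChange.of_equiv E fun x => rfl⟩
  exact Module.Flat.of_linearEquiv (Algebra.IsPushout.cancelBaseChange A₀ C B₀ B₁ M₀)

theorem exists_int_flat_model (R S M : Type u) [CommRing R] [CommRing S] [Algebra R S]
    [Algebra.FinitePresentation R S] [AddCommGroup M] [Module S M] [Module R M] [IsScalarTower R S M]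
    [Module.FinitePresentation S M] [Module.Flat R M] :
    ∃ (R₀ : Type u) (_ : CommRing R₀) (_ : Algebra R₀ R) (S₀ : Type u) (_ : CommRing S₀)
      (_ : Algebra R₀ S₀) (_ : Algebra S₀ S) (_ : Algebra R₀ S) (_ : IsScalarTower R₀ R S)
      (_ : IsScalarTower R₀ S₀ S) (M₀ : Type u) (_ : AddCommGroup M₀) (_ : Module S₀ M₀)
      (_ : Module R₀ M₀) (_ : IsScalarTower R₀ S₀ M₀) (_ : Module S₀ M) (_ : IsScalarTower S₀ S M)
      (f : M₀ →ₗ[S₀] M),
      Algebra.FiniteType ℤ R₀ ∧ Algebra.FiniteType R₀ S₀ ∧ Module.Finite S₀ M₀ ∧ Module.Flat R₀ M₀ ∧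
        Algebra.IsPushout R₀ R S₀ S ∧ IsBaseChange S f := by
  classical
  obtain ⟨n, K, ε, hK⟩ := Module.FinitePresentation.exists_fin S M
  obtain ⟨m, v, hv⟩ := Submodule.fg_iff_exists_fin_generating_family.mp hK
  obtain ⟨A₀, B₀, _, _, e, hft, hfp, hsub⟩ :=
    exists_int_algebra_model (A := R) (B := S) (Set.finite_range fun p : Fin m × Fin n => v p.1 p.2)
  choose v₀ hv₀ using fun k i => hsub ⟨(k, i), rfl⟩
  letI : Algebra B₀ S :=
    ((e.toAlgHom.restrictScalars A₀).comp Algebra.TensorProduct.includeRight).toRingHom.toAlgebra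
  haveI : IsScalarTower A₀ B₀ S := IsScalarTower.of_algebraMap_eq fun a =>
    (((e.toAlgHom.restrictScalars A₀).comp Algebra.TensorProduct.includeRight).commutes a).symm
  have hp₀ : Algebra.IsPushout A₀ R B₀ S := by
    letI : Algebra B₀ (R ⊗[A₀] B₀) := Algebra.TensorProduct.rightAlgebra
    haveI : IsScalarTower A₀ B₀ (R ⊗[A₀] B₀) := Algebra.TensorProduct.right_isScalarTower
    haveI : Algebra.IsPushout A₀ R B₀ (R ⊗[A₀] B₀) := TensorProduct.isPushout
    exact Algebra.IsPushout.of_equiv (R := A₀) (R' := R) (S := B₀) (S' := R ⊗[A₀] B₀) e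
      (RingHom.ext fun _ => rfl)
  let M₀ := (Fin n → B₀) ⧸ Submodule.span B₀ (Set.range v₀)
  obtain ⟨eM⟩ := FlatStage64.exists_module_model (B₀ := B₀) (ε.symm.toLinearMap ∘ₗ K.mkQ)
    (ε.symm.surjective.comp K.mkQ_surjective) v
    (by rw [LinearEquiv.ker_comp, Submodule.ker_mkQ, hv]) v₀ hv₀
  haveI : IsNoetherianRing A₀ := Algebra.FiniteType.isNoetherianRing ℤ A₀
  haveI : Module.Flat R (R ⊗[A₀] M₀) :=
    Module.Flat.of_linearEquiv ((eM.restrictScalars R).trans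
      (Algebra.IsPushout.cancelBaseChange A₀ R B₀ S M₀)).symm
  haveI : Algebra.FiniteType A₀ B₀ := inferInstance
  obtain ⟨C, hC, hflat⟩ := FlatStage64.exists_fg_flat (R := A₀) B₀ (M := M₀) R inferInstance
  haveI : Algebra.FiniteType A₀ C := (Subalgebra.fg_iff_finiteType C).mp hC
  haveI hCZ : Algebra.FiniteType ℤ C := Algebra.FiniteType.trans (R := ℤ) (S := A₀) (A := C) hft inferInstance
  haveI : Module.Flat C (C ⊗[A₀] M₀) := hflat C le_rfl
  letI : Algebra B₀ (C ⊗[A₀] B₀) := Algebra.TensorProduct.rightAlgebra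
  haveI : IsScalarTower A₀ B₀ (C ⊗[A₀] B₀) := Algebra.TensorProduct.right_isScalarTower
  haveI : Algebra.IsPushout A₀ C B₀ (C ⊗[A₀] B₀) := TensorProduct.isPushout
  let φ : C ⊗[A₀] B₀ →ₐ[C] S := Algebra.TensorProduct.lift (Algebra.ofId C S)
    (IsScalarTower.toAlgHom A₀ B₀ S) fun _ _ => mul_comm _ _
  letI : Algebra (C ⊗[A₀] B₀) S := φ.toRingHom.toAlgebra
  haveI : IsScalarTower C (C ⊗[A₀] B₀) S :=
    IsScalarTower.of_algebraMap_eq fun a => (φ.commutes a).symm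
  haveI : IsScalarTower B₀ (C ⊗[A₀] B₀) S := IsScalarTower.of_algebraMap_eq fun b => by
    show algebraMap B₀ S b = φ (1 ⊗ₜ b)
    exact ((Algebra.TensorProduct.lift_tmul _ _ _ _ _).trans (by rw [map_one, one_mul]; rfl)).symm
  haveI : IsScalarTower A₀ (C ⊗[A₀] B₀) S := IsScalarTower.of_algebraMap_eq fun a => by
    show algebraMap A₀ S a = φ (algebraMap A₀ (C ⊗[A₀] B₀) a)
    exact (IsScalarTower.algebraMap_apply A₀ C S a).trans (φ.commutes (algebraMap A₀ C a)).symm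
  have hp : Algebra.IsPushout C R (C ⊗[A₀] B₀) S :=
    (Algebra.IsPushout.comp_iff (R := A₀) (S := C) (R' := B₀) (S' := C ⊗[A₀] B₀) (T := R) (T' := S)).mp hp₀
  exact core_model (A₀ := A₀) (B₀ := B₀) (B₁ := C ⊗[A₀] B₀) hCZ hp eM

end Groth.Agent.CAlg5
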