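import Mathlib

/-! Norm polynomials of invariant elements. -/

set_option autoImplicit false
universe u

namespace Groth.Agent.CAlg5

open Polynomial

variable {G : Type u} [Group G] [Fintype G] {A S : Type u} [CommRing A] [CommRing S]

theorem prod_map_invariant (ρ : G → (S →+* S)) (hρ : ∀ σ τ s, ρ σ (ρ τ s) = ρ (σ * τ) s)
    (x : S) (τ : G) :
    (∏ σ : G, (X - C (ρ σ x))).map (ρ τ) = ∏ σ : G, (X - C (ρ σ x)) := by
  rw [Polynomial.map_prod]
  simp only [Polynomial.map_sub, map_X, map_C, hρ]
  exact Fintype.prod_equiv (Equiv.mulLeft τ) _ _ fun σ => rfl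

theorem exists_norm_polynomial (ρ : G → (S →+* S)) (hρ : ∀ σ τ s, ρ σ (ρ τ s) = ρ (σ * τ) s)
    (φ : A →+* S) (hφi : Function.Injective φ) (hfix : ∀ σ a, ρ σ (φ a) = φ a)
    (hrange : ∀ s, (∀ σ, ρ σ s = s) → s ∈ Set.range φ)
    {ι : Type u} [Fintype ι] (v : ι → A) (h : ι → S) :
    ∃ Q : A[X], Q.Monic ∧ Q.map φ = ∏ σ : G, (X - C (ρ σ (∑ j, φ (v j) * h j))) ∧
      ∀ i < Fintype.card G, Q.coeff i ∈ Ideal.span (Set.range v) := by
  rcases subsingleton_or_nontrivial S with hS | hS
  · have : Subsingleton A := hφi.subsingleton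
    exact ⟨1, monic_one, Subsingleton.elim _ _, fun i _ => by
      rw [Subsingleton.elim ((1 : A[X]).coeff i) 0]; exact zero_mem _⟩
  let ρ' : G → (MvPolynomial ι S →+* MvPolynomial ι S) := fun σ => MvPolynomial.map (ρ σ)
  have hρ' : ∀ σ τ s, ρ' σ (ρ' τ s) = ρ' (σ * τ) s := fun σ τ s => by
    show MvPolynomial.map (ρ σ) (MvPolynomial.map (ρ τ) s) = _
    rw [MvPolynomial.map_map]
    congr 1
    exact MvPolynomial.ringHom_ext (fun r => by simp [hρ, ρ']) fun i => by simp [ρ']
  let p : MvPolynomial ι S := ∑ j, MvPolynomial.C (h j) * MvPolynomial.X j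
  let P : (MvPolynomial ι S)[X] := ∏ σ : G, (X - C (ρ' σ p))
  have hmonic : P.Monic := monic_prod_of_monic _ _ fun σ _ => monic_X_sub_C _
  have hmem : ∀ c : MvPolynomial ι S, (∀ τ, ρ' τ c = c) →
      c ∈ Set.range (MvPolynomial.map φ) := by
    intro c hc
    have : ∀ d, c.coeff d ∈ Set.range φ := fun d => hrange _ fun τ => by
      conv_rhs => rw [← hc τ]
      exact (MvPolynomial.coeff_map _ _ _).symm
    choose a ha using this
    classical
    refine ⟨∑ d ∈ c.support, MvPolynomial.monomial d (a d), ?_⟩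
    rw [map_sum]
    simp only [MvPolynomial.map_monomial, ha]
    exact c.support_sum_monomial_coeff
  have hlift : P ∈ Polynomial.lifts (MvPolynomial.map φ) := by
    rw [Polynomial.lifts_iff_coeff_lifts]
    refine fun n => hmem _ fun τ => ?_
    show ρ' τ (P.coeff n) = P.coeff n
    rw [← Polynomial.coeff_map, prod_map_invariant ρ' hρ' p τ]
  obtain ⟨Q, hQ, -, hQm⟩ := Polynomial.lifts_and_degree_eq_and_monic hlift hmonic
  refine ⟨Q.map (MvPolynomial.eval v), hQm.map _, ?_, fun i hi => ?_⟩
  · have hc : φ.comp (MvPolynomial.eval v) =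
        (MvPolynomial.eval fun j => φ (v j)).comp (MvPolynomial.map φ) :=
      MvPolynomial.ringHom_ext (fun a => by simp) fun j => by simp
    rw [Polynomial.map_map, hc, ← Polynomial.map_map, hQ, Polynomial.map_prod]
    refine Finset.prod_congr rfl fun σ _ => ?_
    rw [Polynomial.map_sub, map_X, map_C]
    congr 2
    simp only [ρ', p, map_sum, map_mul, MvPolynomial.map_C,
      MvPolynomial.map_X, MvPolynomial.eval_C, MvPolynomial.eval_X, hfix]
    exact Finset.sum_congr rfl fun j _ => by ring
  · rw [Polynomial.coeff_map]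
    have h0 : MvPolynomial.constantCoeff (Q.coeff i) = 0 := by
      refine hφi ?_
      rw [map_zero, ← MvPolynomial.constantCoeff_map, ← Polynomial.coeff_map, hQ,
        ← Polynomial.coeff_map, Polynomial.map_prod]
      have hz : ∀ σ, MvPolynomial.constantCoeff (ρ' σ p) = 0 := fun σ => by simp [ρ', p]
      simp only [Polynomial.map_sub, map_X, map_C, hz, map_zero,
        sub_zero, Finset.prod_const, Finset.card_univ, coeff_X_pow, if_neg hi.ne]
    have h1 : Q.coeff i ∈ Ideal.span (Set.range MvPolynomial.X) := by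
      rw [show Set.range (MvPolynomial.X : ι → MvPolynomial ι A) = MvPolynomial.X '' Set.univ from
        Set.image_univ.symm, MvPolynomial.mem_ideal_span_X_image]
      intro m hm
      by_contra hc
      push Not at hc
      have : m = 0 := Finsupp.ext fun j => hc j trivial
      subst this
      rw [MvPolynomial.mem_support_iff] at hm
      exact hm h0
    have h2 := Ideal.mem_map_of_mem (MvPolynomial.eval v) h1
    rw [Ideal.map_span, ← Set.range_comp] at h2
    convert h2 using 3
    ext j
    simp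

end Groth.Agent.CAlg5
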