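import Mathlib
import Groth.Prelude.Def_Found
import Groth.Agent.CAlg5.NFinite
import Groth.Agent.CAlg5.SmoothReduced

/-! The Nagata property descends along smooth surjective maps. -/

set_option autoImplicit false
universe u

open TensorProduct

namespace Groth.Agent.CAlg5

theorem finite_integralClosure_tensor {R S : Type u} [CommRing R] [CommRing S] [Algebra R S]
    [Algebra.Smooth R S] (hS : CAlg.IsNagata S) (p : Ideal R) [p.IsPrime] (L : Type u) [Field L]
    [Algebra R L] [Algebra (R ⧸ p) L] [IsScalarTower R (R ⧸ p) L] [Algebra (FractionRing (R ⧸ p)) L]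
    [IsScalarTower (R ⧸ p) (FractionRing (R ⧸ p)) L] [FiniteDimensional (FractionRing (R ⧸ p)) L] :
    Module.Finite S (integralClosure S (S ⊗[R] L)) := by
  classical
  let A := R ⧸ p
  have := hS.1
  let T := S ⊗[R] L
  have : IsReduced (L ⊗[R] S) := isReduced_of_smooth (A := L)
  have : IsNoetherianRing (L ⊗[R] S) := Algebra.FiniteType.isNoetherianRing L _
  let ec : (L ⊗[R] S) ≃+* T := (Algebra.TensorProduct.comm R L S).toRingEquiv
  have : IsNoetherianRing T := isNoetherianRing_of_ringEquiv _ ec
  have : IsReduced T := isReduced_of_injective ec.symm ec.symm.injective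
  have hfinQ : (minimalPrimes T).Finite := minimalPrimes.finite_of_isNoetherianRing T
  have : Finite (minimalPrimes T) := hfinQ.to_subtype
  have hp : ∀ Q : minimalPrimes T, Q.1.IsPrime := fun Q => Q.2.1.1
  -- finiteness in each factor
  have key : ∀ Q : minimalPrimes T, Module.Finite S (integralClosure S Q.1.ResidueField) := by
    intro Q
    have := hp Q
    let E := Q.1.ResidueField
    let q : Ideal S := Q.1.comap (algebraMap S T)
    let F := FractionRing (S ⧸ q)
    have hker : ∀ a ∈ q, algebraMap S E a = 0 := fun a ha => by
      rw [IsScalarTower.algebraMap_apply S T E]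
      exact Ideal.algebraMap_residueField_eq_zero.2 ha
    let _ : Algebra (S ⧸ q) E := (Ideal.Quotient.lift q (algebraMap S E) hker).toAlgebra
    have hinj : Function.Injective (algebraMap (S ⧸ q) E) := by
      rw [RingHom.algebraMap_toAlgebra, injective_iff_map_eq_zero]
      intro a ha
      obtain ⟨a, rfl⟩ := Ideal.Quotient.mk_surjective a
      rw [Ideal.Quotient.lift_mk, IsScalarTower.algebraMap_apply S T E,
        Ideal.algebraMap_residueField_eq_zero] at ha
      exact Ideal.Quotient.eq_zero_iff_mem.2 ha
    have : IsScalarTower S (S ⧸ q) E := IsScalarTower.of_algebraMap_eq fun _ => rfl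
    have : FaithfulSMul (S ⧸ q) E := (faithfulSMul_iff_algebraMap_injective _ _).2 hinj
    let _ : Algebra F E := FractionRing.liftAlgebra (S ⧸ q) E
    have : IsScalarTower (S ⧸ q) F E := FractionRing.isScalarTower_liftAlgebra _ _
    -- `E` is finite over `F`
    obtain ⟨s, b, hb⟩ := FiniteDimensional.exists_is_basis_integral A (FractionRing A) L
    let ι : L →ₐ[R] E := (IsScalarTower.toAlgHom R T E).comp
      (Algebra.TensorProduct.includeRight : L →ₐ[R] T)
    let W : IntermediateField F E := IntermediateField.adjoin F (Set.range fun i => ι (b i))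
    have hRE : ∀ r : R, algebraMap R E r = algebraMap F E (algebraMap (S ⧸ q) F
        (Ideal.Quotient.mk q (algebraMap R S r))) := fun r => by
      rw [← IsScalarTower.algebraMap_apply (S ⧸ q) F E, IsScalarTower.algebraMap_apply R S E,
        IsScalarTower.algebraMap_apply S (S ⧸ q) E]
      rfl
    have hW : W = ⊤ := by
      have h1 : ∀ z : T, algebraMap T E z ∈ W := by
        intro z
        induction z using TensorProduct.induction_on with
        | zero => rw [map_zero]; exact zero_mem _
        | add x y hx hy => rw [map_add]; exact add_mem hx hy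
        | tmul a l =>
          rw [show a ⊗ₜ[R] l = algebraMap S T a * (1 ⊗ₜ l) by
            rw [Algebra.TensorProduct.algebraMap_apply, Algebra.TensorProduct.tmul_mul_tmul]; simp,
            map_mul, ← IsScalarTower.algebraMap_apply S T E, IsScalarTower.algebraMap_apply S (S ⧸ q) E,
            IsScalarTower.algebraMap_apply (S ⧸ q) F E]
          refine mul_mem (W.algebraMap_mem _) ?_
          obtain ⟨⟨d, hd⟩, hdl⟩ := IsLocalization.exist_integer_multiples (nonZeroDivisors A) Finset.univ
            (fun i => b.repr l i)
          choose c hc using fun i : s => hdl i (Finset.mem_univ i)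
          obtain ⟨d, rfl⟩ := Ideal.Quotient.mk_surjective d
          choose c' hc' using fun i : s => Ideal.Quotient.mk_surjective (c i)
          have hd0 : algebraMap R L d ≠ 0 := by
            rw [IsScalarTower.algebraMap_apply R A L]
            exact (map_ne_zero_iff _ (algebraMap_injective_of_fractionRing A L)).2
              (nonZeroDivisors.ne_zero hd)
          have heq : algebraMap R L d * l = ∑ i, algebraMap R L (c' i) * b i := by
            conv_lhs => rw [← b.sum_repr l]
            rw [Finset.mul_sum]
            refine Finset.sum_congr rfl fun i _ => ?_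
            have h1 : algebraMap A (FractionRing A) (c i) =
                algebraMap A (FractionRing A) (Ideal.Quotient.mk p d) * b.repr l i :=
              (hc i).trans (Algebra.smul_def _ _)
            rw [IsScalarTower.algebraMap_apply R A L, IsScalarTower.algebraMap_apply R A L (c' i),
              Ideal.Quotient.algebraMap_eq, hc', Algebra.smul_def,
              IsScalarTower.algebraMap_apply A (FractionRing A) L,
              IsScalarTower.algebraMap_apply A (FractionRing A) L (c i), h1, map_mul]
            ring
          show ι l ∈ W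
          have h2 := congrArg ι heq
          rw [map_mul, map_sum, ι.commutes] at h2
          have h3 : algebraMap R E d ≠ 0 := by
            rw [← ι.commutes]
            exact (map_ne_zero_iff _ ι.toRingHom.injective).2 hd0
          rw [show ι l = (algebraMap R E d)⁻¹ * (∑ i, ι (algebraMap R L (c' i) * b i)) by
            rw [← h2, inv_mul_cancel_left₀ h3]]
          refine mul_mem (inv_mem (hRE d ▸ W.algebraMap_mem _)) (sum_mem fun i _ => ?_)
          rw [map_mul, ι.commutes]
          exact mul_mem (hRE _ ▸ W.algebraMap_mem _) (IntermediateField.subset_adjoin F _ ⟨i, rfl⟩)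
      refine eq_top_iff.2 fun x _ => ?_
      obtain ⟨a, c, hc, rfl⟩ := IsFractionRing.div_surjective (A := T ⧸ Q.1) x
      obtain ⟨a, rfl⟩ := Ideal.Quotient.mk_surjective a
      obtain ⟨c, rfl⟩ := Ideal.Quotient.mk_surjective c
      exact div_mem (h1 a) (h1 c)
    have hfd : FiniteDimensional F E := by
      have : FiniteDimensional F W := IntermediateField.finiteDimensional_adjoin fun x ⟨i, hi⟩ => by
        subst hi
        have h1 : IsIntegral R (b i) := isIntegral_trans (R := R) (A := A) _ (hb i)
        exact (((h1.map ι).tower_top (A := S)).tower_top (A := S ⧸ q)).tower_top (A := F)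
      rw [hW] at this
      exact Module.Finite.equiv (IntermediateField.topEquiv (F := F) (E := E)).toLinearEquiv
    have := IsN2.finite (hS.2 q) F E
    have : Module.Finite S (integralClosure (S ⧸ q) E) := Module.Finite.trans (S ⧸ q) _
    let f : integralClosure S E →ₗ[S] integralClosure (S ⧸ q) E :=
      { toFun := fun x => ⟨x.1, x.2.tower_top⟩
        map_add' := fun _ _ => rfl
        map_smul' := fun _ _ => rfl }
    exact Module.Finite.of_injective f fun x y hxy =>
      Subtype.ext (congrArg (fun z : integralClosure (S ⧸ q) E => (z : E)) hxy)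
  -- assemble
  let g : integralClosure S T →ₗ[S] ((Q : minimalPrimes T) → integralClosure S Q.1.ResidueField) :=
    { toFun := fun x Q => ⟨algebraMap T Q.1.ResidueField x.1,
        x.2.map (IsScalarTower.toAlgHom S T Q.1.ResidueField)⟩
      map_add' := fun x y => funext fun Q => Subtype.ext (map_add _ _ _)
      map_smul' := fun a x => funext fun Q => Subtype.ext ((IsScalarTower.toAlgHom S T _).toLinearMap.map_smul a x.1) }
  refine Module.Finite.of_injective g fun x y hxy => Subtype.ext (sub_eq_zero.1 ?_)
  refine IsNilpotent.eq_zero ((nilpotent_iff_mem_prime).2 fun P hP => ?_)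
  obtain ⟨Q, hQ, hQP⟩ := Ideal.exists_minimalPrimes_le (bot_le (a := P))
  have := hQ.1.1
  have h1 : algebraMap T Q.ResidueField x.1 = algebraMap T Q.ResidueField y.1 :=
    congrArg Subtype.val (congrFun hxy ⟨Q, hQ⟩)
  refine hQP ?_
  rw [← Ideal.algebraMap_residueField_eq_zero (I := Q), map_sub, h1, sub_self]

theorem isNagata_of_smooth_surjective (R S : Type u) [CommRing R] [CommRing S] [Algebra R S]
    [Algebra.Smooth R S] (hs : Function.Surjective (PrimeSpectrum.comap (algebraMap R S)))
    (hS : CAlg.IsNagata S) : CAlg.IsNagata R := by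
  have := hS.1
  have : Module.Flat R S := inferInstance
  have : Module.FaithfullyFlat R S := Module.FaithfullyFlat.of_comap_surjective hs
  have hR : IsNoetherianRing R :=
    ⟨fun I => Ideal.FG.of_FG_map_of_faithfullyFlat (S := S) (IsNoetherian.noetherian _)⟩
  refine ⟨hR, fun p _ => ?_⟩
  intro L _ _ _ _ hfd
  let _ : Algebra R L := ((algebraMap (R ⧸ p) L).comp (Ideal.Quotient.mk p)).toAlgebra
  have : IsScalarTower R (R ⧸ p) L := IsScalarTower.of_algebraMap_eq fun _ => rfl
  have := finite_integralClosure_tensor hS p L
  let C := Subalgebra.toSubmodule (integralClosure R L)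
  let φ : S ⊗[R] C →ₗ[S] S ⊗[R] L := AlgebraTensorModule.lTensor S S C.subtype
  have hmem : ∀ x, φ x ∈ Subalgebra.toSubmodule (integralClosure S (S ⊗[R] L)) := by
    intro x
    induction x using TensorProduct.induction_on with
    | zero => rw [map_zero]; exact zero_mem _
    | add x y hx hy => rw [map_add]; exact add_mem hx hy
    | tmul a c =>
      show IsIntegral S (a ⊗ₜ[R] (c : L))
      rw [show a ⊗ₜ[R] (c : L) = algebraMap S (S ⊗[R] L) a * (1 ⊗ₜ (c : L)) by
        rw [Algebra.TensorProduct.algebraMap_apply, Algebra.TensorProduct.tmul_mul_tmul]; simp]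
      exact isIntegral_algebraMap.mul
        ((IsIntegral.map (Algebra.TensorProduct.includeRight : L →ₐ[R] S ⊗[R] L) c.2).tower_top)
  have hφ : Function.Injective φ :=
    Module.Flat.lTensor_preserves_injective_linearMap _ Subtype.val_injective
  have : Module.Finite S (Subalgebra.toSubmodule (integralClosure S (S ⊗[R] L))) := ‹_›
  have : Module.Finite S (S ⊗[R] C) :=
    Module.Finite.of_injective (φ.codRestrict _ hmem) fun x y hxy => hφ (congrArg Subtype.val hxy)
  have : Module.Finite R C := Module.Finite.of_finite_tensorProduct_of_faithfullyFlat S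
  let f : integralClosure (R ⧸ p) L →ₗ[R] C :=
    { toFun := fun x => ⟨x.1, show IsIntegral R x.1 from isIntegral_trans (R := R) (A := R ⧸ p) _ x.2⟩
      map_add' := fun _ _ => rfl
      map_smul' := fun _ _ => rfl }
  have : Module.Finite R (integralClosure (R ⧸ p) L) :=
    Module.Finite.of_injective f fun x y hxy => Subtype.ext (congrArg (fun z : C => (z : L)) hxy)
  exact Module.Finite.of_restrictScalars_finite R (R ⧸ p) _

end Groth.Agent.CAlg5
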