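import Mathlib
import Groth.Agent.CAlg1.NagataUnram
import Groth.Agent.CAlg1.NagataBasic
import Groth.Agent.S0576

/-! A Noetherian local ring is Nagata iff its finite local domains are analytically unramified. -/

set_option autoImplicit false
set_option linter.style.haveILetI false
universe u

open IsLocalRing

namespace Groth.Agent.CAlg5

theorem isN2_of_finite_local_domains {R : Type u} [CommRing R] [IsLocalRing R] [IsNoetherianRing R]
    (p : Ideal R) [p.IsPrime]
    (h : ∀ (S : Type u) [CommRing S] [IsDomain S] [IsLocalRing S] [Algebra R S]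
      [IsLocalHom (algebraMap R S)] [Module.Finite R S],
      IsReduced (AdicCompletion (IsLocalRing.maximalIdeal S) S)) : CAlg.IsN2 (R ⧸ p) := by
  intro L _ _ _ _ hfd
  classical
  haveI := hfd
  let A := R ⧸ p
  let K := FractionRing A
  have hAL : Function.Injective (algebraMap A L) := by
    rw [IsScalarTower.algebraMap_eq A K L]
    exact (algebraMap K L).injective.comp (IsFractionRing.injective A K)
  by_cases hmA : maximalIdeal A = ⊥
  · -- `A` is a field
    have hA : IsField A := IsLocalRing.isField_iff_maximalIdeal_eq.2 hmA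
    let _ := hA.toField
    have hsurj : Function.Surjective (algebraMap A K) := fun z => by
      obtain ⟨a, b, hb, rfl⟩ := IsFractionRing.div_surjective (A := A) z
      obtain ⟨c, hc⟩ := hA.mul_inv_cancel (nonZeroDivisors.ne_zero hb)
      refine ⟨a * c, ?_⟩
      have hb0 : algebraMap A K b ≠ 0 := (map_ne_zero_iff _ (IsFractionRing.injective A K)).2
        (nonZeroDivisors.ne_zero hb)
      rw [eq_div_iff hb0, ← map_mul, mul_assoc, mul_comm c, hc, mul_one]
    have : Module.Finite A K := Module.Finite.of_surjective (Algebra.linearMap A K) hsurj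
    have : Module.Finite A L := Module.Finite.trans K L
    have : IsNoetherian A L := isNoetherian_of_isNoetherianRing_of_finite A L
    exact Module.Finite.of_fg (IsNoetherian.noetherian (integralClosure A L).toSubmodule)
  obtain ⟨m₀, hm₀, hm₀0⟩ := Submodule.exists_mem_ne_zero_of_ne_bot hmA
  obtain ⟨s, b, hb⟩ := FiniteDimensional.exists_is_basis_integral A K L
  let G : Finset L := s.attach.image fun i => algebraMap A L m₀ * b i
  let B : Subalgebra A L := Algebra.adjoin A (G : Set L)
  have hG : ∀ x ∈ (G : Set L), IsIntegral A x := by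
    intro x hx
    obtain ⟨i, -, rfl⟩ := Finset.mem_image.1 hx
    exact isIntegral_algebraMap.mul (hb i)
  haveI : Module.Finite A B := Module.Finite.of_fg (fg_adjoin_of_finite G.finite_toSet hG)
  haveI : FaithfulSMul A B := (faithfulSMul_iff_algebraMap_injective A B).2 fun x y hxy =>
    hAL (congrArg Subtype.val hxy)
  haveI : Algebra.IsIntegral A B := Algebra.IsIntegral.of_finite A B
  -- `B` is local
  have hmax : ∀ M : Ideal B, M.IsMaximal → M.comap (algebraMap A B) = maximalIdeal A := fun M hM =>
    IsLocalRing.eq_maximalIdeal (Ideal.isMaximal_comap_of_isIntegral_of_isMaximal M)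
  have hgen : ∀ (M : Ideal B), M.IsMaximal → ∀ g : B, (g : L) ∈ (G : Set L) → g ∈ M := by
    intro M hM g hg
    obtain ⟨i, -, hgi⟩ := Finset.mem_image.1 hg
    obtain ⟨P, hmonic, hP⟩ := hb i
    have h1 : IsIntegral A (b i) := hb i
    have hroot : Polynomial.aeval g (P.scaleRoots m₀) = 0 := by
      apply Subtype.val_injective
      rw [← Subalgebra.coe_val, ← Polynomial.aeval_algHom_apply, Subalgebra.coe_val, ← hgi,
        ZeroMemClass.coe_zero]
      exact Polynomial.scaleRoots_aeval_eq_zero hP
    rw [Polynomial.aeval_eq_sum_range, Polynomial.natDegree_scaleRoots, Finset.sum_range_succ,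
      Polynomial.coeff_scaleRoots_natDegree, hmonic.leadingCoeff, one_smul] at hroot
    have h2 : g ^ P.natDegree ∈ M := by
      rw [eq_neg_of_add_eq_zero_right hroot]
      refine neg_mem (Ideal.sum_mem _ fun k hk => ?_)
      rw [Algebra.smul_def]
      refine Ideal.mul_mem_right _ _ ?_
      have : (P.scaleRoots m₀).coeff k ∈ maximalIdeal A := by
        rw [Polynomial.coeff_scaleRoots]
        exact Ideal.mul_mem_left _ _ (Ideal.pow_mem_of_mem _ hm₀ _
          (Nat.sub_pos_of_lt (Finset.mem_range.1 hk)))
      rw [← hmax M hM] at this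
      exact this
    exact hM.isPrime.mem_of_pow_mem _ h2
  have hsub : ∀ M N : Ideal B, M.IsMaximal → N.IsMaximal → M ≤ N := by
    intro M N hM hN
    have key : ∀ x : B, ∃ a : A, ∀ M : Ideal B, M.IsMaximal → x - algebraMap A B a ∈ M := by
      rintro ⟨x, hx⟩
      induction hx using Algebra.adjoin_induction with
      | mem g hg => exact ⟨0, fun M hM => by rw [map_zero, sub_zero]; exact hgen M hM _ hg⟩
      | algebraMap a => exact ⟨a, fun M _ => by convert zero_mem M; exact sub_self _⟩
      | add x y hx hy ihx ihy =>
        obtain ⟨a, ha⟩ := ihx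
        obtain ⟨c, hc⟩ := ihy
        refine ⟨a + c, fun M hM => ?_⟩
        convert add_mem (ha M hM) (hc M hM) using 1
        rw [map_add, show (⟨x + y, add_mem hx hy⟩ : B) = ⟨x, hx⟩ + ⟨y, hy⟩ from rfl, add_sub_add_comm]
      | mul x y hx hy ihx ihy =>
        obtain ⟨a, ha⟩ := ihx
        obtain ⟨c, hc⟩ := ihy
        refine ⟨a * c, fun M hM => ?_⟩
        convert add_mem (Ideal.mul_mem_right (⟨y, hy⟩ : B) _ (ha M hM))
          (Ideal.mul_mem_left _ (algebraMap A B a) (hc M hM)) using 1
        rw [show (⟨x * y, mul_mem hx hy⟩ : B) = ⟨x, hx⟩ * ⟨y, hy⟩ from rfl, map_mul]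
        ring
    intro x hx
    obtain ⟨a, ha⟩ := key x
    have h1 : algebraMap A B a ∈ M := by simpa using sub_mem hx (ha M hM)
    have h2 : a ∈ N.comap (algebraMap A B) := by
      rw [hmax N hN, ← hmax M hM]
      exact h1
    simpa using add_mem (ha N hN) (show algebraMap A B a ∈ N from h2)
  haveI : IsLocalRing B := by
    obtain ⟨M, hM⟩ := Ideal.exists_maximal B
    exact IsLocalRing.of_unique_max_ideal ⟨M, hM, fun N hN => hN.eq_of_le hM.ne_top (hsub N M hN hM)⟩
  let _ : Algebra R B := ((algebraMap A B).comp (Ideal.Quotient.mk p)).toAlgebra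
  haveI : IsScalarTower R A B := IsScalarTower.of_algebraMap_eq fun _ => rfl
  haveI : Module.Finite R B := Module.Finite.trans A B
  haveI : IsLocalHom (algebraMap R B) := by
    refine ((IsLocalRing.local_hom_TFAE (algebraMap R B)).out 0 4 rfl rfl).2 ?_
    haveI : Algebra.IsIntegral R B := Algebra.IsIntegral.of_finite R B
    exact IsLocalRing.eq_maximalIdeal (Ideal.isMaximal_comap_of_isIntegral_of_isMaximal _)
  haveI := h B
  haveI : IsNoetherianRing B := IsNoetherianRing.of_finite A B
  have hN1 := CAlg1.Nag.isN1_of_reduced_completion B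
  -- `L` is the fraction field of `B`
  haveI : IsFractionRing B L := by
    refine IsFractionRing.of_field B L fun x => ?_
    obtain ⟨⟨d, hd⟩, hdx⟩ := IsLocalization.exist_integer_multiples (nonZeroDivisors A) Finset.univ
      (fun i => b.repr x i)
    choose c hc using fun i : s => hdx i (Finset.mem_univ i)
    refine ⟨(∑ i : s, c i • (⟨algebraMap A L m₀ * b i,
        Algebra.subset_adjoin (Finset.mem_coe.2 (Finset.mem_image.2 ⟨i, Finset.mem_attach _ _, rfl⟩))⟩ : B)),
      algebraMap A B (d * m₀), ?_⟩
    have hne : algebraMap B L (algebraMap A B (d * m₀)) ≠ 0 := by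
      rw [← IsScalarTower.algebraMap_apply, map_ne_zero_iff _ hAL]
      exact mul_ne_zero (nonZeroDivisors.ne_zero hd) hm₀0
    rw [eq_div_iff hne, map_sum, ← IsScalarTower.algebraMap_apply]
    conv_lhs => rw [← b.sum_repr x]
    rw [Finset.sum_mul]
    refine Finset.sum_congr rfl fun i _ => ?_
    show b.repr x i • b i * algebraMap A L (d * m₀) = c i • (algebraMap A L m₀ * b i)
    have h1 : algebraMap A K (c i) = algebraMap A K d * b.repr x i := (hc i).trans (Algebra.smul_def _ _)
    rw [Algebra.smul_def, Algebra.smul_def, IsScalarTower.algebraMap_apply A K L (c i), h1, map_mul,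
      map_mul, ← IsScalarTower.algebraMap_apply A K L d]
    ring
  haveI : Module.Finite B (integralClosure B (FractionRing B)) := hN1
  haveI : Module.Finite B (integralClosure B L) :=
    Module.Finite.equiv (FractionRing.algEquiv B L).mapIntegralClosure.toLinearEquiv
  haveI : Module.Finite A (integralClosure B L) := Module.Finite.trans B (integralClosure B L)
  let f : integralClosure A L →ₗ[A] integralClosure B L :=
    { toFun := fun x => ⟨x.1, x.2.tower_top⟩
      map_add' := fun _ _ => rfl
      map_smul' := fun _ _ => rfl }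
  exact Module.Finite.of_injective f fun x y hxy => Subtype.ext (congrArg (fun z : integralClosure B L => (z : L)) hxy)

theorem isNagata_local_iff (R : Type u) [CommRing R] [IsLocalRing R] [IsNoetherianRing R] :
    CAlg.IsNagata R ↔ ∀ (S : Type u) [CommRing S] [IsDomain S] [IsLocalRing S] [Algebra R S]
      [IsLocalHom (algebraMap R S)] [Module.Finite R S],
      IsReduced (AdicCompletion (IsLocalRing.maximalIdeal S) S) := by
  refine ⟨fun hR S _ _ _ _ _ _ => S0576.result S (CAlg1.Nag.isNagata_of_finite hR),
    fun h => ⟨inferInstance, fun p _ => isN2_of_finite_local_domains p h⟩⟩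

end Groth.Agent.CAlg5
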