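import Groth.Agent.CAlg5.IntModel
import Groth.Agent.E4O.QuasiSection
import Groth.Agent.S0395
import Groth.Agent.S0387
import Groth.Agent.FlatCrit65.UnivInj
import Mathlib

/-! Quasi-finite refinement of faithfully flat algebras of finite presentation. -/

set_option autoImplicit false
set_option linter.style.haveILetI false

universe u

open TensorProduct

namespace Groth.Agent.CAlg5

section

variable {R S : Type u} [CommRing R] [CommRing S] [Algebra R S]

theorem exists_quasiFinite_away [Algebra.FiniteType R S] (q : Ideal S) [q.IsPrime]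
    [Algebra.QuasiFiniteAt R q] :
    ∃ g ∉ q, Algebra.QuasiFinite R (Localization.Away g) := by
  obtain ⟨S', hS', r, hrq, H⟩ :=
    Algebra.QuasiFiniteAt.exists_fg_and_exists_notMem_and_awayMap_bijective (R := R) q
  have : Module.Finite R S' := ⟨(Submodule.fg_top _).mpr hS'⟩
  have : Algebra.QuasiFinite R (Localization.Away r) := .trans _ S' _
  exact ⟨r.1, hrq, .of_surjective_algHom (Localization.awayMapₐ S'.val r) H.2⟩

theorem exists_mem_of_one_tmul_eq_zero (p : Ideal R) [p.IsPrime] (s : S)
    (h : (1 : p.ResidueField) ⊗ₜ[R] s = 0) :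
    ∃ t ∉ p, algebraMap R S t * s ∈ p.map (algebraMap R S) := by
  let Rp := Localization p.primeCompl
  let Sp := Localization (Algebra.algebraMapSubmonoid S p.primeCompl)
  let _ : Algebra S (p.Fiber S) := Algebra.TensorProduct.rightAlgebra
  have h1 : Ideal.Quotient.mk ((IsLocalRing.maximalIdeal Rp).map (algebraMap Rp Sp))
      (algebraMap S Sp s) = 0 := by
    have h2 := (Ideal.Fiber.algEquivQuotient (S := S) p).commutes s
    rw [show algebraMap S (p.Fiber S) s = (1 : p.ResidueField) ⊗ₜ[R] s from rfl, h, map_zero] at h2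
    exact h2.symm
  rw [Ideal.Quotient.eq_zero_iff_mem, ← Localization.AtPrime.map_eq_maximalIdeal, Ideal.map_map,
    ← IsScalarTower.algebraMap_eq, IsScalarTower.algebraMap_eq R S Sp, ← Ideal.map_map,
    IsLocalization.algebraMap_mem_map_algebraMap_iff (Algebra.algebraMapSubmonoid S p.primeCompl)] at h1
  obtain ⟨_, ⟨t, ht, rfl⟩, h3⟩ := h1
  exact ⟨t, ht, h3⟩

theorem flat_at_quotient [IsNoetherianRing R] [IsNoetherianRing S] [Module.Flat R S]
    (p : Ideal R) [p.IsPrime] (q : Ideal S) [q.IsPrime] [q.LiesOver p] (f : S)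
    (h : ∀ s, f * s ∈ p.map (algebraMap R S) → ∃ t ∉ q, t * s ∈ p.map (algebraMap R S)) :
    Module.Flat R (LocalizedModule q.primeCompl (S ⧸ Ideal.span {f})) := by
  let Rp := Localization.AtPrime p
  let Sq := Localization.AtPrime q
  let _ : Algebra Rp Sq :=
    (Localization.localRingHom p q (algebraMap R S) (q.over_def p)).toAlgebra
  have : IsScalarTower R Rp Sq := IsScalarTower.of_algebraMap_eq fun x => by
    rw [RingHom.algebraMap_toAlgebra, Localization.localRingHom_to_map, ← IsScalarTower.algebraMap_apply]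
  have : IsLocalHom (algebraMap Rp Sq) :=
    inferInstanceAs (IsLocalHom (Localization.localRingHom p q (algebraMap R S) (q.over_def p)))
  have hflatS : Module.Flat R Sq := Module.Flat.trans R S Sq
  have : Module.Flat Rp Sq := (Module.flat_iff_of_isLocalization Rp p.primeCompl Sq).2 hflatS
  have hm : (IsLocalRing.maximalIdeal Rp).map (algebraMap Rp Sq) =
      (p.map (algebraMap R S)).map (algebraMap S Sq) := by
    rw [← Localization.AtPrime.map_eq_maximalIdeal, Ideal.map_map, ← IsScalarTower.algebraMap_eq,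
      IsScalarTower.algebraMap_eq R S Sq, ← Ideal.map_map]
  have hnzd : Ideal.Quotient.mk ((IsLocalRing.maximalIdeal Rp).map (algebraMap Rp Sq))
      (algebraMap S Sq f) ∈ nonZeroDivisors _ := by
    rw [mem_nonZeroDivisors_iff_right]
    intro z hz
    obtain ⟨z, rfl⟩ := Ideal.Quotient.mk_surjective z
    obtain ⟨a, u, rfl⟩ := IsLocalization.exists_mk'_eq q.primeCompl z
    rw [← map_mul, Ideal.Quotient.eq_zero_iff_mem] at hz
    rw [Ideal.Quotient.eq_zero_iff_mem]
    rw [mul_comm, hm] at hz
    rw [hm, IsLocalization.mk'_mem_map_algebraMap_iff q.primeCompl]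
    rw [IsLocalization.mul_mk'_eq_mk'_of_mul, IsLocalization.mk'_mem_map_algebraMap_iff q.primeCompl] at hz
    obtain ⟨w, hw, hwa⟩ := hz
    rw [mul_left_comm] at hwa
    obtain ⟨t, ht, hta⟩ := h _ hwa
    exact ⟨t * w, q.primeCompl.mul_mem ht hw, by rwa [mul_assoc]⟩
  have h1 := (S0395.result (R := Rp) (S := Sq) (algebraMap S Sq f) hnzd).1
  have h2 : Module.Flat R (Sq ⧸ Ideal.span {algebraMap S Sq f}) := Module.Flat.trans R Rp _
  let g := Submodule.toLocalizedQuotient' Sq q.primeCompl (Algebra.linearMap S Sq) (Ideal.span {f})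
  let e := IsLocalizedModule.iso q.primeCompl g
  have h3 : Submodule.localized' Sq q.primeCompl (Algebra.linearMap S Sq) (Ideal.span {f}) =
      Ideal.span {algebraMap S Sq f} := by
    rw [Ideal.localized'_eq_map, Ideal.map_span, Set.image_singleton]
  let e₂ := (e.restrictScalars R).trans
    ((Submodule.quotEquivOfEq _ _ h3).restrictScalars R)
  exact Module.Flat.of_linearEquiv e₂

/-- Cut a fibre which is not discrete by a fibrewise non zero divisor. -/
theorem exists_cut [IsNoetherianRing R] [IsNoetherianRing S] [Algebra.FiniteType R S] [Module.Flat R S]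
    (p : Ideal R) [p.IsPrime]
    (hne : ∃ q r : Ideal S, q.IsPrime ∧ r.IsPrime ∧ q.under R = p ∧ r.under R = p ∧ q < r) :
    ∃ (f : S) (q : Ideal S), f ≠ 0 ∧ q.IsPrime ∧ f ∈ q ∧ q.under R = p ∧
      ∀ s, f * s ∈ p.map (algebraMap R S) → ∃ t ∉ q, t * s ∈ p.map (algebraMap R S) := by
  classical
  let F := p.Fiber S
  have : IsNoetherianRing F := Algebra.FiniteType.isNoetherianRing p.ResidueField F
  have : IsJacobsonRing F := isJacobsonRing_of_finiteType (A := p.ResidueField)
  obtain ⟨q₀, r₀, hq₀, hr₀, hq₀p, hr₀p, hlt⟩ := hne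
  let o := PrimeSpectrum.primesOverOrderIsoFiber R S p
  let Q₀ := o ⟨q₀, hq₀, ⟨hq₀p.symm⟩⟩
  let R₀' := o ⟨r₀, hr₀, ⟨hr₀p.symm⟩⟩
  have hlt' : Q₀ < R₀' := o.lt_iff_lt.2 hlt
  have : Nontrivial F := Q₀.nontrivial
  have hfin : (associatedPrimes F F).Finite := associatedPrimes.finite F F
  have hex : ∃ M : Ideal F, M.IsMaximal ∧ M ∉ associatedPrimes F F := by
    by_contra hno
    push Not at hno
    -- then every prime is maximal
    have hmax : {M : Ideal F | M.IsMaximal}.Finite := hfin.subset hno
    have key : ∀ P : Ideal F, P.IsPrime → P.IsMaximal := by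
      intro P hP
      have hj : P.jacobson = P := IsJacobsonRing.out' P hP.isRadical
      have h1 : hmax.toFinset.inf (fun M => if P ≤ M then M else ⊤) ≤ P := by
        intro x hx
        rw [← hj, Ideal.jacobson, Ideal.mem_sInf]
        rintro M ⟨hPM, hM⟩
        have := Finset.inf_le (f := fun M => if P ≤ M then M else ⊤) (hmax.mem_toFinset.2 hM) hx
        simp only [if_pos hPM] at this
        exact this
      obtain ⟨M, hM, hMP⟩ := (hP.inf_le').1 h1
      rw [hmax.mem_toFinset] at hM
      by_cases hPM : P ≤ M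
      · rw [if_pos hPM] at hMP
        exact (le_antisymm hMP hPM) ▸ hM
      · rw [if_neg hPM] at hMP
        exact absurd (top_le_iff.1 hMP) hP.ne_top
    exact R₀'.2.ne_top ((key Q₀.asIdeal Q₀.2).1.2 _ hlt')
  obtain ⟨M, hM, hMa⟩ := hex
  have hnot : ¬ (M : Set F) ⊆ ⋃ P ∈ associatedPrimes F F, (P : Set F) := by
    intro hsub
    obtain ⟨P, hP, hle⟩ := (Ideal.subset_union_prime (s := hfin.toFinset) (f := fun P => P) ⊥ ⊥
      fun P hP _ _ => (hfin.mem_toFinset.1 hP).isPrime).1 (fun x hx => by
        obtain ⟨P, hP, hxP⟩ := Set.mem_iUnion₂.1 (hsub hx)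
        exact Set.mem_biUnion (hfin.mem_toFinset.2 hP) hxP)
    have hP' := hfin.mem_toFinset.1 hP
    exact hMa ((hM.eq_of_le hP'.isPrime.ne_top hle) ▸ hP')
  obtain ⟨z, hzM, hz⟩ := Set.not_subset.1 hnot
  have hznzd : z ∈ nonZeroDivisors F := by
    rw [biUnion_associatedPrimes_eq_compl_nonZeroDivisors] at hz
    simpa using hz
  obtain ⟨r, hr, f, hrf⟩ := Ideal.Fiber.exists_smul_eq_one_tmul p z
  have hu : IsUnit (algebraMap R F r) := by
    rw [IsScalarTower.algebraMap_apply R p.ResidueField F]
    exact (Ne.isUnit (by rwa [Ne, Ideal.algebraMap_residueField_eq_zero])).map _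
  have hf1 : (1 : p.ResidueField) ⊗ₜ[R] f ∈ nonZeroDivisors F := by
    rw [← hrf, Algebra.smul_def]
    exact mul_mem hu.mem_nonZeroDivisors hznzd
  let φ : S →ₐ[R] F := Algebra.TensorProduct.includeRight
  let q := M.comap φ
  have hq : q.IsPrime := Ideal.comap_isPrime _ _
  have hqp : q.under R = p := ((o.symm ⟨M, hM.isPrime⟩).2.2.over).symm
  refine ⟨f, q, ?_, hq, ?_, hqp, fun s hs => ?_⟩
  · rintro rfl
    rw [TensorProduct.tmul_zero] at hf1
    exact nonZeroDivisors.ne_zero hf1 rfl
  · show φ f ∈ M
    rw [show φ f = (1 : p.ResidueField) ⊗ₜ[R] f from rfl, ← hrf]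
    exact Submodule.smul_of_tower_mem M r hzM
  · have h0 : φ (f * s) = 0 := by
      have hle : p.map (algebraMap R S) ≤ RingHom.ker φ := by
        refine Ideal.map_le_iff_le_comap.2 fun a ha => ?_
        show φ (algebraMap R S a) = 0
        rw [AlgHom.commutes, IsScalarTower.algebraMap_apply R p.ResidueField F,
          Ideal.algebraMap_residueField_eq_zero.2 ha, map_zero]
      exact hle hs
    rw [map_mul] at h0
    obtain ⟨t, ht, hts⟩ := exists_mem_of_one_tmul_eq_zero p s
      ((mul_left_mem_nonZeroDivisors_eq_zero_iff hf1).1 h0)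
    exact ⟨_, fun h => ht (hqp ▸ h), hts⟩

end

/-- A finite type algebra, flat at a point, cut and localised until quasi-finite. -/
theorem exists_qf_at {R : Type u} [CommRing R] [IsNoetherianRing R] {S₀ : Type u} [CommRing S₀]
    [Algebra R S₀] [IsNoetherianRing S₀] (p : Ideal R) [p.IsPrime] :
    ∀ (K : Ideal S₀) (T : Type u) [CommRing T] [Algebra R T] [Algebra.FiniteType R T] [Module.Flat R T]
      (ψ : S₀ →ₐ[R] T), RingHom.ker ψ = K →
      (∀ t : T, ∃ s u : S₀, IsUnit (ψ u) ∧ t * ψ u = ψ s) →
      (∃ q : Ideal T, q.IsPrime ∧ q.under R = p) →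
      ∃ (T' : Type u) (_ : CommRing T') (_ : Algebra R T') (_ : S₀ →ₐ[R] T'),
        Algebra.FiniteType R T' ∧ Module.Flat R T' ∧ Algebra.QuasiFinite R T' ∧
          ∃ q : Ideal T', q.IsPrime ∧ q.under R = p := by
  intro K
  induction K using (IsNoetherian.wf (R := S₀) (M := S₀) inferInstance).induction with
  | _ K IH =>
    intro T _ _ _ _ ψ hK hLQ hq
    have : IsNoetherianRing T := Algebra.FiniteType.isNoetherianRing R T
    by_cases hne : ∃ q r : Ideal T, q.IsPrime ∧ r.IsPrime ∧ q.under R = p ∧ r.under R = p ∧ q < r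
    · obtain ⟨f, q, hf0, _, hfq, hqp, hnzd⟩ := exists_cut p hne
      have : q.LiesOver p := ⟨hqp.symm⟩
      have hflat := flat_at_quotient p q f hnzd
      let T₁ := T ⧸ Ideal.span {f}
      let mk : T →ₐ[R] T₁ := Ideal.Quotient.mkₐ R _
      have : Algebra.FiniteType R T₁ := Algebra.FiniteType.of_surjective mk Ideal.Quotient.mk_surjective
      have : IsNoetherianRing T₁ := inferInstance
      have : Algebra.FinitePresentation R T := Algebra.FinitePresentation.of_finiteType.1 inferInstance
      have : Module.FinitePresentation T T₁ := Module.finitePresentation_of_finite T T₁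
      obtain ⟨_, ⟨g, rfl⟩, hgq, hgsub⟩ :=
        PrimeSpectrum.isTopologicalBasis_basic_opens.exists_subset_of_mem_open
          (show (⟨q, inferInstance⟩ : PrimeSpectrum T) ∈ {x : PrimeSpectrum T |
            Module.Flat R (LocalizedModule x.asIdeal.primeCompl T₁)} from hflat)
          (S0387.result (R := R) (S := T) (M := T₁))
      let T' := Localization.Away (mk g)
      let ι : T →ₐ[R] T' := (IsScalarTower.toAlgHom R T₁ T').comp mk
      have : Algebra.FiniteType R T' :=
        Algebra.FiniteType.trans (R := R) (S := T₁) (A := T') inferInstance inferInstance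
      have : Module.Flat R T' := by
        have : IsScalarTower T T₁ T' := inferInstance
        have : IsScalarTower R T T' := inferInstance
        have : IsLocalizedModule (Submonoid.powers g) (IsScalarTower.toAlgHom T T₁ T').toLinearMap := by
          rw [isLocalizedModule_iff_isLocalization]
          have : Algebra.algebraMapSubmonoid T₁ (Submonoid.powers g) = Submonoid.powers (mk g) := by
            rw [Algebra.algebraMapSubmonoid, Submonoid.map_powers]
            rfl
          rw [this]
          infer_instance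
        refine Module.flat_of_isLocalized_maximal (R := R) T' T' (fun P => Localization.AtPrime P)
          (fun P => Algebra.linearMap T' (Localization.AtPrime P)) fun P _ => ?_
        have hP : P.under T ∈ {x : Ideal T | ∃ h : x.IsPrime,
            Module.Flat R (LocalizedModule x.primeCompl T₁)} := by
          refine ⟨inferInstance, @hgsub ⟨P.under T, inferInstance⟩ (show g ∉ P.under T from fun h => ?_)⟩
          exact Ideal.IsPrime.ne_top inferInstance (P.eq_top_of_isUnit_mem h
            (IsLocalization.Away.algebraMap_isUnit (mk g)))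
        obtain ⟨_, hP⟩ := hP
        let g₁ : T₁ →ₗ[T] Localization.AtPrime P :=
          ((Algebra.linearMap T' (Localization.AtPrime P)).restrictScalars T).comp
            (IsScalarTower.toAlgHom T T₁ T').toLinearMap
        have : IsLocalizedModule (P.under T).primeCompl g₁ := by
          have hfn : g₁ = (IsScalarTower.toAlgHom T T₁ (Localization.AtPrime P)).toLinearMap :=
            LinearMap.ext fun x => (IsScalarTower.algebraMap_apply T₁ T' _ x).symm
          rw [hfn, isLocalizedModule_iff_isLocalization]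
          have h1 : Algebra.algebraMapSubmonoid T₁ (P.under T).primeCompl = (P.under T₁).primeCompl := by
            ext x
            constructor
            · rintro ⟨y, hy, rfl⟩
              exact fun h => hy h
            · intro hx
              obtain ⟨y, rfl⟩ := Ideal.Quotient.mk_surjective x
              exact ⟨y, hx, rfl⟩
          rw [h1]
          exact IsLocalization.isLocalization_isLocalization_atPrime_isLocalization
            (Submonoid.powers (mk g)) (Localization.AtPrime P) P
        exact Module.Flat.of_linearEquiv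
          ((IsLocalizedModule.iso (P.under T).primeCompl g₁).restrictScalars R).symm
      have hLQ' : ∀ t : T', ∃ s u : S₀, IsUnit (ι (ψ u)) ∧ t * ι (ψ u) = ι (ψ s) := by
        intro t
        obtain ⟨a, ⟨_, n, rfl⟩, rfl⟩ := IsLocalization.exists_mk'_eq (Submonoid.powers (mk g)) t
        obtain ⟨a, rfl⟩ := Ideal.Quotient.mk_surjective a
        obtain ⟨s, u, hu, hs⟩ := hLQ a
        obtain ⟨s', u', hu', hs'⟩ := hLQ g
        refine ⟨s * u' ^ n, u * s' ^ n, ?_, ?_⟩
        · rw [map_mul, map_mul, map_pow, map_pow, ← hs', map_mul]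
          refine (hu.map ι).mul (((?_ : IsUnit (ι g)).mul (hu'.map ι)).pow n)
          exact IsLocalization.Away.algebraMap_isUnit (mk g)
        · have h2 : IsLocalization.mk' T' (mk a)
              (⟨mk g ^ n, n, rfl⟩ : Submonoid.powers (mk g)) * ι g ^ n = ι a := by
            rw [show ι g ^ n = algebraMap T₁ T' (mk g ^ n) from (map_pow _ _ _).symm]
            exact IsLocalization.mk'_spec T' (mk a) _
          rw [map_mul, map_mul, map_mul, map_mul, map_pow, map_pow, map_pow, map_pow, ← hs', ← hs,
            map_mul, map_mul, mul_pow, ← h2, show (Ideal.Quotient.mk (Ideal.span {f})) a = mk a from rfl]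
          ring
      have hlt : K < RingHom.ker (ι.comp ψ) := by
        refine lt_of_le_of_ne (fun x hx => ?_) fun he => ?_
        · rw [← hK] at hx
          show ι (ψ x) = 0
          rw [RingHom.mem_ker.1 hx, map_zero]
        · obtain ⟨s, u, hu, hs⟩ := hLQ f
          have : s ∈ RingHom.ker (ι.comp ψ) := by
            show ι (ψ s) = 0
            rw [← hs, map_mul, show ι f = 0 from ?_, zero_mul]
            show algebraMap T₁ T' (mk f) = 0
            rw [show mk f = 0 from Ideal.Quotient.eq_zero_iff_mem.2 (Ideal.mem_span_singleton_self f),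
              map_zero]
          rw [← he, ← hK, RingHom.mem_ker, ← hs] at this
          exact hf0 (hu.mul_left_eq_zero.1 this)
      refine IH _ hlt T' (ι.comp ψ) rfl hLQ' ?_
      let q₁ := q.map mk
      have hq₁ : q₁.IsPrime := Ideal.map_isPrime_of_surjective (f := mk) Ideal.Quotient.mk_surjective
        (by
          intro x hx
          have hx' : x ∈ Ideal.span {f} := Ideal.Quotient.eq_zero_iff_mem.1 hx
          exact (Ideal.span_le.2 (Set.singleton_subset_iff.2 hfq)) hx')
      have hgq₁ : ∀ y, mk y ∈ q₁ → y ∈ q := fun y hy => by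
        obtain ⟨x, hx, hxy⟩ := (Ideal.mem_map_iff_of_surjective mk Ideal.Quotient.mk_surjective).1 hy
        have := Ideal.Quotient.eq.1 hxy
        have h4 : x - y ∈ q := (Ideal.span_le.2 (Set.singleton_subset_iff.2 hfq)) this
        simpa using q.sub_mem hx h4
      have hd : Disjoint (Submonoid.powers (mk g) : Set T₁) q₁ := by
        rw [Set.disjoint_left]
        rintro _ ⟨n, rfl⟩ h
        exact hgq (hgq₁ g (hq₁.mem_of_pow_mem n h))
      refine ⟨q₁.map (algebraMap T₁ T'), IsLocalization.isPrime_of_isPrime_disjoint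
        (Submonoid.powers (mk g)) _ _ hq₁ hd, ?_⟩
      rw [← Ideal.under_under (B := T₁),
        IsLocalization.under_map_of_isPrime_disjoint (Submonoid.powers (mk g)) T' hq₁ hd, ← hqp]
      ext x
      exact ⟨fun h => hgq₁ _ (by rwa [Ideal.mem_comap, IsScalarTower.algebraMap_apply R T T₁] at h),
        fun h => by
          rw [Ideal.mem_comap, IsScalarTower.algebraMap_apply R T T₁]
          exact Ideal.mem_map_of_mem mk h⟩
    · push Not at hne
      obtain ⟨q, hqp, hq'⟩ := hq
      have huniq : ∀ r : Ideal T, r.IsPrime → r.under R = q.under R → (q ≤ r ∨ r ≤ q) → r = q := by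
        intro r hr hrq h
        rw [hq'] at hrq
        rcases h with h | h
        · by_contra hne'
          exact hne q r hqp hr hq' hrq (lt_of_le_of_ne h (Ne.symm hne'))
        · by_contra hne'
          exact hne r q hr hqp hrq hq' (lt_of_le_of_ne h hne')
      have := E4O.quasiFiniteAt_of_forall_comparable q huniq
      obtain ⟨g, hgq, hqf⟩ := exists_quasiFinite_away (R := R) q
      let T' := Localization.Away g
      refine ⟨T', inferInstance, inferInstance, (IsScalarTower.toAlgHom R T T').comp ψ,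
        Algebra.FiniteType.trans (R := R) (S := T) (A := T') inferInstance inferInstance,
        Module.Flat.trans R T T', hqf, ?_⟩
      have hd : Disjoint (Submonoid.powers g : Set T) q := by
        rw [Set.disjoint_left]
        rintro _ ⟨n, rfl⟩ h
        exact hgq (hqp.mem_of_pow_mem n h)
      refine ⟨q.map (algebraMap T T'), IsLocalization.isPrime_of_isPrime_disjoint
        (Submonoid.powers g) _ _ hqp hd, ?_⟩
      rw [← Ideal.under_under (B := T),
        IsLocalization.under_map_of_isPrime_disjoint (Submonoid.powers g) T' hqp hd]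
      exact hq'

theorem exists_qf_cover {R : Type u} [CommRing R] [IsNoetherianRing R] {S : Type u} [CommRing S]
    [Algebra R S] [Algebra.FiniteType R S] [Module.Flat R S] :
    ∃ (T : Type u) (_ : CommRing T) (_ : Algebra R T) (_ : S →ₐ[R] T),
      Algebra.FiniteType R T ∧ Module.Flat R T ∧ Algebra.QuasiFinite R T ∧
        Set.range (PrimeSpectrum.comap (algebraMap R S)) ⊆ Set.range (PrimeSpectrum.comap (algebraMap R T)) := by
  classical
  have : IsNoetherianRing S := Algebra.FiniteType.isNoetherianRing R S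
  let U := Set.range (PrimeSpectrum.comap (algebraMap R S))
  have key : ∀ x ∈ U, ∃ (T : Type u) (_ : CommRing T) (_ : Algebra R T) (_ : S →ₐ[R] T),
      Algebra.FiniteType R T ∧ Module.Flat R T ∧ Algebra.QuasiFinite R T ∧
        x ∈ Set.range (PrimeSpectrum.comap (algebraMap R T)) := by
    rintro x ⟨y, rfl⟩
    obtain ⟨T, _, _, φ, h1, h2, h3, q, hq, hqp⟩ := exists_qf_at
      (y.comap (algebraMap R S)).asIdeal _ S (AlgHom.id R S) rfl
      (fun t => ⟨t, 1, by simp, by simp⟩) ⟨y.asIdeal, y.2, rfl⟩
    exact ⟨T, _, _, φ, h1, h2, h3, ⟨q, hq⟩, PrimeSpectrum.ext hqp⟩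
  choose T _ _ φ hft hfl hqf hmem using key
  let V : U → Set (PrimeSpectrum R) := fun x => Set.range (PrimeSpectrum.comap (algebraMap R (T x.1 x.2)))
  have hopen : ∀ x, IsOpen (V x) := fun x => by
    have := hft x.1 x.2
    have := hfl x.1 x.2
    have : Algebra.FinitePresentation R (T x.1 x.2) := Algebra.FinitePresentation.of_finiteType.1 inferInstance
    exact (PrimeSpectrum.isOpenMap_comap_of_hasGoingDown_of_finitePresentation).isOpen_range
  obtain ⟨s, hs⟩ := (TopologicalSpace.NoetherianSpace.isCompact U).elim_finite_subcover V hopen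
    (fun x hx => Set.mem_iUnion.2 ⟨⟨x, hx⟩, hmem x hx⟩)
  suffices ∀ t : Finset U, ∃ (A : Type u) (_ : CommRing A) (_ : Algebra R A) (_ : S →ₐ[R] A),
      Algebra.FiniteType R A ∧ Module.Flat R A ∧ Algebra.QuasiFinite R A ∧
        (⋃ x ∈ t, V x) ⊆ Set.range (PrimeSpectrum.comap (algebraMap R A)) by
    obtain ⟨A, _, _, φ', h1, h2, h3, h4⟩ := this s
    exact ⟨A, _, _, φ', h1, h2, h3, hs.trans h4⟩
  intro t
  induction t using Finset.induction_on with
  | empty =>
    have h0 : Algebra.FiniteType R (R ⧸ (⊤ : Ideal R)) := inferInstance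
    have : Subsingleton (R ⧸ (⊤ : Ideal R)) := Ideal.Quotient.subsingleton_iff.2 rfl
    let z : S →ₐ[R] R ⧸ (⊤ : Ideal R) :=
      { toFun := fun _ => 0
        map_one' := Subsingleton.elim _ _
        map_mul' := fun _ _ => Subsingleton.elim _ _
        map_zero' := rfl
        map_add' := fun _ _ => (add_zero _).symm
        commutes' := fun _ => Subsingleton.elim _ _ }
    exact ⟨R ⧸ (⊤ : Ideal R), inferInstance, inferInstance, z, h0, inferInstance, inferInstance,
      by simp⟩
  | insert a t _ ih =>
    obtain ⟨A, _, _, φ', h1, h2, h3, h4⟩ := ih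
    have := hft a.1 a.2
    have := hfl a.1 a.2
    have := hqf a.1 a.2
    have hqfp : Algebra.QuasiFinite R (T a.1 a.2 × A) := by
      rw [Algebra.QuasiFinite.iff_finite_comap_preimage_singleton]
      intro P
      have e := PrimeSpectrum.primeSpectrumProd (T a.1 a.2) A
      refine Set.Finite.subset (((Algebra.QuasiFinite.finite_comap_preimage_singleton (S := T a.1 a.2) P).image
        (PrimeSpectrum.comap (RingHom.fst (T a.1 a.2) A))).union
        ((Algebra.QuasiFinite.finite_comap_preimage_singleton (S := A) P).image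
        (PrimeSpectrum.comap (RingHom.snd (T a.1 a.2) A)))) ?_
      intro y hy
      rcases Ideal.ideal_prod_prime _ |>.1 y.2 with ⟨I, hI, hy'⟩ | ⟨J, hJ, hy'⟩
      · have he : PrimeSpectrum.comap (RingHom.fst (T a.1 a.2) A) ⟨I, hI⟩ = y := by
          ext1
          rw [hy']
          ext z
          simp [Ideal.mem_prod]
        exact Or.inl ⟨⟨I, hI⟩, by rw [← he] at hy; exact hy, he⟩
      · have he : PrimeSpectrum.comap (RingHom.snd (T a.1 a.2) A) ⟨J, hJ⟩ = y := by
          ext1
          rw [hy']
          ext z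
          simp [Ideal.mem_prod]
        exact Or.inr ⟨⟨J, hJ⟩, by rw [← he] at hy; exact hy, he⟩
    have : Module.Flat R (T a.1 a.2 × A) := FlatCrit65.flat_prod _ _
    refine ⟨T a.1 a.2 × A, inferInstance, inferInstance, (φ a.1 a.2).prod φ', inferInstance,
      inferInstance, hqfp, ?_⟩
    rw [Finset.set_biUnion_insert]
    refine Set.union_subset ?_ ?_
    · rintro _ ⟨y, rfl⟩
      exact ⟨PrimeSpectrum.comap (RingHom.fst (T a.1 a.2) A) y, rfl⟩
    · intro x hx
      obtain ⟨y, rfl⟩ := h4 hx
      exact ⟨PrimeSpectrum.comap (RingHom.snd (T a.1 a.2) A) y, rfl⟩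

theorem mem_range_comap_baseChange {R₀ R T : Type u} [CommRing R₀] [CommRing R] [CommRing T]
    [Algebra R₀ R] [Algebra R₀ T] (x : PrimeSpectrum R)
    (h : PrimeSpectrum.comap (algebraMap R₀ R) x ∈ Set.range (PrimeSpectrum.comap (algebraMap R₀ T))) :
    x ∈ Set.range (PrimeSpectrum.comap (algebraMap R (R ⊗[R₀] T))) := by
  rw [← PrimeSpectrum.nontrivial_iff_mem_rangeComap] at h ⊢
  let p₀ := (PrimeSpectrum.comap (algebraMap R₀ R) x).asIdeal
  let k₀ := p₀.ResidueField
  let k := x.asIdeal.ResidueField
  let _ : Algebra k₀ k := (Ideal.ResidueField.map p₀ x.asIdeal (algebraMap R₀ R) rfl).toAlgebra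
  have : IsScalarTower R₀ k₀ k := IsScalarTower.of_algebraMap_eq fun r => by
    rw [RingHom.algebraMap_toAlgebra, Ideal.ResidueField.map_algebraMap, ← IsScalarTower.algebraMap_apply]
  have e : k ⊗[k₀] (k₀ ⊗[R₀] T) ≃ₗ[k] k ⊗[R₀] T :=
    TensorProduct.AlgebraTensorModule.cancelBaseChange R₀ k₀ k k T
  have e' : k ⊗[R] (R ⊗[R₀] T) ≃ₗ[k] k ⊗[R₀] T :=
    TensorProduct.AlgebraTensorModule.cancelBaseChange R₀ R k k T
  have : Nontrivial (k₀ ⊗[R₀] T) := h
  have hi : Function.Injective
      (Algebra.TensorProduct.includeRight : (k₀ ⊗[R₀] T) →ₐ[k₀] k ⊗[k₀] (k₀ ⊗[R₀] T)) :=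
    Algebra.TensorProduct.includeRight_injective (algebraMap k₀ k).injective
  have : Nontrivial (k ⊗[k₀] (k₀ ⊗[R₀] T)) := hi.nontrivial
  exact (e'.toEquiv.trans e.toEquiv.symm).nontrivial

theorem exists_flat_algebra_model (R S : Type u) [CommRing R] [CommRing S] [Algebra R S]
    [Module.Flat R S] [Algebra.FinitePresentation R S] :
    ∃ (R₀ S₁ : Type u) (_ : CommRing R₀) (_ : Algebra R₀ R) (_ : CommRing S₁) (_ : Algebra R₀ S₁),
      IsNoetherianRing R₀ ∧ Algebra.FiniteType R₀ S₁ ∧ Module.Flat R₀ S₁ ∧
        Nonempty (R ⊗[R₀] S₁ ≃ₐ[R] S) := by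
  obtain ⟨A₀, B₀, _, _, e, hN, hfp, -⟩ := Cons62.exists_model (A := R) (B := S) (t := ∅) Set.finite_empty
  haveI : Module.Flat R (R ⊗[A₀] B₀) := Module.Flat.of_linearEquiv e.toLinearEquiv
  haveI : Algebra.FiniteType A₀ B₀ := inferInstance
  obtain ⟨C, hC, hflat⟩ := FlatStage64.exists_fg_flat (R := A₀) B₀ (M := B₀) R inferInstance
  haveI : Algebra.FiniteType A₀ C := (Subalgebra.fg_iff_finiteType C).mp hC
  refine ⟨C, C ⊗[A₀] B₀, inferInstance, inferInstance, inferInstance, inferInstance,
    Algebra.FiniteType.isNoetherianRing A₀ C, inferInstance, hflat C le_rfl,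
    ⟨(Algebra.TensorProduct.cancelBaseChange A₀ C R R B₀).trans e⟩⟩

theorem exists_qf_refinement (R S : Type u) [CommRing R] [CommRing S] [Algebra R S]
    [Module.FaithfullyFlat R S] [Algebra.FinitePresentation R S] :
    ∃ (S' : Type u) (_ : CommRing S') (_ : Algebra R S'),
      Algebra.QuasiFinite R S' ∧ Algebra.FiniteType R S' ∧ Module.FaithfullyFlat R S' ∧
        Algebra.FinitePresentation R S' ∧ Nonempty (S →ₐ[R] S') := by
  obtain ⟨R₀, S₁, _, _, _, _, h0, h1, h2, ⟨ψ⟩⟩ := exists_flat_algebra_model R S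
  have := h0; have := h1; have := h2
  obtain ⟨T, _, _, φ, hT1, hT2, hT3, hT4⟩ := exists_qf_cover (R := R₀) (S := S₁)
  have : Algebra.FinitePresentation R₀ T := Algebra.FinitePresentation.of_finiteType.1 hT1
  refine ⟨R ⊗[R₀] T, inferInstance, inferInstance, inferInstance, inferInstance, ?_, inferInstance,
    ⟨(Algebra.TensorProduct.map (AlgHom.id R R) φ).comp ψ.symm.toAlgHom⟩⟩
  refine Module.FaithfullyFlat.of_comap_surjective fun x => ?_
  refine mem_range_comap_baseChange x (hT4 ?_)
  have := h0; have := h1; have := h2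
  obtain ⟨y, rfl⟩ := PrimeSpectrum.comap_surjective_of_faithfullyFlat (A := R) (B := S) x
  let i : S₁ →+* S := ψ.toRingHom.comp
    (Algebra.TensorProduct.includeRight : S₁ →ₐ[R₀] R ⊗[R₀] S₁).toRingHom
  refine ⟨PrimeSpectrum.comap i y, ?_⟩
  rw [← PrimeSpectrum.comap_comp_apply, ← PrimeSpectrum.comap_comp_apply]
  refine congrArg (fun φ => PrimeSpectrum.comap φ y) (RingHom.ext fun r => ?_)
  show ψ ((1 : R) ⊗ₜ algebraMap R₀ S₁ r) = algebraMap R S (algebraMap R₀ R r)
  rw [← ψ.commutes (algebraMap R₀ R r), Algebra.TensorProduct.algebraMap_apply,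
    Algebra.algebraMap_self_apply, Algebra.algebraMap_eq_smul_one, Algebra.algebraMap_eq_smul_one,
    ← TensorProduct.smul_tmul]

end Groth.Agent.CAlg5
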