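import Mathlib
import Groth.Agent.Ega11.RegSeq
import Groth.Agent.CAlg5.ColimSys
import Groth.Agent.CAlg5.RegularHom

/-! Regular maps as colimits of smooth algebras. -/

set_option autoImplicit false
universe u

open TensorProduct

namespace Groth.Agent.CAlg5

theorem isRegularRing_colim {ι : Type u} [Preorder ι] [IsDirectedOrder ι] [Nonempty ι]
    (T : ι → Type u) [∀ i, CommRing (T i)] [∀ i, IsRegularRing (T i)]
    (L : Type u) [CommRing L] [IsNoetherianRing L]
    (ψ : ∀ i j, i ≤ j → T i →+* T j) (φ : ∀ i, T i →+* L)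
    (compat : ∀ i j (h : i ≤ j) x, φ j (ψ i j h x) = φ i x)
    (hsurj : ∀ y : L, ∃ i x, φ i x = y)
    (hker : ∀ i (x : T i), φ i x = 0 → ∃ j, ∃ h : i ≤ j, ψ i j h x = 0)
    (hcomp : ∀ i j k (hij : i ≤ j) (hjk : j ≤ k) x, ψ j k hjk (ψ i j hij x) = ψ i k (hij.trans hjk) x) :
    IsRegularRing L := by
  refine isRegularRing_iff.mpr fun Q _ => ?_
  let P := fun i => Q.comap (φ i)
  have hP : ∀ i, (P i).IsPrime := fun i => Ideal.IsPrime.comap _
  have hP' : ∀ i j (h : i ≤ j), P i = (P j).comap (ψ i j h) := fun i j h => by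
    ext x; show φ i x ∈ Q ↔ φ j (ψ i j h x) ∈ Q; rw [compat]
  have : IsNoetherianRing (Localization.AtPrime Q) := IsLocalization.isNoetherianRing Q.primeCompl _ inferInstance
  have : ∀ i, IsRegularLocalRing (Localization.AtPrime (P i)) := fun i =>
    IsRegularRing.isRegularLocalRing_localization _
  let Φ := fun i => Localization.localRingHom (P i) Q (φ i) rfl
  have : ∀ i, IsLocalHom (Φ i) := fun i => Localization.isLocalHom_localRingHom _ _ _ rfl
  let Ψ := fun i j h => Localization.localRingHom (P i) (P j) (ψ i j h) (hP' i j h)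
  refine Ega11.RegLocal.regular_of_cocone (fun i => Localization.AtPrime (P i)) (Localization.AtPrime Q)
    Ψ Φ ?_ ?_ ?_ ?_
  · intro i j h x
    obtain ⟨⟨a, s⟩, rfl⟩ := IsLocalization.mk'_surjective (P i).primeCompl x
    simp only [Ψ, Φ, Localization.localRingHom_mk', compat]
  · intro y
    obtain ⟨⟨a, s⟩, rfl⟩ := IsLocalization.mk'_surjective Q.primeCompl y
    obtain ⟨i, a', ha⟩ := hsurj a
    obtain ⟨j, s', hs⟩ := hsurj s.1
    obtain ⟨k, hik, hjk⟩ := exists_ge_ge i j
    have hsk : ψ j k hjk s' ∈ (P k).primeCompl := fun h => s.2 (by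
      have h' : φ k (ψ j k hjk s') ∈ Q := h
      rwa [compat, hs] at h')
    refine ⟨k, IsLocalization.mk' _ (ψ i k hik a') ⟨_, hsk⟩, ?_⟩
    simp only [Φ, Localization.localRingHom_mk', compat, ha, hs]
  · intro i x hx
    obtain ⟨⟨a, s⟩, rfl⟩ := IsLocalization.mk'_surjective (P i).primeCompl x
    simp only [Φ, Localization.localRingHom_mk', IsLocalization.mk'_eq_zero_iff] at hx
    obtain ⟨⟨v, hv⟩, hva⟩ := hx
    obtain ⟨i', v', hv'⟩ := hsurj v
    obtain ⟨k, hik, hik'⟩ := exists_ge_ge i i'
    obtain ⟨j, hkj, hj⟩ := hker k (ψ i' k hik' v' * ψ i k hik a) (by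
      rw [map_mul, compat, compat, hv']; exact hva)
    refine ⟨j, hik.trans hkj, ?_⟩
    simp only [Ψ, Localization.localRingHom_mk', IsLocalization.mk'_eq_zero_iff]
    refine ⟨⟨ψ i' j (hik'.trans hkj) v', fun h => hv (by
      have h' : φ j (ψ i' j (hik'.trans hkj) v') ∈ Q := h
      rwa [compat, hv'] at h')⟩, ?_⟩
    rw [map_mul, hcomp, hcomp] at hj
    exact hj
  · intro i j k hij hjk x
    obtain ⟨⟨a, s⟩, rfl⟩ := IsLocalization.mk'_surjective (P i).primeCompl x
    simp only [Ψ, Localization.localRingHom_mk', hcomp]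

theorem flat_of_colimSys {R : Type u} [CommRing R] {ι : Type u} {G : ι → Type u} [∀ i, CommRing (G i)]
    [∀ i, Algebra R (G i)] {A : Type u} [CommRing A] [Algebra R A] {g : ∀ i, G i →ₐ[R] A}
    (hs : ColimSys R G A g) (hflat : ∀ i, Module.Flat R (G i)) : Module.Flat R A := by
  rw [Module.Flat.iff_rTensor_preserves_injective_linearMap]
  intro N P _ _ _ _ f hf
  rw [injective_iff_map_eq_zero]
  intro z hz
  obtain ⟨i0⟩ := hs.nonempty
  obtain ⟨i, h, -, y, rfl⟩ := hs.exists_tensor_lift N z i0
  have hcomm : ∀ {U V : Type u} [CommRing U] [Algebra R U] [CommRing V] [Algebra R V] (θ : U →ₐ[R] V)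
      (t : N ⊗[R] U), θ.toLinearMap.lTensor P (f.rTensor U t) = f.rTensor V (θ.toLinearMap.lTensor N t) :=
    fun θ t => by
      rw [← LinearMap.comp_apply, LinearMap.lTensor_comp_rTensor, ← LinearMap.rTensor_comp_lTensor,
        LinearMap.comp_apply]
  rw [← hcomm] at hz
  obtain ⟨l, h', hh', hk⟩ := hs.exists_tensor_kill P i _ hz
  rw [hcomm] at hk
  have h0 : h'.toLinearMap.lTensor N y = 0 :=
    Module.Flat.rTensor_preserves_injective_linearMap (M := G l) f hf (hk.trans (map_zero _).symm)
  rw [← hh', AlgHom.comp_toLinearMap, LinearMap.lTensor_comp_apply, h0, map_zero]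

theorem isRegularHom_of_smooth_system (R : Type u) [CommRing R] {ι : Type u} [Preorder ι]
    [IsDirectedOrder ι] [Nonempty ι] (G : ι → Type u) [∀ i, CommRing (G i)] [∀ i, Algebra R (G i)]
    (f : ∀ i j : ι, i ≤ j → (G i →ₐ[R] G j))
    (hf : ∀ i j k (hij : i ≤ j) (hjk : j ≤ k) x, f j k hjk (f i j hij x) = f i k (hij.trans hjk) x)
    (A : Type u) [CommRing A] [Algebra R A] (g : ∀ i, G i →ₐ[R] A)
    (hg : ∀ i j (h : i ≤ j), (g j).comp (f i j h) = g i) (hsurj : ∀ a : A, ∃ i, ∃ x, g i x = a)
    (hker : ∀ i (x : G i), g i x = 0 → ∃ j, ∃ h : i ≤ j, f i j h x = 0)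
    (hs : ∀ i, Algebra.Smooth R (G i))
    (hN : ∀ (p : Ideal R) [p.IsPrime], IsNoetherianRing (p.Fiber A)) : CAlg.IsRegularHom R A := by
  have hsys : ColimSys R G A g := ColimSys.of_directed f hg hsurj hker
  refine ⟨flat_of_colimSys hsys fun i => inferInstance, fun p _ => ⟨hN p, fun l _ _ _ => ?_⟩⟩
  let : Algebra R l := ((algebraMap p.ResidueField l).comp (algebraMap R p.ResidueField)).toAlgebra
  have : IsScalarTower R p.ResidueField l := IsScalarTower.of_algebraMap_eq fun _ => rfl
  have : IsNoetherianRing (l ⊗[p.ResidueField] (p.Fiber A)) :=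
    have := hN p
    have : IsNoetherianRing (p.Fiber A ⊗[p.ResidueField] l) := isNoetherian_of_tower (p.Fiber A) inferInstance
    isNoetherianRing_of_ringEquiv _ (Algebra.TensorProduct.comm p.ResidueField (p.Fiber A) l).toRingEquiv
  let e := (Algebra.TensorProduct.cancelBaseChange R p.ResidueField l l A).toRingEquiv
  have : IsNoetherianRing (l ⊗[R] A) := isNoetherianRing_of_ringEquiv _ e
  have : ∀ i, IsRegularRing (l ⊗[R] G i) := fun i => isRegularRing_of_smooth l (l ⊗[R] G i)
  have hreg : IsRegularRing (l ⊗[R] A) := by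
    refine isRegularRing_colim (fun i => l ⊗[R] G i) _
      (fun i j h => (Algebra.TensorProduct.map (AlgHom.id l l) (f i j h)).toRingHom)
      (fun i => (Algebra.TensorProduct.map (AlgHom.id l l) (g i)).toRingHom) ?_ ?_ ?_ ?_
    · intro i j h x
      induction x using TensorProduct.induction_on with
      | zero => simp only [map_zero]
      | add a b ha hb => simp only [map_add, ha, hb]
      | tmul a b =>
        show a ⊗ₜ g j (f i j h b) = a ⊗ₜ g i b
        rw [← AlgHom.comp_apply, hg]
    · intro z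
      obtain ⟨i, h, -, y, hy⟩ := hsys.exists_tensor_lift l z (Classical.arbitrary ι)
      refine ⟨i, y, ?_⟩
      rw [← hy]
      clear hy
      induction y using TensorProduct.induction_on with
      | zero => simp only [map_zero]
      | add a b ha hb => simp only [map_add, ha, hb]
      | tmul a b => rfl
    · intro i y hy
      have hy' : (g i).toLinearMap.lTensor l y = 0 := by
        rw [← hy]
        clear hy
        induction y using TensorProduct.induction_on with
        | zero => simp only [map_zero]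
        | add a b ha hb => simp only [map_add, ha, hb]
        | tmul a b => rfl
      obtain ⟨k, h, hh, hk⟩ := hsys.exists_tensor_kill l i y hy'
      classical
      obtain ⟨s, rfl⟩ := TensorProduct.exists_finset y
      have hstep : ∀ s' : Finset (l × G i), ∃ j, ∃ (hkj : k ≤ j) (hij : i ≤ j),
          ∀ a ∈ s', f k j hkj (h a.2) = f i j hij a.2 := by
        intro s'
        induction s' using Finset.induction_on with
        | empty =>
          obtain ⟨j, h1, h2⟩ := exists_ge_ge k i
          exact ⟨j, h1, h2, by simp⟩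
        | insert a s' _ ih =>
          obtain ⟨j, h1, h2, hj⟩ := ih
          obtain ⟨j', hjj', hz⟩ := hker j (f k j h1 (h a.2) - f i j h2 a.2) (by
            rw [map_sub, ← AlgHom.comp_apply, hg, ← AlgHom.comp_apply, hh, ← AlgHom.comp_apply, hg, sub_self])
          refine ⟨j', h1.trans hjj', h2.trans hjj', fun b hb => ?_⟩
          rw [← hf k j j' h1 hjj', ← hf i j j' h2 hjj']
          rcases Finset.mem_insert.mp hb with rfl | hb
          · rwa [map_sub, sub_eq_zero] at hz
          · rw [hj b hb]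
      obtain ⟨j, hkj, hij, hj⟩ := hstep s
      refine ⟨j, hij, ?_⟩
      have := congrArg ((f k j hkj).toLinearMap.lTensor l) hk
      rw [map_zero, map_sum, map_sum] at this
      rw [map_sum, ← this]
      exact Finset.sum_congr rfl fun a ha => by
        show a.1 ⊗ₜ f i j hij a.2 = a.1 ⊗ₜ f k j hkj (h a.2)
        rw [hj a ha]
    · intro i j k hij hjk x
      induction x using TensorProduct.induction_on with
      | zero => simp only [map_zero]
      | add a b ha hb => simp only [map_add, ha, hb]
      | tmul a b =>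
        show a ⊗ₜ f j k hjk (f i j hij b) = a ⊗ₜ f i k (hij.trans hjk) b
        rw [hf]
  exact IsRegularRing.of_ringEquiv e.symm

end Groth.Agent.CAlg5
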