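import Mathlib
import Groth.Agent.Brnch26.Emb

/-! Minimal and maximal primes of the normalization tensored with the strict henselization. -/

set_option autoImplicit false
set_option linter.style.haveILetI false

universe u

open IsLocalRing
open scoped TensorProduct

namespace Groth.Agent.CAlg5

/-- Every prime lies in exactly one maximal ideal and contains exactly one minimal prime. -/
structure PrimeOrder (R : Type*) [CommRing R] : Prop where
  uniqueMax : ∀ P : Ideal R, P.IsPrime →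
    ∃ Q : Ideal R, Q.IsMaximal ∧ P ≤ Q ∧ ∀ Q' : Ideal R, Q'.IsMaximal → P ≤ Q' → Q' = Q
  uniqueMin : ∀ Q : Ideal R, Q.IsPrime →
    ∃ P : Ideal R, P.IsPrime ∧ P ≤ Q ∧ ∀ P' : Ideal R, P'.IsPrime → P' ≤ Q → P ≤ P'

theorem PrimeOrder.of_ringEquiv {R S : Type*} [CommRing R] [CommRing S] (e : R ≃+* S)
    (h : PrimeOrder R) : PrimeOrder S where
  uniqueMax P hP := by
    obtain ⟨Q, hQ, hPQ, hu⟩ := h.uniqueMax (P.comap e.toRingHom) (Ideal.comap_isPrime _ _)
    refine ⟨Q.comap e.symm.toRingHom, Ideal.comap_isMaximal_of_surjective _ e.symm.surjective, fun x hx => ?_, fun Q' hQ' hle => ?_⟩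
    · exact hPQ (show e (e.symm x) ∈ P by rwa [e.apply_symm_apply])
    · haveI := hQ'
      rw [← hu (Q'.comap e.toRingHom) (Ideal.comap_isMaximal_of_surjective _ e.surjective) (Ideal.comap_mono hle)]
      ext x
      show _ ↔ e (e.symm x) ∈ Q'
      rw [e.apply_symm_apply]
  uniqueMin Q hQ := by
    obtain ⟨P, hP, hPQ, hu⟩ := h.uniqueMin (Q.comap e.toRingHom) (Ideal.comap_isPrime _ _)
    refine ⟨P.comap e.symm.toRingHom, Ideal.comap_isPrime _ _, fun x hx => ?_, fun P' hP' hle x hx => ?_⟩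
    · have := hPQ hx
      change e (e.symm x) ∈ Q at this
      rwa [e.apply_symm_apply] at this
    · have := hu (P'.comap e.toRingHom) (Ideal.comap_isPrime _ _) (Ideal.comap_mono hle) hx
      change e (e.symm x) ∈ P' at this
      rwa [e.apply_symm_apply] at this

theorem exists_eq_comap_eval {ι : Type*} [Finite ι] {R : ι → Type*} [∀ i, CommRing (R i)]
    (P : Ideal (∀ i, R i)) [P.IsPrime] :
    ∃ (i : ι) (q : Ideal (R i)), q.IsPrime ∧ P = q.comap (Pi.evalRingHom R i) := by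
  obtain ⟨⟨i, q⟩, hq⟩ := (PrimeSpectrum.sigmaToPi_bijective R).2 ⟨P, inferInstance⟩
  exact ⟨i, q.asIdeal, q.isPrime, (congrArg PrimeSpectrum.asIdeal hq).symm⟩

theorem eq_of_comap_eval_le {ι : Type*} {R : ι → Type*} [∀ i, CommRing (R i)] {i j : ι}
    {q : Ideal (R i)} {q' : Ideal (R j)} (hq' : q'.IsPrime)
    (h : q.comap (Pi.evalRingHom R i) ≤ q'.comap (Pi.evalRingHom R j)) : i = j := by
  classical
  by_contra hne
  have h1 : Pi.single j (1 : R j) ∈ q.comap (Pi.evalRingHom R i) := by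
    rw [Ideal.mem_comap, Pi.evalRingHom_apply, Pi.single_eq_of_ne hne]
    exact zero_mem _
  have h2 := h h1
  rw [Ideal.mem_comap, Pi.evalRingHom_apply, Pi.single_eq_same] at h2
  exact hq'.ne_top ((Ideal.eq_top_iff_one _).2 h2)

theorem le_of_comap_eval_le {ι : Type*} {R : ι → Type*} [∀ i, CommRing (R i)] {i : ι}
    {q q' : Ideal (R i)} (h : q.comap (Pi.evalRingHom R i) ≤ q'.comap (Pi.evalRingHom R i)) : q ≤ q' := by
  intro x hx
  obtain ⟨y, rfl⟩ := Function.surjective_eval i x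
  exact h hx

theorem primeOrder_pi {ι : Type*} [Finite ι] {R : ι → Type*} [∀ i, CommRing (R i)]
    (h : ∀ i, PrimeOrder (R i)) : PrimeOrder (∀ i, R i) where
  uniqueMax P hP := by
    obtain ⟨i, q, hq, rfl⟩ := exists_eq_comap_eval P
    obtain ⟨Q, hQ, hqQ, hu⟩ := (h i).uniqueMax q hq
    refine ⟨Q.comap (Pi.evalRingHom R i), Ideal.comap_isMaximal_of_surjective _ (Function.surjective_eval i),
      Ideal.comap_mono hqQ, fun Q' hQ' hle => ?_⟩
    haveI := hQ'.isPrime
    obtain ⟨j, q', hq', rfl⟩ := exists_eq_comap_eval Q'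
    obtain rfl := eq_of_comap_eval_le hq' hle
    obtain ⟨M, hM, hq'M⟩ := Ideal.exists_le_maximal q' hq'.ne_top
    have heq : q'.comap (Pi.evalRingHom R i) = M.comap (Pi.evalRingHom R i) :=
      hQ'.eq_of_le (Ideal.comap_ne_top _ hM.ne_top) (Ideal.comap_mono hq'M)
    rw [heq, hu M hM ((le_of_comap_eval_le hle).trans hq'M)]
  uniqueMin Q hQ := by
    obtain ⟨i, q, hq, rfl⟩ := exists_eq_comap_eval Q
    obtain ⟨P, hP, hPq, hu⟩ := (h i).uniqueMin q hq
    refine ⟨P.comap (Pi.evalRingHom R i), Ideal.comap_isPrime _ _, Ideal.comap_mono hPq,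
      fun P' hP' hle => ?_⟩
    obtain ⟨j, q', hq', rfl⟩ := exists_eq_comap_eval P'
    obtain rfl := eq_of_comap_eval_le hq hle
    exact Ideal.comap_mono (hu q' hq' (le_of_comap_eval_le hle))

theorem PrimeOrder.conclusion {R : Type*} [CommRing R] (h : PrimeOrder R) :
    (∀ q ∈ minimalPrimes R, ∃! m : Ideal R, m.IsMaximal ∧ q ≤ m) ∧
      (∀ m : Ideal R, m.IsMaximal → ∃! q : Ideal R, q ∈ minimalPrimes R ∧ q ≤ m) := by
  refine ⟨fun q hq => ?_, fun m hm => ?_⟩
  · obtain ⟨Q, hQ, hle, hu⟩ := h.uniqueMax q hq.1.1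
    exact ⟨Q, ⟨hQ, hle⟩, fun m hm => hu m hm.1 hm.2⟩
  · obtain ⟨P, hP, hle, hu⟩ := h.uniqueMin m hm.isPrime
    refine ⟨P, ⟨⟨⟨hP, bot_le⟩, fun P' hP' hle' => hu P' hP'.1 (hle'.trans hle)⟩, hle⟩, fun q hq => ?_⟩
    exact le_antisymm (hq.1.2 ⟨hP, bot_le⟩ (hu q hq.1.1.1 hq.2)) (hu q hq.1.1.1 hq.2)

section

variable (A : Type u) [CommRing A] [IsLocalRing A]
  (Ash : Type u) [CommRing Ash] [IsLocalRing Ash] [Algebra A Ash]
  [IsLocalHom (algebraMap A Ash)] [Hensel.IsStrictHenselization A Ash]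

/-- The field used for the strict henselization. -/
abbrev shK : Type u := SeparableClosure (ResidueField A)

theorem exists_tensor_equiv [Finite (minimalPrimes A)] :
    ∃ Φ : (CAlg2.normRed A ⊗[A] Ash) ≃+* (∀ p : minimalPrimes A, Brnch26.BC p (shK A)),
      ∀ (x : Ash) (p : minimalPrimes A), Φ ((1 : CAlg2.normRed A) ⊗ₜ x) p =
        Brnch26.inl p (shK A) ((Henz21.strictHenselizationEquiv (R := A) (S := Ash)).symm x) := by
  classical
  haveI := Fintype.ofFinite (minimalPrimes A)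
  obtain ⟨ψ, hψ⟩ := Brnch26.exists_normRed_equiv_pi (A := A)
  let Φ₁ : CAlg2.normRed A ≃ₐ[A] ∀ p : minimalPrimes A, Brnch26.Comp A p :=
    AlgEquiv.ofRingEquiv (f := ψ) fun a => funext fun p => hψ a p
  let e := Henz21.strictHenselizationEquiv (R := A) (S := Ash)
  let Φ : (CAlg2.normRed A ⊗[A] Ash) ≃ₐ[A] (∀ p : minimalPrimes A, Brnch26.BC p (shK A)) :=
    ((Algebra.TensorProduct.congr Φ₁ e.symm).trans (Algebra.TensorProduct.comm A _ _)).trans
      (Algebra.TensorProduct.piRight A A (Henz21.H A (shK A)) (fun p : minimalPrimes A => Brnch26.Comp A p))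
  refine ⟨Φ.toRingEquiv, fun x p => ?_⟩
  show Φ ((1 : CAlg2.normRed A) ⊗ₜ x) p = e.symm x ⊗ₜ (1 : Brnch26.Comp A p)
  simp [Φ]

variable {A} in
theorem primeOrder_bc (p : minimalPrimes A) : PrimeOrder (Brnch26.BC p (shK A)) where
  uniqueMax P hP := Brnch26.exists_isMaximal_unique_ge p P
  uniqueMin Q hQ := Brnch26.exists_isPrime_le_forall_le (A := A) (K := shK A) (D := Brnch26.Comp A p) Q

theorem primeOrder_tensor (hfin : (minimalPrimes A).Finite) :
    PrimeOrder (CAlg2.normRed A ⊗[A] Ash) := by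
  haveI := hfin.to_subtype
  obtain ⟨Φ, -⟩ := exists_tensor_equiv A Ash
  exact (primeOrder_pi (R := fun p : minimalPrimes A => Brnch26.BC p (shK A))
    fun p => primeOrder_bc (A := A) p).of_ringEquiv Φ.symm

theorem minimalPrimes_comap_equiv {R S : Type*} [CommRing R] [CommRing S] (e : R ≃+* S)
    {P : Ideal S} (hP : P ∈ minimalPrimes S) : P.comap e.toRingHom ∈ minimalPrimes R :=
  (Brnch26.minimalPrimesEquiv e ⟨P, hP⟩).2

theorem minimalPrimes_of_comap_eval {ι : Type*} [Finite ι] {R : ι → Type*} [∀ i, CommRing (R i)]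
    {i : ι} {q : Ideal (R i)} [q.IsPrime]
    (h : q.comap (Pi.evalRingHom R i) ∈ minimalPrimes (∀ j, R j)) : q ∈ minimalPrimes (R i) := by
  refine ⟨⟨inferInstance, bot_le⟩, fun q' hq' hle => ?_⟩
  haveI := hq'.1
  exact le_of_comap_eval_le (h.2 ⟨Ideal.comap_isPrime _ _, bot_le⟩ (Ideal.comap_mono hle))

theorem comap_eval_mem_minimalPrimes {ι : Type*} [Finite ι] {R : ι → Type*} [∀ i, CommRing (R i)]
    {i : ι} {q : Ideal (R i)} (h : q ∈ minimalPrimes (R i)) :
    q.comap (Pi.evalRingHom R i) ∈ minimalPrimes (∀ j, R j) := by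
  haveI := h.1.1
  refine ⟨⟨Ideal.comap_isPrime _ _, bot_le⟩, fun P' hP' hle => ?_⟩
  haveI := hP'.1
  obtain ⟨j, q', hq', rfl⟩ := exists_eq_comap_eval P'
  obtain rfl := eq_of_comap_eval_le h.1.1 hle
  exact Ideal.comap_mono (h.2 ⟨hq', bot_le⟩ (le_of_comap_eval_le hle))

variable {A} in
theorem exists_bc_prime (P : Ideal (Henz21.H A (shK A))) [P.IsPrime] (p : minimalPrimes A)
    (hPA : P.comap (algebraMap A (Henz21.H A (shK A))) = p.1) :
    ∃ P' : Ideal (Brnch26.BC p (shK A)), P'.IsPrime ∧ P'.comap (Brnch26.inl p (shK A)) = P := by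
  let H := Henz21.H A (shK A)
  let L := FractionRing (H ⧸ P)
  have hAL : ∀ a : A, algebraMap A L a = 0 ↔ a ∈ p.1 := fun a => by
    rw [← hPA, Ideal.mem_comap, IsScalarTower.algebraMap_apply A (H ⧸ P) L,
      IsFractionRing.to_map_eq_zero_iff]
    exact Ideal.Quotient.eq_zero_iff_mem
  let μ : A ⧸ p.1 →+* L := Ideal.Quotient.lift p.1 (algebraMap A L) fun a ha => (hAL a).2 ha
  have hu : ∀ s : nonZeroDivisors (A ⧸ p.1), IsUnit (μ s) := by
    rintro ⟨s, hs⟩
    obtain ⟨s, rfl⟩ := Ideal.Quotient.mk_surjective s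
    exact IsUnit.mk0 _ fun h0 => nonZeroDivisors.ne_zero hs
      (Ideal.Quotient.eq_zero_iff_mem.2 ((hAL s).1 h0))
  let θ : p.1.ResidueField →+* L := IsLocalization.lift hu
  have hθ : ∀ a, θ (algebraMap A p.1.ResidueField a) = algebraMap A L a := fun a => by
    rw [IsScalarTower.algebraMap_apply A (A ⧸ p.1) p.1.ResidueField, IsLocalization.lift_eq]
    rfl
  let g : Brnch26.Comp A p →ₐ[A] L :=
    { θ.comp (algebraMap (Brnch26.Comp A p) p.1.ResidueField) with commutes' := hθ }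
  let f : Brnch26.BC p (shK A) →ₐ[A] L :=
    Algebra.TensorProduct.productMap (IsScalarTower.toAlgHom A H L) g
  refine ⟨RingHom.ker f, RingHom.ker_isPrime _, ?_⟩
  ext h
  show f (h ⊗ₜ 1) = 0 ↔ _
  rw [Algebra.TensorProduct.productMap_apply_tmul, map_one, mul_one]
  show algebraMap H L h = 0 ↔ _
  rw [IsScalarTower.algebraMap_apply H (H ⧸ P) L,
    IsFractionRing.to_map_eq_zero_iff, Ideal.Quotient.algebraMap_eq, Ideal.Quotient.eq_zero_iff_mem]

theorem minimalPrimes_bijOn (hfin : (minimalPrimes A).Finite) :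
    Set.BijOn (fun P : Ideal ((CAlg2.normRed A) ⊗[A] Ash) =>
        P.comap (Algebra.TensorProduct.includeRight.toRingHom :
          Ash →+* (CAlg2.normRed A) ⊗[A] Ash))
      (minimalPrimes ((CAlg2.normRed A) ⊗[A] Ash))
      (minimalPrimes Ash) := by
  haveI := hfin.to_subtype
  obtain ⟨Φ, hΦ⟩ := exists_tensor_equiv A Ash
  let e := Henz21.strictHenselizationEquiv (R := A) (S := Ash)
  -- normal form of the map
  have hval : ∀ (p : minimalPrimes A) (q : Ideal (Brnch26.BC p (shK A))),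
      ((q.comap (Pi.evalRingHom (fun p : minimalPrimes A => Brnch26.BC p (shK A)) p)).comap Φ.toRingHom).comap
        (Algebra.TensorProduct.includeRight.toRingHom : Ash →+* (CAlg2.normRed A) ⊗[A] Ash) =
      (q.comap (Brnch26.inl p (shK A))).comap e.symm.toRingEquiv.toRingHom := by
    intro p q
    ext x
    show Φ ((1 : CAlg2.normRed A) ⊗ₜ x) p ∈ q ↔ _
    rw [hΦ]
    rfl
  have hform : ∀ P ∈ minimalPrimes ((CAlg2.normRed A) ⊗[A] Ash),
      ∃ (p : minimalPrimes A) (q : Ideal (Brnch26.BC p (shK A))), q ∈ minimalPrimes _ ∧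
        P = (q.comap (Pi.evalRingHom (fun p : minimalPrimes A => Brnch26.BC p (shK A)) p)).comap Φ.toRingHom := by
    intro P hP
    have hP' := minimalPrimes_comap_equiv (S := CAlg2.normRed A ⊗[A] Ash) Φ.symm hP
    haveI := hP'.1.1
    obtain ⟨p, q, hq, heq⟩ := exists_eq_comap_eval (P.comap Φ.symm.toRingHom)
    refine ⟨p, q, minimalPrimes_of_comap_eval (R := fun p : minimalPrimes A => Brnch26.BC p (shK A))
      (i := p) (heq ▸ hP'), ?_⟩
    rw [← heq]
    ext x
    show _ ↔ Φ.symm (Φ x) ∈ P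
    rw [Φ.symm_apply_apply]
  have hminH : ∀ (p : minimalPrimes A) (q : Ideal (Brnch26.BC p (shK A))), q ∈ minimalPrimes _ →
      (q.comap (Brnch26.inl p (shK A))).comap (algebraMap A (Henz21.H A (shK A))) = p.1 ∧
        q.comap (Brnch26.inl p (shK A)) ∈ minimalPrimes (Henz21.H A (shK A)) := by
    intro p q hq
    haveI := hq.1.1
    have h1 := Brnch26.comap_algebraMap_eq p (Brnch26.comap_inr_eq_bot_of_min p hq)
    refine ⟨h1, ⟨Ideal.comap_isPrime _ _, bot_le⟩, fun P' hP' hle => ?_⟩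
    haveI := hP'.1
    refine (Brnch26.eq_of_le_of_comap_eq hle (le_antisymm (Ideal.comap_mono hle) ?_)).ge
    rw [h1]
    exact p.2.2 ⟨Ideal.comap_isPrime _ _, bot_le⟩ (h1 ▸ Ideal.comap_mono hle)
  refine ⟨fun P hP => ?_, fun P₁ h₁ P₂ h₂ h => ?_, fun P hP => ?_⟩
  · obtain ⟨p, q, hq, rfl⟩ := hform P hP
    show Ideal.comap _ _ ∈ minimalPrimes Ash
    rw [hval p q]
    exact minimalPrimes_comap_equiv e.symm.toRingEquiv (hminH p q hq).2
  · obtain ⟨p₁, q₁, hq₁, rfl⟩ := hform P₁ h₁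
    obtain ⟨p₂, q₂, hq₂, rfl⟩ := hform P₂ h₂
    simp only at h
    rw [hval p₁ q₁, hval p₂ q₂] at h
    have h' := Ideal.comap_injective_of_surjective _ e.symm.toRingEquiv.surjective h
    obtain rfl : p₁ = p₂ := Subtype.ext (by rw [← (hminH p₁ q₁ hq₁).1, ← (hminH p₂ q₂ hq₂).1, h'])
    haveI := hq₁.1.1
    haveI := hq₂.1.1
    rw [le_antisymm (Brnch26.le_of_comap_le p₁ (Brnch26.comap_inr_eq_bot_of_min p₁ hq₂) h'.le)
      (Brnch26.le_of_comap_le p₁ (Brnch26.comap_inr_eq_bot_of_min p₁ hq₁) h'.ge)]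
  · have hPH := minimalPrimes_comap_equiv e.toRingEquiv hP
    haveI := hPH.1.1
    have hpA := Brnch26.minimalPrimes_comap_mem (A := A) (K := shK A) ⟨_, hPH⟩
    let p : minimalPrimes A := ⟨_, hpA⟩
    obtain ⟨P', hP', hP'H⟩ := exists_bc_prime (P.comap e.toRingEquiv.toRingHom) p rfl
    obtain ⟨q, hq, hqP'⟩ := Ideal.exists_minimalPrimes_le (bot_le (a := P'))
    refine ⟨(q.comap (Pi.evalRingHom (fun p : minimalPrimes A => Brnch26.BC p (shK A)) p)).comap Φ.toRingHom,
      minimalPrimes_comap_equiv (R := CAlg2.normRed A ⊗[A] Ash) Φ (comap_eval_mem_minimalPrimes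
        (R := fun p : minimalPrimes A => Brnch26.BC p (shK A)) (i := p) hq), ?_⟩
    show Ideal.comap _ _ = P
    rw [hval p q]
    have h1 : q.comap (Brnch26.inl p (shK A)) = P.comap e.toRingEquiv.toRingHom :=
      le_antisymm ((Ideal.comap_mono hqP').trans hP'H.le)
        (hPH.2 (hminH p q hq).2.1 ((Ideal.comap_mono hqP').trans hP'H.le))
    rw [h1]
    ext x
    show e (e.symm x) ∈ P ↔ _
    rw [e.apply_symm_apply]

end

end Groth.Agent.CAlg5
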