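import Mathlib
import Groth.Agent.MvInv51.Basic

/-! Substitution by series with invertible linear part is bijective. -/

set_option autoImplicit false
universe u

namespace Groth.Agent.CAlg5

open MvPowerSeries Groth.Agent.MvInv51

variable {R : Type u} [CommRing R] {n : ℕ}

theorem coeff_single_mul (g y : MvPowerSeries (Fin n) R) (hy : constantCoeff y = 0) (l : Fin n) :
    coeff (Finsupp.single l 1) (g * y) = constantCoeff g * coeff (Finsupp.single l 1) y := by
  have h2 : (g - C (constantCoeff g)) * y ∈ J (R := R) 2 :=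
    mul_mem_J (m := 1) (n := 1) (mem_J_one.2 (by simp)) (mem_J_one.2 hy)
  have h3 := (mem_J.1 h2) (Finsupp.single l 1) (by simp [Finsupp.degree_single])
  rw [sub_mul, map_sub, coeff_C_mul, sub_eq_zero] at h3
  exact h3

theorem sub_linear_mem_J_two (f : MvPowerSeries (Fin n) R) (hf : constantCoeff f = 0) :
    f - ∑ l, C (coeff (Finsupp.single l 1) f) * X l ∈ J (R := R) 2 := by
  classical
  refine mem_J.2 fun e he => ?_
  rw [map_sub, map_sum]
  rcases Nat.lt_or_ge e.degree 1 with h0 | h1
  · have he0 : e = 0 := (Finsupp.degree_eq_zero_iff e).1 (by omega)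
    subst he0
    rw [coeff_zero_eq_constantCoeff_apply, hf, Finset.sum_eq_zero, sub_zero]
    intro l _
    rw [coeff_C_mul, coeff_zero_eq_constantCoeff_apply, constantCoeff_X, mul_zero]
  · obtain ⟨l, rfl⟩ : ∃ l, e = Finsupp.single l 1 := by
      have hd : e.degree = 1 := by omega
      obtain ⟨l, hl⟩ : ∃ l, e l ≠ 0 := by
        by_contra hc
        push Not at hc
        have : e = 0 := Finsupp.ext hc
        simp [this] at hd
      refine ⟨l, Finsupp.ext fun m => ?_⟩
      have hle : e l ≤ e.degree := Finsupp.le_degree l e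
      by_cases hm : m = l
      · subst hm; simp; omega
      · rw [Finsupp.single_eq_of_ne hm]
        by_contra hne
        have : e l + e m ≤ e.degree := by
          rw [Finsupp.degree_eq_sum]
          calc e l + e m = ∑ i ∈ ({l, m} : Finset (Fin n)), e i := by
                rw [Finset.sum_pair (Ne.symm hm)]
            _ ≤ _ := Finset.sum_le_univ_sum_of_nonneg (fun _ => Nat.zero_le _)
        omega
    rw [Finset.sum_eq_single l]
    · rw [coeff_C_mul, coeff_index_single_self_X, mul_one, sub_self]
    · intro m _ hm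
      rw [coeff_C_mul, coeff_index_single_X, if_neg (Ne.symm hm), mul_zero]
    · simp

/-- substitution of a linear map -/
noncomputable def lin (M : Matrix (Fin n) (Fin n) R) (i : Fin n) : MvPowerSeries (Fin n) R :=
  ∑ j, C (M i j) * X j

theorem lin_constantCoeff (M : Matrix (Fin n) (Fin n) R) (i : Fin n) : constantCoeff (lin M i) = 0 := by
  simp [lin]

theorem subst_bijective_of_isUnit_det (y : Fin n → MvPowerSeries (Fin n) R)
    (hy0 : ∀ i, constantCoeff (y i) = 0)
    (hM : IsUnit (Matrix.det (Matrix.of fun i l => coeff (Finsupp.single l 1) (y i)))) :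
    Function.Bijective (subst y : MvPowerSeries (Fin n) R → MvPowerSeries (Fin n) R) := by
  classical
  set M : Matrix (Fin n) (Fin n) R := Matrix.of fun i l => coeff (Finsupp.single l 1) (y i)
  obtain ⟨N, hNM⟩ : ∃ N : Matrix (Fin n) (Fin n) R, N * M = 1 := ⟨M⁻¹, Matrix.nonsing_inv_mul M hM⟩
  have hMN : M * N = 1 := mul_eq_one_comm.mp hNM
  have hy := hasSubst_of_constantCoeff_zero hy0
  have hl : ∀ P : Matrix (Fin n) (Fin n) R, HasSubst (lin P) := fun P =>
    hasSubst_of_constantCoeff_zero (lin_constantCoeff P)
  have hllin : ∀ (P : Matrix (Fin n) (Fin n) R) (a : Fin n → MvPowerSeries (Fin n) R) (ha : HasSubst a) i,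
      subst a (lin P i) = ∑ j, C (P i j) * a j := fun P a ha i => by
    rw [← substAlgHom_apply (R := R) ha, lin, map_sum]
    refine Finset.sum_congr rfl fun j _ => ?_
    rw [map_mul, substAlgHom_apply, substAlgHom_apply, subst_C, subst_X ha]
  have hcomp : ∀ P Q : Matrix (Fin n) (Fin n) R, P * Q = 1 →
      ∀ f : MvPowerSeries (Fin n) R, subst (lin Q) (subst (lin P) f) = f := by
    intro P Q hPQ f
    rw [subst_comp_subst_apply (hl P) (hl Q)]
    have : (fun s => subst (lin Q) (lin P s)) = X := by
      funext s
      rw [hllin P _ (hl Q)]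
      simp only [lin, Finset.mul_sum, ← mul_assoc, ← map_mul]
      rw [Finset.sum_comm]
      simp only [← Finset.sum_mul, ← map_sum, ← Matrix.mul_apply, hPQ]
      rw [Finset.sum_eq_single s]
      · simp
      · intro t _ ht; simp [Matrix.one_apply_ne (Ne.symm ht)]
      · simp
    rw [this, subst_self, id]
  have hbl : Function.Bijective (subst (lin N) : MvPowerSeries (Fin n) R → MvPowerSeries (Fin n) R) :=
    ⟨Function.LeftInverse.injective (hcomp N M hNM), Function.RightInverse.surjective (hcomp M N hMN)⟩
  let a : Fin n → MvPowerSeries (Fin n) R := fun i => subst y (lin N i)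
  have ha : ∀ i, a i - C ((1 : Rˣ) : R) * X i ∈ J 2 := by
    intro i
    have key : a i - X i = ∑ j, C (N i j) * (y j - ∑ l, C (coeff (Finsupp.single l 1) (y j)) * X l) := by
      simp only [a, hllin N _ hy, mul_sub, Finset.sum_sub_distrib, Finset.mul_sum]
      congr 1
      simp only [← mul_assoc, ← map_mul]
      rw [Finset.sum_comm]
      simp only [← Finset.sum_mul, ← map_sum]
      rw [Finset.sum_eq_single i]
      · have : (N * M) i i = 1 := by rw [hNM]; simp
        rw [show (∑ j, N i j * coeff (Finsupp.single i 1) (y j)) = (N * M) i i from rfl, this, map_one, one_mul]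
      · intro t _ ht
        rw [show (∑ j, N i j * coeff (Finsupp.single t 1) (y j)) = (N * M) i t from rfl, hNM,
          Matrix.one_apply_ne (Ne.symm ht), map_zero, zero_mul]
      · simp
    rw [Units.val_one, map_one, one_mul, key]
    exact Submodule.sum_mem _ fun j _ => Ideal.mul_mem_left _ _ (sub_linear_mem_J_two _ (hy0 j))
  obtain ⟨φ, hφ⟩ := exists_algEquiv a (fun _ => 1) ha
  have hba : Function.Bijective (subst a : MvPowerSeries (Fin n) R → MvPowerSeries (Fin n) R) := by
    refine ⟨Function.LeftInverse.injective hφ, fun f => ⟨φ f, φ.injective (hφ (φ f))⟩⟩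
  have : (subst a : MvPowerSeries (Fin n) R → MvPowerSeries (Fin n) R) =
      subst y ∘ subst (lin N) := funext fun f => by
    rw [Function.comp_apply, subst_comp_subst_apply (hl N) hy]
  rw [this] at hba
  exact (Function.Bijective.of_comp_iff (subst y) hbl).mp hba

theorem isUnit_det_of_gen [IsLocalRing R] (y : Fin n → MvPowerSeries (Fin n) R)
    (hy0 : ∀ i, constantCoeff (y i) = 0)
    (h : ∀ k, ∃ g : Fin n → MvPowerSeries (Fin n) R, ∀ l,
      coeff (Finsupp.single l 1) (X k - ∑ j, g j * y j) ∈ IsLocalRing.maximalIdeal R) :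
    IsUnit (Matrix.det (Matrix.of fun i l => coeff (Finsupp.single l 1) (y i))) := by
  classical
  choose g hg using h
  let G : Matrix (Fin n) (Fin n) R := Matrix.of fun k j => constantCoeff (g k j)
  set M : Matrix (Fin n) (Fin n) R := Matrix.of fun i l => coeff (Finsupp.single l 1) (y i)
  have hGM : (G * M).map (IsLocalRing.residue R) = 1 := by
    refine Matrix.ext fun k l => ?_
    have := hg k l
    rw [← IsLocalRing.residue_eq_zero_iff, map_sub, map_sum, map_sub, sub_eq_zero] at this
    rw [Matrix.map_apply, Matrix.mul_apply,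
      show ∑ j, G k j * M j l = ∑ j, coeff (Finsupp.single l 1) (g k j * y j) from
        Finset.sum_congr rfl fun j _ => (coeff_single_mul _ _ (hy0 j) l).symm,
      ← this, coeff_index_single_X, Matrix.one_apply]
    by_cases hkl : k = l
    · subst hkl; simp
    · simp [hkl, Ne.symm hkl]
  have hdet : IsUnit ((G * M).det) := by
    apply IsLocalRing.residue_ne_zero_iff_isUnit _ |>.mp
    rw [RingHom.map_det, RingHom.mapMatrix_apply, hGM, Matrix.det_one]
    exact one_ne_zero
  rw [Matrix.det_mul] at hdet
  exact isUnit_of_mul_isUnit_right hdet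

end Groth.Agent.CAlg5
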