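import Mathlib
import Groth.Agent.CAlg5.WeakAss

/-! Weakly associated primes and extensions of the ground field. -/

set_option autoImplicit false
universe u

open TensorProduct

namespace Groth.Agent.CAlg5

/-- If a product of a polynomial with another one vanishes, every coefficient of the first kills the
second up to a power. -/
theorem coeff_pow_smul_eq_zero {A : Type*} [CommRing A] {σ : Type*} (g f : MvPolynomial σ A)
    (h : g * f = 0) (d : σ →₀ ℕ) : ∃ N : ℕ, MvPolynomial.C (g.coeff d ^ N) * f = 0 := by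
  classical
  induction hn : g.support.card using Nat.strong_induction_on generalizing g f d with
  | _ n IH =>
    induction hm : f.support.card using Nat.strong_induction_on generalizing f d with
    | _ m IH2 =>
      by_cases hd : g.coeff d = 0
      · exact ⟨1, by rw [hd, pow_one, map_zero, zero_mul]⟩
      by_cases hf : f = 0
      · exact ⟨0, by rw [hf, mul_zero]⟩
      have hdmem : d ∈ g.support := MvPolynomial.mem_support_iff.2 hd
      obtain ⟨a, ha, b, hb, hu⟩ := UniqueSums.uniqueAdd_of_nonempty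
        (A := g.support) (B := f.support) ⟨d, hdmem⟩ (MvPolynomial.support_nonempty.2 hf)
      have hab : g.coeff a * f.coeff b = 0 := by
        have h1 : (g * f).coeff (a + b) = g.coeff a * f.coeff b := by
          rw [MvPolynomial.coeff_mul]
          refine Finset.sum_eq_single (a, b) (fun x hx hne => ?_) (fun hx => absurd (by simp) hx)
          by_contra hne0
          have h2 := hu (MvPolynomial.mem_support_iff.2 (left_ne_zero_of_mul hne0))
            (MvPolynomial.mem_support_iff.2 (right_ne_zero_of_mul hne0))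
            (Finset.HasAntidiagonal.mem_antidiagonal.1 hx)
          exact hne (Prod.ext h2.1 h2.2)
        rw [← h1, h, MvPolynomial.coeff_zero]
      set f' := MvPolynomial.C (g.coeff a) * f with hf'
      have hlt : f'.support.card < m := by
        rw [← hm]
        refine Finset.card_lt_card ⟨fun x hx => ?_, fun hsub => ?_⟩
        · rw [MvPolynomial.mem_support_iff, hf', MvPolynomial.coeff_C_mul] at hx
          exact MvPolynomial.mem_support_iff.2 (right_ne_zero_of_mul hx)
        · have h3 := hsub hb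
          rw [MvPolynomial.mem_support_iff, hf', MvPolynomial.coeff_C_mul] at h3
          exact h3 hab
      have h0 : g * f' = 0 := by rw [hf', mul_left_comm, h, mul_zero]
      obtain ⟨j, hj⟩ := IH2 _ hlt f' (by exact h0) a rfl
      have hgaf : MvPolynomial.C (g.coeff a ^ (j + 1)) * f = 0 := by
        rw [pow_succ, map_mul, mul_assoc]
        exact hj
      by_cases hda : d = a
      · exact ⟨j + 1, by rw [hda]; exact hgaf⟩
      obtain ⟨N, hN⟩ := IH2 _ hlt f' h0 d rfl
      set c := g.coeff d
      let g' := g - MvPolynomial.monomial a (g.coeff a)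
      have hcoeff : ∀ x, g'.coeff x = if x = a then 0 else g.coeff x := fun x => by
        rw [MvPolynomial.coeff_sub, MvPolynomial.coeff_monomial]
        by_cases hx : x = a
        · subst hx; simp
        · simp [hx, Ne.symm hx]
      let g'' := MvPolynomial.C (c ^ N) * g'
      have hg''f : g'' * f = 0 := by
        have h2 : MvPolynomial.monomial a (g.coeff a) =
            MvPolynomial.C (g.coeff a) * MvPolynomial.monomial a (1 : A) := by
          rw [MvPolynomial.C_mul_monomial, mul_one]
        have h3 : g'' * f = MvPolynomial.C (c ^ N) * (g * f) -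
            MvPolynomial.monomial a (1 : A) * (MvPolynomial.C (c ^ N) * f') := by
          simp only [g'', g', hf', h2]
          ring
        rw [h3, h, hN, mul_zero, mul_zero, sub_zero]
      have hlt2 : g''.support.card < n := by
        rw [← hn]
        refine Finset.card_lt_card ⟨fun x hx => ?_, fun hsub => ?_⟩
        · rw [MvPolynomial.mem_support_iff, MvPolynomial.coeff_C_mul, hcoeff] at hx
          by_cases hxa : x = a
          · rw [if_pos hxa, mul_zero] at hx
            exact absurd rfl hx
          · rw [if_neg hxa] at hx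
            exact MvPolynomial.mem_support_iff.2 (right_ne_zero_of_mul hx)
        · have h4 := hsub ha
          rw [MvPolynomial.mem_support_iff, MvPolynomial.coeff_C_mul, hcoeff, if_pos rfl,
            mul_zero] at h4
          exact h4 rfl
      obtain ⟨L, hL⟩ := IH _ hlt2 g'' f hg''f d rfl
      rw [MvPolynomial.coeff_C_mul, hcoeff, if_neg hda, ← pow_succ, ← pow_mul] at hL
      exact ⟨(N + 1) * L, hL⟩

section

variable {R : Type u} [CommRing R]

theorem weakAss_tensor_free_subset (F M : Type u) [AddCommGroup F] [Module R F] [Module.Free R F]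
    [AddCommGroup M] [Module R M] : FlatCA.weakAss R (F ⊗[R] M) ⊆ FlatCA.weakAss R M := by
  classical
  intro p hp
  have := weakAss_isPrime hp
  obtain ⟨y, h1, h2⟩ := mem_weakAss_iff.1 hp
  let e : F ⊗[R] M ≃ₗ[R] _ →₀ M :=
    TensorProduct.equivFinsuppOfBasisLeft (Module.Free.chooseBasis R F)
  by_contra hc
  have key : ∀ i, ∃ s ∉ p, s • e y i = 0 := by
    intro i
    by_contra hno
    push Not at hno
    refine hc (mem_weakAss_iff.2 ⟨e y i, fun s hs => by_contra fun hsp => hno s hsp hs, fun r hr => ?_⟩)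
    obtain ⟨s, hs, n, hn⟩ := h2 r hr
    exact ⟨s, hs, n, by rw [← Finsupp.smul_apply, ← map_smul, hn, map_zero, Finsupp.zero_apply]⟩
  choose s hs hs0 using key
  have hprod : (∏ i ∈ (e y).support, s i) • y = 0 := by
    refine e.injective (Finsupp.ext fun i => ?_)
    rw [map_smul, map_zero, Finsupp.zero_apply, Finsupp.smul_apply]
    by_cases hi : i ∈ (e y).support
    · rw [← Finset.mul_prod_erase _ _ hi, mul_comm, mul_smul, hs0, smul_zero]
    · rw [Finsupp.notMem_support_iff.1 hi, smul_zero]
  obtain ⟨i, -, hi⟩ := (‹p.IsPrime›.prod_mem_iff).1 (h1 _ hprod)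
  exact hs i hi

theorem weakAss_eq_of_linearEquiv {M N : Type*} [AddCommGroup M] [Module R M] [AddCommGroup N]
    [Module R N] (e : M ≃ₗ[R] N) : FlatCA.weakAss R M = FlatCA.weakAss R N :=
  le_antisymm (weakAss_subset_of_injective e.toLinearMap e.injective)
    (weakAss_subset_of_injective e.symm.toLinearMap e.symm.injective)

theorem comap_mem_weakAss_of_finite {B : Type u} [CommRing B] [Algebra R B] [Module.Finite R B]
    {N : Type u} [AddCommGroup N] [Module R N] [Module B N] [IsScalarTower R B N]
    {q : Ideal B} (hq : q ∈ FlatCA.weakAss B N) :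
    q.comap (algebraMap R B) ∈ FlatCA.weakAss R N := by
  have hqp : q.IsPrime := weakAss_isPrime hq
  obtain ⟨x, hx⟩ := hq
  set p := q.comap (algebraMap R B) with hp
  have hincomp : ∀ Q : Ideal B, Q.IsPrime → Q.comap (algebraMap R B) = p → q ≤ Q → Q = q := by
    intro Q _ hQ hle
    refine le_antisymm (fun a ha => ?_) hle
    by_contra haq
    exact (Ideal.comap_lt_comap_of_integral_mem_sdiff hle ⟨ha, haq⟩
      (Algebra.IsIntegral.isIntegral a)).ne hQ.symm
  have hfin : (p.primesOver B).Finite := Algebra.QuasiFinite.finite_primesOver p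
  let T := (hfin.subset (Set.sdiff_subset : p.primesOver B \ {q} ⊆ _)).toFinset
  have hT : ∀ Q, Q ∈ T ↔ (Q.IsPrime ∧ Q.LiesOver p) ∧ Q ≠ q := fun Q => by
    simp [T, Ideal.primesOver]
  let J := (Submodule.span B {x}).annihilator
  let K₀ : Ideal B :=
    { carrier := {a | ∀ Q ∈ T, ∃ t ∉ Q, t * a ∈ J}
      zero_mem' := fun Q hQ => ⟨1, fun h => ((hT Q).1 hQ).1.1.ne_top ((Ideal.eq_top_iff_one Q).2 h),
        by simp⟩
      add_mem' := by
        intro a b ha hb Q hQ
        obtain ⟨t, ht, hta⟩ := ha Q hQ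
        obtain ⟨u, hu, hub⟩ := hb Q hQ
        have := ((hT Q).1 hQ).1.1
        refine ⟨t * u, fun h => (this.mem_or_mem h).elim ht hu, ?_⟩
        rw [show t * u * (a + b) = u * (t * a) + t * (u * b) by ring]
        exact add_mem (J.mul_mem_left _ hta) (J.mul_mem_left _ hub)
      smul_mem' := by
        intro c a ha Q hQ
        obtain ⟨t, ht, hta⟩ := ha Q hQ
        exact ⟨t, ht, by rw [smul_eq_mul, mul_left_comm]; exact J.mul_mem_left _ hta⟩ }
  have hK : ¬ K₀ ≤ q := by
    intro hle
    obtain ⟨P, hP, hPq⟩ := Ideal.exists_minimalPrimes_le hle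
    have hJP : J ≤ P := fun a ha => hP.1.2 fun Q hQ =>
      ⟨1, fun h => ((hT Q).1 hQ).1.1.ne_top ((Ideal.eq_top_iff_one Q).2 h), by rwa [one_mul]⟩
    have hPe : P = q := le_antisymm hPq (hx.2 ⟨hP.1.1, hJP⟩ hPq)
    subst hPe
    have havoid : ∃ a ∈ P, ∀ Q ∈ T, a ∉ Q := by
      by_contra hh
      push Not at hh
      obtain ⟨Q, hQ, hle'⟩ := (Ideal.subset_union_prime (f := fun Q => Q) ⊥ ⊥
        fun Q hQ _ _ => ((hT Q).1 hQ).1.1).1 (fun a ha => by
          obtain ⟨Q, hQ, haQ⟩ := hh a ha
          exact Set.mem_biUnion hQ haQ)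
      have := ((hT Q).1 hQ).1.1
      exact ((hT Q).1 hQ).2 (hincomp Q this ((hT Q).1 hQ).1.2.over.symm hle')
    obtain ⟨a, haP, haT⟩ := havoid
    obtain ⟨u, hu, n, hn⟩ := (mem_minimalPrimes_iff_mul_pow.1 hP).2 a haP
    refine hu (hle fun Q hQ => ?_)
    obtain ⟨t, ht, htu⟩ := hn Q hQ
    have := ((hT Q).1 hQ).1.1
    exact ⟨t * a ^ n, fun h => (this.mem_or_mem h).elim ht fun h' => haT Q hQ (this.mem_of_pow_mem n h'),
      by rwa [mul_right_comm, mul_assoc]⟩
  obtain ⟨s, hsK, hsq⟩ := SetLike.not_le_iff_exists.1 hK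
  refine mem_weakAss_iff.2 ⟨s • x, fun r hr => ?_, fun r hr => ?_⟩
  · rw [← algebraMap_smul B r, smul_smul] at hr
    exact (hqp.mem_or_mem (hx.1.2 (mem_ann.2 hr))).resolve_right hsq
  · by_contra hno
    push Not at hno
    let J' := (Submodule.span B {s • x}).annihilator
    obtain ⟨P, hP, hJP, hPd⟩ := Ideal.exists_le_prime_disjoint J'
      ((p.primeCompl ⊔ Submonoid.powers r).map (algebraMap R B : R →* B)) (by
        rw [Set.disjoint_left]
        intro b hb hbm
        obtain ⟨c, hc, rfl⟩ := Submonoid.mem_map.1 hbm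
        obtain ⟨u, hu, z, ⟨n, rfl⟩, rfl⟩ := Submonoid.mem_sup.1 hc
        refine hno u hu n ?_
        rw [← algebraMap_smul B]
        exact mem_ann.1 hb)
    have hnot : ∀ c ∈ p.primeCompl ⊔ Submonoid.powers r, algebraMap R B c ∉ P := fun c hc h =>
      Set.disjoint_left.1 hPd h (Submonoid.mem_map_of_mem _ hc)
    have hPp : P.comap (algebraMap R B) ≤ p := fun c hc => by
      by_contra hcp
      exact hnot c (Submonoid.mem_sup_left hcp) hc
    obtain ⟨Q, hPQ, hQ, hQp⟩ := Ideal.exists_ideal_over_prime_of_isIntegral p P hPp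
    by_cases hQq : Q = q
    · subst hQq
      have hJ : J ≤ P := fun b hb => hJP (mem_ann.2 (by rw [smul_comm, mem_ann.1 hb, smul_zero]))
      have hPe : P = Q := le_antisymm hPQ (hx.2 ⟨hP, hJ⟩ hPQ)
      subst hPe
      exact hnot r (Submonoid.mem_sup_right (Submonoid.mem_powers r)) hr
    · have hQT : Q ∈ T := (hT Q).2 ⟨⟨hQ, ⟨hQp.symm⟩⟩, hQq⟩
      obtain ⟨t, ht, hts⟩ := hsK Q hQT
      exact ht (hPQ (hJP (mem_ann.2 (by rw [smul_smul]; exact mem_ann.1 hts))))

end

section Flat

theorem mem_map_ann_of_smul_tmul_eq_zero {B C N : Type u} [CommRing B] [CommRing C] [Algebra B C]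
    [Module.Flat B C] [AddCommGroup N] [Module B N] {x : N} {a : C}
    (h : a ⊗ₜ[B] x = 0) : a ∈ (Submodule.span B {x}).annihilator.map (algebraMap B C) := by
  let l : B →ₗ[B] N := LinearMap.toSpanSingleton B N x
  have h1 := Module.Flat.lTensor_exact C l.exact_subtype_ker_map (a ⊗ₜ[B] (1 : B))
  obtain ⟨z, hz⟩ := h1.1 (by simpa [l] using h)
  have key : ∀ z : C ⊗[B] LinearMap.ker l,
      TensorProduct.rid B C ((LinearMap.ker l).subtype.lTensor C z) ∈
        (Submodule.span B {x}).annihilator.map (algebraMap B C) := by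
    intro z
    induction z using TensorProduct.induction_on with
    | zero => simp
    | tmul c b =>
      simp only [LinearMap.lTensor_tmul, TensorProduct.rid_tmul, Algebra.smul_def]
      exact Ideal.mul_mem_right _ _ (Ideal.mem_map_of_mem _
        (mem_ann.2 (LinearMap.mem_ker.1 b.2)))
    | add z w hz hw => simp only [map_add]; exact add_mem hz hw
  have := key z
  rw [hz] at this
  simpa using this

/-- Minimal primes over the annihilator of an element descend along flat maps. -/
theorem comap_mem_weakAss_of_flat {B C N : Type u} [CommRing B] [CommRing C] [Algebra B C]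
    [Module.Flat B C] [AddCommGroup N] [Module B N] (x : N) {q : Ideal C}
    (hq : q ∈ (Submodule.span C {(1 : C) ⊗ₜ[B] x}).annihilator.minimalPrimes) :
    q.comap (algebraMap B C) ∈ FlatCA.weakAss B N := by
  have := hq.1.1
  refine ⟨x, ⟨⟨inferInstance, fun b hb => hq.1.2 (mem_ann.2 ?_)⟩, fun P hP hPle => ?_⟩⟩
  · rw [TensorProduct.smul_tmul', smul_eq_mul, mul_one, Algebra.algebraMap_eq_smul_one,
      TensorProduct.smul_tmul, mem_ann.1 hb, TensorProduct.tmul_zero]
  · have := hP.1
    have : Algebra.HasGoingDown B C := .of_flat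
    have : P.IsPrime := hP.1
    rcases hPle.lt_or_eq with hlt | heq
    · obtain ⟨Q, hQle, hQp, hQ⟩ :=
        Ideal.exists_ideal_lt_liesOver_of_lt (p := P) q (hlt.trans_eq rfl)
      refine absurd (hq.2 ⟨hQp, fun a ha => ?_⟩ hQle.le) hQle.not_ge
      have h1 := mem_ann.1 ha
      rw [TensorProduct.smul_tmul', smul_eq_mul, mul_one] at h1
      refine Ideal.map_le_iff_le_comap.2 (fun b hb => ?_) (mem_map_ann_of_smul_tmul_eq_zero h1)
      show b ∈ Q.under B
      rw [← hQ.over]
      exact hP.2 hb
    · exact heq.ge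

end Flat

section Field

variable {k K R : Type u} [Field k] [Field K] [Algebra k K] [CommRing R] [Algebra k R]

theorem comap_mem_weakAss_of_algebraic [Algebra.IsAlgebraic k K] (RK : Type u) [CommRing RK]
    [Algebra k RK] [Algebra K RK] [Algebra R RK] [IsScalarTower k K RK] [IsScalarTower k R RK]
    [Algebra.IsPushout k K R RK] (M : Type u) [AddCommGroup M] [Module R M]
    (q : Ideal RK) (hq : q ∈ FlatCA.weakAss RK (RK ⊗[R] M)) :
    q.comap (algebraMap R RK) ∈ FlatCA.weakAss R M := by
  classical
  obtain ⟨x, hx⟩ := hq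
  have hpo : Algebra.IsPushout k R K RK := Algebra.IsPushout.symm inferInstance
  let gen : IntermediateField k K → (x : RK ⊗[R] M) → Prop := fun L x =>
    x ∈ Submodule.span R {z : RK ⊗[R] M | ∃ l : L, ∃ m : M, z = algebraMap K RK l ⊗ₜ m}
  have hmono : ∀ L L' : IntermediateField k K, L ≤ L' → ∀ x, gen L x → gen L' x := by
    intro L L' hle x hx
    refine Submodule.span_mono ?_ hx
    rintro z ⟨l, m, rfl⟩
    exact ⟨⟨l, hle l.2⟩, m, rfl⟩
  have hgen : ∀ x, ∃ L : IntermediateField k K, FiniteDimensional k L ∧ gen L x := by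
    intro x
    induction x using TensorProduct.induction_on with
    | zero => exact ⟨⊥, inferInstance, Submodule.zero_mem _⟩
    | add a b ha hb =>
      obtain ⟨L, hL, hLa⟩ := ha
      obtain ⟨L', hL', hLb⟩ := hb
      exact ⟨L ⊔ L', inferInstance, Submodule.add_mem _ (hmono _ _ le_sup_left _ hLa)
        (hmono _ _ le_sup_right _ hLb)⟩
    | tmul c m =>
      obtain ⟨t, rfl⟩ : ∃ t : R ⊗[k] K, Algebra.IsPushout.equiv k R K RK t = c :=
        ⟨_, AlgEquiv.apply_symm_apply _ c⟩
      induction t using TensorProduct.induction_on generalizing m with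
      | zero => exact ⟨⊥, inferInstance, by simp [gen]⟩
      | add a b ha hb =>
        obtain ⟨L, hL, hLa⟩ := ha m
        obtain ⟨L', hL', hLb⟩ := hb m
        refine ⟨L ⊔ L', inferInstance, ?_⟩
        rw [map_add, TensorProduct.add_tmul]
        exact Submodule.add_mem _ (hmono _ _ le_sup_left _ hLa) (hmono _ _ le_sup_right _ hLb)
      | tmul r l =>
        have hfd : FiniteDimensional k (IntermediateField.adjoin k {l}) :=
          IntermediateField.adjoin.finiteDimensional (Algebra.IsAlgebraic.isAlgebraic l).isIntegral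
        refine ⟨IntermediateField.adjoin k {l}, hfd, ?_⟩
        refine Submodule.subset_span ⟨⟨l, IntermediateField.mem_adjoin_simple_self k l⟩, r • m, ?_⟩
        rw [Algebra.IsPushout.equiv_tmul, ← TensorProduct.smul_tmul, Algebra.smul_def]
  obtain ⟨L, hL, hxL⟩ := hgen x
  let B := R ⊗[k] L
  let φ : B →ₐ[R] RK := Algebra.TensorProduct.lift (Algebra.ofId R RK)
    ((IsScalarTower.toAlgHom k K RK).comp L.val) fun _ _ => Commute.all _ _
  let _ : Algebra B RK := φ.toRingHom.toAlgebra
  have : IsScalarTower R B RK :=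
    IsScalarTower.of_algebraMap_eq (R := R) (S := B) (A := RK) fun r => (φ.commutes r).symm
  let _ : Algebra L B := Algebra.TensorProduct.rightAlgebra
  have : IsScalarTower L K RK := inferInstance
  have : IsScalarTower k L RK := IsScalarTower.of_algebraMap_eq fun c => by
    rw [IsScalarTower.algebraMap_apply k K RK, IsScalarTower.algebraMap_apply k L K]; rfl
  have : IsScalarTower L B RK :=
    IsScalarTower.of_algebraMap_eq (R := L) (S := B) (A := RK) fun l => by
    show algebraMap K RK l = φ ((1 : R) ⊗ₜ l)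
    rw [Algebra.TensorProduct.lift_tmul, map_one, one_mul]
    rfl
  have : IsScalarTower k B RK :=
    IsScalarTower.of_algebraMap_eq (R := k) (S := B) (A := RK) fun c => by
    rw [IsScalarTower.algebraMap_apply k R RK, IsScalarTower.algebraMap_apply R B RK]
    rfl
  have : Algebra.IsPushout k L R B := inferInstance
  have hpush : Algebra.IsPushout L K B RK :=
    (Algebra.IsPushout.comp_iff (R := k) (S := L) (R' := R) (S' := B)).1 inferInstance
  have : Module.Flat B RK :=
    Module.Flat.isBaseChange L B K RK hpush.symm.out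
  let cb := TensorProduct.AlgebraTensorModule.cancelBaseChange R B RK RK M
  obtain ⟨y, hy⟩ : ∃ y : B ⊗[R] M, cb ((1 : RK) ⊗ₜ y) = x := by
    refine Submodule.span_induction ?_ ?_ ?_ ?_ hxL
    · rintro z ⟨l, m, rfl⟩
      refine ⟨((1 : R) ⊗ₜ l : B) ⊗ₜ m, ?_⟩
      rw [TensorProduct.AlgebraTensorModule.cancelBaseChange_tmul, Algebra.smul_def, mul_one]
      congr 1
      show φ _ = _
      rw [Algebra.TensorProduct.lift_tmul, map_one, one_mul]
      rfl
    · exact ⟨0, by simp⟩
    · rintro a b _ _ ⟨y, rfl⟩ ⟨z, rfl⟩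
      exact ⟨y + z, by rw [TensorProduct.tmul_add, map_add]⟩
    · rintro r a _ ⟨y, rfl⟩
      refine ⟨r • y, ?_⟩
      rw [TensorProduct.tmul_smul]
      exact cb.toLinearMap.map_smul_of_tower r _
  have hq' : q ∈ (Submodule.span RK {(1 : RK) ⊗ₜ[B] y}).annihilator.minimalPrimes := by
    rw [← hy] at hx
    convert hx using 3
    ext a
    rw [mem_ann, mem_ann, ← map_smul]
    exact (map_eq_zero_iff _ cb.injective).symm
  have h1 : q.comap (algebraMap B RK) ∈ FlatCA.weakAss B (B ⊗[R] M) :=
    comap_mem_weakAss_of_flat y hq'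
  have h2 := weakAss_tensor_free_subset B M (comap_mem_weakAss_of_finite (R := R) h1)
  rwa [Ideal.comap_comap, ← IsScalarTower.algebraMap_eq] at h2

theorem comap_mem_weakAss_of_fractions {σ : Type u}
    (a : MvPolynomial σ k →ₐ[k] K) (ha : Function.Injective a)
    (hfrac : ∀ c : K, ∃ f g : MvPolynomial σ k, a g ≠ 0 ∧ c * a g = a f)
    (M : Type u) [AddCommGroup M] [Module R M] (q : Ideal (R ⊗[k] K))
    (hq : q ∈ FlatCA.weakAss (R ⊗[k] K) ((R ⊗[k] K) ⊗[R] M)) :
    q.comap (algebraMap R (R ⊗[k] K)) ∈ FlatCA.weakAss R M := by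
  classical
  have hqp : q.IsPrime := weakAss_isPrime hq
  obtain ⟨x, hx1, hx2⟩ := mem_weakAss_iff.1 hq
  let P := MvPolynomial σ R
  let e : R ⊗[k] MvPolynomial σ k ≃ₐ[R] P := MvPolynomial.algebraTensorAlgEquiv k R
  let φ : P →ₐ[R] R ⊗[k] K :=
    (Algebra.TensorProduct.map (AlgHom.id R R) a).comp e.symm.toAlgHom
  obtain ⟨ρ₀, hρ₀⟩ := a.toLinearMap.exists_leftInverse_of_injective (LinearMap.ker_eq_bot.2 ha)
  let ρ : R ⊗[k] K →ₗ[R] P := e.toLinearMap.comp (ρ₀.baseChange R)
  have hρ : ρ.comp φ.toLinearMap = LinearMap.id := by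
    refine LinearMap.ext fun g => ?_
    obtain ⟨t, rfl⟩ := e.surjective g
    induction t using TensorProduct.induction_on with
    | zero => simp
    | add u v hu hv => rw [map_add, map_add, hu, hv, map_add]
    | tmul r f =>
      show e (ρ₀.baseChange R (Algebra.TensorProduct.map (AlgHom.id R R) a
        (e.symm (e (r ⊗ₜ f))))) = e (r ⊗ₜ f)
      rw [AlgEquiv.symm_apply_apply, Algebra.TensorProduct.map_tmul, LinearMap.baseChange_tmul,
        show ρ₀ (a f) = f from LinearMap.congr_fun hρ₀ f]
      rfl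
  have hclear : ∀ z : R ⊗[k] K, ∃ u : (R ⊗[k] K), IsUnit u ∧ ∃ w g : P, φ w = u ∧ u * z = φ g := by
    intro z
    induction z using TensorProduct.induction_on with
    | zero => exact ⟨1, isUnit_one, 1, 0, map_one φ, by rw [mul_zero, map_zero]⟩
    | tmul r c =>
      obtain ⟨f, g, hg, hfg⟩ := hfrac c
      refine ⟨(1 : R) ⊗ₜ a g, ?_, e ((1 : R) ⊗ₜ g), e (r ⊗ₜ f), by simp [φ], ?_⟩
      · exact (Ne.isUnit hg).map (Algebra.TensorProduct.includeRight : K →ₐ[k] R ⊗[k] K)
      · rw [Algebra.TensorProduct.tmul_mul_tmul, one_mul, mul_comm, hfg]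
        simp [φ]
    | add z₁ z₂ h₁ h₂ =>
      obtain ⟨u, hu, w, g, hw, hg⟩ := h₁
      obtain ⟨u', hu', w', g', hw', hg'⟩ := h₂
      refine ⟨u * u', hu.mul hu', w * w', w' * g + w * g', by rw [map_mul, hw, hw'], ?_⟩
      rw [map_add, map_mul, map_mul, hw, hw', ← hg, ← hg']
      ring
  let φM : P ⊗[R] M →ₗ[R] (R ⊗[k] K) ⊗[R] M := φ.toLinearMap.rTensor M
  have hsemi : ∀ (g : P) (y : P ⊗[R] M), φM (g • y) = φ g • φM y := by
    intro g y
    induction y using TensorProduct.induction_on with
    | zero => simp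
    | tmul f m =>
      simp only [TensorProduct.smul_tmul', smul_eq_mul, φM, LinearMap.rTensor_tmul,
        AlgHom.toLinearMap_apply, map_mul]
    | add u v hu hv => rw [smul_add, map_add, map_add, hu, hv, smul_add]
  have hinj : Function.Injective φM := by
    refine Function.LeftInverse.injective (g := ρ.rTensor M) fun y => ?_
    rw [← LinearMap.comp_apply, ← LinearMap.rTensor_comp, hρ, LinearMap.rTensor_id,
      LinearMap.id_apply]
  obtain ⟨u, hu, -, y, -, hy⟩ : ∃ u : R ⊗[k] K, IsUnit u ∧ ∃ w : P, ∃ y : P ⊗[R] M,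
      φ w = u ∧ u • x = φM y := by
    clear hx1 hx2
    induction x using TensorProduct.induction_on with
    | zero => exact ⟨1, isUnit_one, 1, 0, map_one φ, by rw [smul_zero, map_zero]⟩
    | tmul z m =>
      obtain ⟨u, hu, w, g, hw, hg⟩ := hclear z
      refine ⟨u, hu, w, g ⊗ₜ m, hw, ?_⟩
      rw [TensorProduct.smul_tmul', smul_eq_mul, hg]
      rfl
    | add x₁ x₂ h₁ h₂ =>
      obtain ⟨u, hu, w, y, hw, hy⟩ := h₁
      obtain ⟨u', hu', w', y', hw', hy'⟩ := h₂
      refine ⟨u * u', hu.mul hu', w * w', w' • y + w • y', by rw [map_mul, hw, hw'], ?_⟩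
      rw [map_add, hsemi, hsemi, hw, hw', ← hy, ← hy', smul_smul, smul_smul, smul_add, mul_comm u' u]
  set p := q.comap (algebraMap R (R ⊗[k] K))
  refine weakAss_tensor_free_subset P M (mem_weakAss_iff.2 ⟨y, fun s hs => ?_, fun r hr => ?_⟩)
  · refine hx1 _ ?_
    have h3 : φM (algebraMap R P s • y) = 0 := by rw [algebraMap_smul, hs, map_zero]
    rw [hsemi, AlgHom.commutes, ← hy, smul_comm] at h3
    exact hu.smul_eq_zero.1 h3
  · obtain ⟨s, hs, n, hn⟩ := hx2 _ hr
    obtain ⟨v, hv, -, g, -, hg⟩ := hclear s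
    have hgq : φ g ∉ q := by
      rw [← hg]
      exact fun h => (hqp.mem_or_mem h).elim (fun h' => hqp.ne_top (Ideal.eq_top_of_isUnit_mem _ h' hv)) hs
    have hgp : ∃ d, g.coeff d ∉ p := by
      by_contra hh
      push Not at hh
      refine hgq ?_
      have h4 : p.map (MvPolynomial.C : R →+* P) ≤ q.comap φ := by
        refine Ideal.map_le_iff_le_comap.2 fun c hc => ?_
        show φ (MvPolynomial.C c) ∈ q
        rw [← MvPolynomial.algebraMap_eq, AlgHom.commutes]
        exact hc
      exact h4 (MvPolynomial.mem_map_C_iff.2 hh)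
    obtain ⟨d, hd⟩ := hgp
    have hzero : g • (r ^ n • y) = 0 := by
      refine hinj ?_
      rw [hsemi, map_zero, ← algebraMap_smul P (r ^ n) y, hsemi, AlgHom.commutes, map_pow, ← hy,
        ← hg, smul_smul, smul_smul]
      rw [show v * s * algebraMap R (R ⊗[k] K) r ^ n * u =
        (v * u) * (s * algebraMap R (R ⊗[k] K) r ^ n) by ring, mul_smul, hn, smul_zero]
    let _ : Module Rᵐᵒᵖ M := Module.compHom M ((RingEquiv.toOpposite R).symm : Rᵐᵒᵖ →+* R)
    have : IsCentralScalar R M := ⟨fun c m => rfl⟩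
    let A := TrivSqZeroExt R M
    have hsm : ∀ (c : R) (X : MvPolynomial σ A), c • X = MvPolynomial.C (algebraMap R A c) * X :=
      fun c X => by rw [Algebra.smul_def, MvPolynomial.algebraMap_apply]
    let Φ : P ⊗[R] M →ₗ[R] MvPolynomial σ A := TensorProduct.lift
      (LinearMap.mk₂ R (fun (f : P) (m : M) =>
          MvPolynomial.map (algebraMap R A) f * MvPolynomial.C (TrivSqZeroExt.inr m))
        (fun f f' m => by rw [map_add, add_mul])
        (fun c f m => by
          rw [hsm, Algebra.smul_def, map_mul, MvPolynomial.algebraMap_eq, MvPolynomial.map_C, mul_assoc])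
        (fun f m m' => by rw [TrivSqZeroExt.inr_add, MvPolynomial.C_add, mul_add])
        (fun c f m => by
          rw [hsm, TrivSqZeroExt.inr_smul, Algebra.smul_def, MvPolynomial.C_mul, mul_left_comm]))
    have hΦs : ∀ (g : P) (y : P ⊗[R] M), Φ (g • y) = MvPolynomial.map (algebraMap R A) g * Φ y := by
      intro g y
      induction y using TensorProduct.induction_on with
      | zero => simp
      | tmul f m => simp [Φ, TensorProduct.smul_tmul', mul_assoc]
      | add u v hu hv => rw [smul_add, map_add, map_add, hu, hv, mul_add]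
    let coord : (σ →₀ ℕ) → P ⊗[R] M →ₗ[R] M := fun d =>
      (TensorProduct.lid R M).toLinearMap.comp ((MvPolynomial.lcoeff R d).rTensor M)
    have hcoord : ∀ (d : σ →₀ ℕ) (y : P ⊗[R] M),
        TrivSqZeroExt.inr (coord d y) = (Φ y).coeff d := by
      intro d y
      induction y using TensorProduct.induction_on with
      | zero => simp
      | tmul f m =>
        simp [Φ, coord]
        rw [MvPolynomial.coeff_mul, Finset.sum_eq_single (d, 0)]
        · rw [MvPolynomial.coeff_map, MvPolynomial.coeff_zero_C, Algebra.smul_def]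
        · intro x hx hne
          rw [MvPolynomial.coeff_C, if_neg, mul_zero]
          intro h0
          refine hne (Prod.ext ?_ h0.symm)
          have h6 := Finset.HasAntidiagonal.mem_antidiagonal.1 hx
          rwa [← h0, add_zero] at h6
        · simp
      | add u v hu hv => rw [map_add, map_add, TrivSqZeroExt.inr_add, hu, hv, MvPolynomial.coeff_add]
    have hΦinj : ∀ z, Φ z = 0 → z = 0 := by
      intro z hz
      refine (TensorProduct.equivFinsuppOfBasisLeft (MvPolynomial.basisMonomials σ R)).injective ?_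
      refine Finsupp.ext fun d => ?_
      rw [map_zero, Finsupp.zero_apply]
      have h5 := hcoord d z
      rw [hz, MvPolynomial.coeff_zero] at h5
      refine Eq.trans ?_ (TrivSqZeroExt.inr_injective (h5.trans (TrivSqZeroExt.inr_zero R).symm))
      clear hz h5
      induction z using TensorProduct.induction_on with
      | zero => simp
      | tmul f m => simp [coord]; rfl
      | add u v hu hv => simp only [map_add, Finsupp.add_apply, hu, hv]
    obtain ⟨N, hN⟩ := coeff_pow_smul_eq_zero (MvPolynomial.map (algebraMap R A) g) (Φ (r ^ n • y))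
      (by rw [← hΦs, hzero, map_zero]) d
    refine ⟨g.coeff d ^ N, fun h => hd (Ideal.IsPrime.mem_of_pow_mem inferInstance N h), n, ?_⟩
    rw [mul_smul]
    refine hΦinj _ ?_
    rw [← algebraMap_smul P (g.coeff d ^ N) (r ^ n • y), hΦs, MvPolynomial.algebraMap_eq,
      MvPolynomial.map_C, map_pow]
    rwa [MvPolynomial.coeff_map] at hN

theorem comap_mem_weakAss_of_field (RK : Type u) [CommRing RK] [Algebra k RK] [Algebra K RK]
    [Algebra R RK] [IsScalarTower k K RK] [IsScalarTower k R RK] [Algebra.IsPushout k K R RK]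
    (M : Type u) [AddCommGroup M] [Module R M]
    (q : Ideal RK) (hq : q ∈ FlatCA.weakAss RK (RK ⊗[R] M)) :
    q.comap (algebraMap R RK) ∈ FlatCA.weakAss R M := by
  obtain ⟨ι, v, hv⟩ := exists_isTranscendenceBasis' k K
  let L := IntermediateField.adjoin k (Set.range v)
  have : Algebra.IsAlgebraic L K := hv.isAlgebraic_field
  let R' := R ⊗[k] L
  let φ : R' →ₐ[R] RK := Algebra.TensorProduct.lift (Algebra.ofId R RK)
    ((IsScalarTower.toAlgHom k K RK).comp L.val) fun _ _ => Commute.all _ _
  let _ : Algebra R' RK := φ.toRingHom.toAlgebra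
  have : IsScalarTower R R' RK :=
    IsScalarTower.of_algebraMap_eq (R := R) (S := R') (A := RK) fun r => (φ.commutes r).symm
  let _ : Algebra L R' := Algebra.TensorProduct.rightAlgebra
  have : IsScalarTower L K RK := inferInstance
  have : IsScalarTower k L RK := IsScalarTower.of_algebraMap_eq fun c => by
    rw [IsScalarTower.algebraMap_apply k K RK, IsScalarTower.algebraMap_apply k L K]; rfl
  have : IsScalarTower L R' RK :=
    IsScalarTower.of_algebraMap_eq (R := L) (S := R') (A := RK) fun l => by
    show algebraMap K RK l = φ ((1 : R) ⊗ₜ l)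
    rw [Algebra.TensorProduct.lift_tmul, map_one, one_mul]
    rfl
  have : IsScalarTower k R' RK :=
    IsScalarTower.of_algebraMap_eq (R := k) (S := R') (A := RK) fun c => by
    rw [IsScalarTower.algebraMap_apply k R RK, IsScalarTower.algebraMap_apply R R' RK]
    rfl
  have : Algebra.IsPushout L K R' RK :=
    (Algebra.IsPushout.comp_iff (R := k) (S := L) (R' := R) (S' := R')).1 inferInstance
  have hq' : q ∈ FlatCA.weakAss RK (RK ⊗[R'] (R' ⊗[R] M)) := by
    rw [weakAss_eq_of_linearEquiv
      (TensorProduct.AlgebraTensorModule.cancelBaseChange R R' RK RK M)]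
    exact hq
  have h1 := comap_mem_weakAss_of_algebraic (k := L) (K := K) (R := R') RK (R' ⊗[R] M) q hq'
  let a : MvPolynomial ι k →ₐ[k] L :=
    (MvPolynomial.aeval v).codRestrict L.toSubalgebra fun f => by
      refine IntermediateField.algebra_adjoin_le_adjoin k _ ?_
      rw [Algebra.adjoin_range_eq_range_aeval]
      exact ⟨f, rfl⟩
  have ha : Function.Injective a := fun f g h => hv.1 (congrArg Subtype.val h)
  have hfrac : ∀ c : L, ∃ f g : MvPolynomial ι k, a g ≠ 0 ∧ c * a g = a f := by
    intro c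
    obtain ⟨f, g, hc⟩ := (IntermediateField.mem_adjoin_range_iff k v (c : K)).1 c.2
    by_cases hg : MvPolynomial.aeval v g = 0
    · refine ⟨0, 1, by rw [map_one]; exact one_ne_zero, ?_⟩
      rw [map_one, map_zero, mul_one]
      exact Subtype.ext (by rw [hc, hg, div_zero]; rfl)
    · refine ⟨f, g, fun h => hg (congrArg Subtype.val h), Subtype.ext ?_⟩
      show (c : K) * MvPolynomial.aeval v g = MvPolynomial.aeval v f
      rw [hc, div_mul_cancel₀ _ hg]
  have h2 := comap_mem_weakAss_of_fractions a ha hfrac M _ h1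
  rwa [Ideal.comap_comap, ← IsScalarTower.algebraMap_eq] at h2

end Field

end Groth.Agent.CAlg5
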