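import Mathlib

/-! Lifting a finite factor of `B / IB` to the integral closure (Zariski's main theorem). -/

set_option autoImplicit false
universe u

open TensorProduct

namespace Groth.Agent.CAlg5

variable {A B : Type u} [CommRing A] [CommRing B] [Algebra A B] [Algebra.FiniteType A B]

theorem quasiFiniteAt_of_finite_factor (I : Ideal A) (ε : B)
    (hε : ε * ε - ε ∈ I.map (algebraMap A B))
    (hfin : Module.Finite A (B ⧸ (I.map (algebraMap A B) ⊔ Ideal.span {1 - ε})))
    (P : Ideal B) [P.IsPrime] (hP : I.map (algebraMap A B) ⊔ Ideal.span {1 - ε} ≤ P) :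
    Algebra.QuasiFiniteAt A P := by
  let p := P.under A
  let Q := (PrimeSpectrum.preimageHomeomorphFiber A B ⟨p, inferInstance⟩ ⟨⟨P, ‹_›⟩, rfl⟩).asIdeal
  have hQ : Q.comap Algebra.TensorProduct.includeRight.toRingHom = P :=
    congr($((PrimeSpectrum.preimageHomeomorphFiber A B ⟨p, inferInstance⟩).symm_apply_apply
      ⟨⟨P, ‹_›⟩, rfl⟩).1.asIdeal)
  have : P.LiesOver p := ⟨rfl⟩
  suffices Algebra.QuasiFiniteAt p.ResidueField Q from
    Algebra.QuasiFiniteAt.of_quasiFiniteAt_residueField p P Q hQ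
  let F := p.Fiber B
  let ι : B →ₐ[A] F := Algebra.TensorProduct.includeRight
  have hI : I.map (algebraMap A B) ≤ RingHom.ker ι.toRingHom := by
    rw [Ideal.map_le_iff_le_comap]
    intro i hi
    have hip : i ∈ p := hP (Ideal.mem_sup_left (Ideal.mem_map_of_mem _ hi))
    rw [Ideal.mem_comap, RingHom.mem_ker]
    show ι (algebraMap A B i) = 0
    rw [ι.commutes, IsScalarTower.algebraMap_apply A p.ResidueField F,
      Ideal.algebraMap_residueField_eq_zero.2 hip, map_zero]
  have hεQ : ι ε ∉ Q := by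
    intro h
    have h1 : ε ∈ P := hQ ▸ h
    have h2 : (1 : B) ∈ P := by
      simpa using Ideal.add_mem _ (hP (Ideal.mem_sup_right (Ideal.mem_span_singleton_self (1 - ε)))) h1
    exact (inferInstance : P.IsPrime).ne_top ((Ideal.eq_top_iff_one _).2 h2)
  have hidem : ι ε * (1 - ι ε) = 0 := by
    have h : ι (ε * ε - ε) = 0 := RingHom.mem_ker.1 (hI hε)
    rw [map_sub, map_mul] at h
    linear_combination -h
  let J : Ideal F := Ideal.span {1 - ι ε}
  -- the quotient is finite over the residue field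
  let φ : (B ⧸ (I.map (algebraMap A B) ⊔ Ideal.span {1 - ε})) →ₐ[A] F ⧸ J :=
    Ideal.Quotient.liftₐ _ ((Ideal.Quotient.mkₐ A J).comp ι) fun a ha => by
      obtain ⟨x, hx, y, hy, rfl⟩ := Submodule.mem_sup.1 ha
      obtain ⟨c, rfl⟩ := Ideal.mem_span_singleton.1 hy
      simp only [AlgHom.comp_apply, map_add, map_mul, map_sub, map_one]
      have h1 : (Ideal.Quotient.mkₐ A J) (ι ε) = 1 := by
        symm
        rw [← sub_eq_zero, ← map_one (Ideal.Quotient.mkₐ A J), ← map_sub]
        exact Ideal.Quotient.eq_zero_iff_mem.2 (Ideal.mem_span_singleton_self _)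
      rw [show ι x = 0 from RingHom.mem_ker.1 (hI hx), map_zero, zero_add, h1, sub_self]
      exact zero_mul (M₀ := F ⧸ J) _
  have : Module.Finite p.ResidueField (F ⧸ J) := by
    let ψ := φ.toLinearMap.liftBaseChange p.ResidueField
    refine Module.Finite.of_surjective ψ fun z => ?_
    obtain ⟨z, rfl⟩ := Ideal.Quotient.mk_surjective z
    induction z using TensorProduct.induction_on with
    | zero => exact ⟨0, by simp⟩
    | tmul a b =>
      refine ⟨a ⊗ₜ Ideal.Quotient.mk _ b, ?_⟩
      rw [LinearMap.liftBaseChange_tmul]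
      show a • Ideal.Quotient.mk J (ι b) = Ideal.Quotient.mk J (a ⊗ₜ[A] b)
      rw [show (a ⊗ₜ[A] b : F) = a • ι b by
        rw [Algebra.smul_def]
        show _ = (a ⊗ₜ[A] (1 : B)) * ((1 : p.ResidueField) ⊗ₜ[A] b)
        rw [Algebra.TensorProduct.tmul_mul_tmul, mul_one, one_mul]]
      rfl
    | add x y hx hy =>
      obtain ⟨x', hx⟩ := hx
      obtain ⟨y', hy⟩ := hy
      exact ⟨x' + y', by rw [map_add, hx, hy, map_add]⟩
  let L := Localization.AtPrime Q
  have hone : algebraMap F L (ι ε) = 1 := by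
    have hu : IsUnit (algebraMap F L (ι ε)) := IsLocalization.map_units L (⟨_, hεQ⟩ : Q.primeCompl)
    have h := congrArg (algebraMap F L) hidem
    rw [map_mul, map_sub, map_one, map_zero] at h
    exact (sub_eq_zero.1 (hu.mul_right_eq_zero.1 h)).symm
  let f : (F ⧸ J) →ₐ[p.ResidueField] L :=
    Ideal.Quotient.liftₐ J (IsScalarTower.toAlgHom p.ResidueField F L) fun a ha => by
      obtain ⟨c, rfl⟩ := Ideal.mem_span_singleton.1 ha
      simp [IsScalarTower.toAlgHom, hone]
  show Algebra.QuasiFinite p.ResidueField L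
  refine Algebra.QuasiFinite.of_forall_exists_mul_mem_range (S := F ⧸ J) (T := L) f fun x => ?_
  obtain ⟨x, ⟨s, hs⟩, rfl⟩ := IsLocalization.exists_mk'_eq Q.primeCompl x
  exact ⟨Ideal.Quotient.mk J s, IsLocalization.map_units L (⟨s, hs⟩ : Q.primeCompl),
    Ideal.Quotient.mk J x, (IsLocalization.mk'_spec L x (⟨s, hs⟩ : Q.primeCompl)).symm⟩

variable (A B) in
/-- Elements `t` of the integral closure `A'` with `A'_t = B_t`. -/
def zmtIdeal : Ideal (integralClosure A B) :=
  ⨅ x : B, Ideal.radical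
    { carrier := {b | (b : B) * x ∈ integralClosure A B}
      add_mem' := fun {a b} ha hb => by
        simp only [Set.mem_setOf_eq, Subalgebra.coe_add, add_mul] at *
        exact add_mem ha hb
      zero_mem' := by
        simp only [Set.mem_setOf_eq, ZeroMemClass.coe_zero, zero_mul]
        exact zero_mem _
      smul_mem' := fun c a ha => by
        simp only [Set.mem_setOf_eq, smul_eq_mul, Subalgebra.coe_mul, mul_assoc] at *
        exact mul_mem c.2 ha }

theorem mem_zmtIdeal {t : integralClosure A B} :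
    t ∈ zmtIdeal A B ↔ ∀ x : B, ∃ m : ℕ, (t : B) ^ m * x ∈ integralClosure A B := by
  simp only [zmtIdeal, Ideal.mem_iInf]
  exact forall_congr' fun x => exists_congr fun m => by
    show ((t ^ m : integralClosure A B) : B) * x ∈ integralClosure A B ↔ _
    rw [SubmonoidClass.coe_pow]

theorem exists_pow_mul_mem_map (I : Ideal A) {t : integralClosure A B} (ht : t ∈ zmtIdeal A B)
    {y : B} (hy : y ∈ I.map (algebraMap A B)) :
    ∃ (M : ℕ) (z : integralClosure A B), z ∈ I.map (algebraMap A (integralClosure A B)) ∧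
      (z : B) = (t : B) ^ M * y := by
  refine Submodule.span_induction ?_ ?_ ?_ ?_ hy
  · rintro _ ⟨i, hi, rfl⟩
    exact ⟨0, algebraMap A _ i, Ideal.mem_map_of_mem _ hi, by simp⟩
  · exact ⟨0, 0, zero_mem _, by simp⟩
  · rintro a b - - ⟨M, z, hz, hz'⟩ ⟨N, w, hw, hw'⟩
    refine ⟨M + N, t ^ N * z + t ^ M * w, add_mem (Ideal.mul_mem_left _ _ hz) (Ideal.mul_mem_left _ _ hw), ?_⟩
    simp only [Subalgebra.coe_add, Subalgebra.coe_mul, SubmonoidClass.coe_pow, hz', hw']
    ring
  · rintro c a - ⟨M, z, hz, hz'⟩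
    obtain ⟨m, hm⟩ := mem_zmtIdeal.1 ht c
    refine ⟨m + M, ⟨_, hm⟩ * z, Ideal.mul_mem_left _ _ hz, ?_⟩
    simp only [Subalgebra.coe_mul, hz', smul_eq_mul]
    ring

/-- `R_g → B_g` is bijective for an injective `R → B` with all `g^m b` in the image. -/
theorem bijective_algebraMap_away {R S : Type u} [CommRing R] [CommRing S] [Algebra R S] (g : R)
    (hinj : Function.Injective (algebraMap R S))
    (hsurj : ∀ b : S, ∃ (m : ℕ) (a : R), algebraMap R S a = algebraMap R S g ^ m * b) :
    Function.Bijective (algebraMap (Localization.Away g)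
      (Localization (Algebra.algebraMapSubmonoid S (Submonoid.powers g)))) := by
  let L := Localization.Away g
  let T := Localization (Algebra.algebraMapSubmonoid S (Submonoid.powers g))
  constructor
  · rw [injective_iff_map_eq_zero]
    intro x hx
    obtain ⟨a, ⟨_, n, rfl⟩, rfl⟩ := IsLocalization.exists_mk'_eq (Submonoid.powers g) x
    have h1 : algebraMap S T (algebraMap R S a) = 0 := by
      rw [← IsScalarTower.algebraMap_apply R S T, IsScalarTower.algebraMap_apply R L T,
        ← IsLocalization.mk'_spec L a (⟨g ^ n, n, rfl⟩ : Submonoid.powers g), map_mul, hx, zero_mul]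
    obtain ⟨⟨_, _, ⟨m, rfl⟩, rfl⟩, hm⟩ :=
      (IsLocalization.map_eq_zero_iff (Algebra.algebraMapSubmonoid S (Submonoid.powers g)) T _).1 h1
    exact (IsLocalization.mk'_eq_zero_iff ..).2
      ⟨⟨g ^ m, m, rfl⟩, hinj (by rw [map_mul, map_zero]; exact hm)⟩
  · intro y
    obtain ⟨b, ⟨_, _, ⟨k, rfl⟩, rfl⟩, rfl⟩ :=
      IsLocalization.exists_mk'_eq (Algebra.algebraMapSubmonoid S (Submonoid.powers g)) y
    obtain ⟨m, a, ha⟩ := hsurj b
    refine ⟨IsLocalization.mk' L a (⟨g ^ (m + k), m + k, rfl⟩ : Submonoid.powers g), ?_⟩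
    rw [IsLocalization.eq_mk'_iff_mul_eq]
    have hu : IsUnit (algebraMap R T (g ^ m)) := by
      rw [IsScalarTower.algebraMap_apply R L T]
      exact (IsLocalization.map_units L (⟨g ^ m, m, rfl⟩ : Submonoid.powers g)).map _
    refine hu.mul_left_injective ?_
    show algebraMap L T _ * algebraMap S T (algebraMap R S (g ^ k)) * algebraMap R T (g ^ m) =
      algebraMap S T b * algebraMap R T (g ^ m)
    rw [← IsScalarTower.algebraMap_apply R S T, mul_assoc, ← map_mul, ← pow_add, Nat.add_comm k m,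
      IsScalarTower.algebraMap_apply R L T (g ^ (m + k)), ← map_mul, IsLocalization.mk'_spec,
      ← IsScalarTower.algebraMap_apply R L T, IsScalarTower.algebraMap_apply R S T,
      IsScalarTower.algebraMap_apply R S T (g ^ m), ← map_mul, ha, map_pow, mul_comm b]

theorem exists_idempotent_lift_integralClosure (I : Ideal A) (e : B ⧸ Ideal.map (algebraMap A B) I)
    (he : IsIdempotentElem e)
    (hfin : Module.Finite (A ⧸ I) ((B ⧸ Ideal.map (algebraMap A B) I) ⧸ Ideal.span {1 - e})) :
    ∃ g : integralClosure A B,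
      IsIdempotentElem (Ideal.Quotient.mk (Ideal.map (algebraMap A (integralClosure A B)) I) g) ∧
      Ideal.Quotient.mk (Ideal.map (algebraMap A B) I) (g : B) = e ∧
      Function.Bijective (algebraMap (Localization.Away g)
        (Localization (Algebra.algebraMapSubmonoid B (Submonoid.powers g)))) := by
  let A' := integralClosure A B
  let IB := I.map (algebraMap A B)
  obtain ⟨ε, rfl⟩ := Ideal.Quotient.mk_surjective e
  have hε : ε * ε - ε ∈ IB := by
    rw [← Ideal.Quotient.eq_zero_iff_mem, map_sub, map_mul, he.eq, sub_self]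
  let W := IB ⊔ Ideal.span {1 - ε}
  have hW : Module.Finite A (B ⧸ W) := by
    have : Module.Finite A ((B ⧸ IB) ⧸ Ideal.span {1 - Ideal.Quotient.mk IB ε}) := Module.Finite.trans (A ⧸ I) _
    have hmap : (Ideal.span {1 - ε}).map (Ideal.Quotient.mkₐ A IB) = Ideal.span {1 - Ideal.Quotient.mk IB ε} := by
      rw [Ideal.map_span, Set.image_singleton]; simp
    exact Module.Finite.equiv ((Ideal.quotientEquivAlgOfEq A hmap.symm).trans
      (DoubleQuot.quotQuotEquivQuotSupₐ A IB (Ideal.span {1 - ε}))).toLinearEquiv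
  -- some element of `A'` near the finite factor
  obtain ⟨s, hs, hsW⟩ : ∃ s ∈ zmtIdeal A B, 1 - (s : B) ∈ W := by
    let ψ : A' →+* B ⧸ W := (Ideal.Quotient.mk W).comp A'.val.toRingHom
    have htop : zmtIdeal A B ⊔ RingHom.ker ψ = ⊤ := by
      by_contra hne
      obtain ⟨M, hM, hle⟩ := Ideal.exists_le_maximal _ hne
      let _ : Algebra A' (B ⧸ W) := ψ.toAlgebra
      have : Algebra.IsIntegral A' (B ⧸ W) := ⟨RingHom.IsIntegral.tower_top (algebraMap A A') ψ
        (show (algebraMap A (B ⧸ W)).IsIntegral from fun z => Algebra.IsIntegral.isIntegral z)⟩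
      obtain ⟨N, hN, hNM⟩ := Ideal.exists_ideal_over_maximal_of_isIntegral (S := B ⧸ W) M
        (le_sup_right.trans hle)
      let P := N.comap (Ideal.Quotient.mk W)
      have hWP : W ≤ P := fun a ha => by
        rw [Ideal.mem_comap, Ideal.Quotient.eq_zero_iff_mem.2 ha]; exact zero_mem _
      have := quasiFiniteAt_of_finite_factor I ε hε hW P hWP
      obtain ⟨r, hrP, hrint, hr⟩ := Algebra.zariskisMainProperty_iff.1
        (Algebra.ZariskisMainProperty.of_finiteType (R := A) P)
      refine hrP ?_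
      have h1 : (⟨r, hrint⟩ : A') ∈ M := hle (Ideal.mem_sup_left (mem_zmtIdeal.2 hr))
      rw [← hNM] at h1
      exact h1
    obtain ⟨t, ht, k, hk, htk⟩ := Submodule.mem_sup.1 ((Ideal.eq_top_iff_one _).1 htop)
    refine ⟨t, ht, ?_⟩
    have h1 : 1 - (t : B) = (k : B) := by
      have := congrArg (fun z : A' => (z : B)) htk
      simp only [Subalgebra.coe_add, Subalgebra.coe_one] at this
      linear_combination -this
    rw [h1]
    exact Ideal.Quotient.eq_zero_iff_mem.1 (RingHom.mem_ker.1 hk)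
  have hse : Ideal.Quotient.mk IB ((s : B) * ε) = Ideal.Quotient.mk IB ε := by
    obtain ⟨x, hx, y, hy, hxy⟩ := Submodule.mem_sup.1 hsW
    obtain ⟨c, rfl⟩ := Ideal.mem_span_singleton.1 hy
    rw [Ideal.Quotient.eq, show (s : B) * ε - ε = -(x * ε) + c * (ε * ε - ε) by
      linear_combination ε * hxy]
    exact add_mem (neg_mem (Ideal.mul_mem_right _ _ hx)) (Ideal.mul_mem_left _ _ hε)
  obtain ⟨N, hN⟩ := mem_zmtIdeal.1 hs ε
  let h : A' := s * ⟨_, hN⟩
  have hT : h ∈ zmtIdeal A B := Ideal.mul_mem_right _ _ hs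
  have hmk : Ideal.Quotient.mk IB (h : B) = Ideal.Quotient.mk IB ε := by
    have : ∀ j : ℕ, Ideal.Quotient.mk IB ((s : B) ^ j * ε) = Ideal.Quotient.mk IB ε := by
      intro j
      induction j with
      | zero => simp
      | succ j ih => rw [pow_succ, mul_assoc, map_mul, hse, ← map_mul, ih]
    rw [show (h : B) = (s : B) ^ (N + 1) * ε by simp [h, pow_succ]; ring]
    exact this _
  have hh : ((h * h - h : A') : B) ∈ IB := by
    rw [← Ideal.Quotient.eq_zero_iff_mem]
    simp only [Subalgebra.coe_sub, Subalgebra.coe_mul, map_sub, map_mul, hmk]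
    exact sub_eq_zero.2 he
  obtain ⟨M, z, hz, hz'⟩ := exists_pow_mul_mem_map I hT hh
  have hidem : h ^ M * (h * h - h) ∈ I.map (algebraMap A A') := by
    convert hz using 1
    exact Subtype.ext (by rw [hz']; simp)
  let π := Ideal.Quotient.mk (I.map (algebraMap A A'))
  have hstep : ∀ j, π h ^ (M + 1 + j) = π h ^ (M + 1) := by
    intro j
    induction j with
    | zero => rfl
    | succ j ih =>
      have h0 : π h ^ M * (π h * π h - π h) = 0 := by
        have := Ideal.Quotient.eq_zero_iff_mem.2 hidem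
        simpa [π] using this
      calc π h ^ (M + 1 + (j + 1)) = π h ^ (M + 1 + j) + π h ^ j * (π h ^ M * (π h * π h - π h)) := by ring
        _ = π h ^ (M + 1) := by rw [h0, mul_zero, add_zero, ih]
  refine ⟨h ^ (M + 1), ?_, ?_, ?_⟩
  · show π (h ^ (M + 1)) * π (h ^ (M + 1)) = π (h ^ (M + 1))
    rw [map_pow, ← pow_add, hstep]
  · rw [SubmonoidClass.coe_pow, map_pow, hmk, he.pow_succ_eq]
  · refine bijective_algebraMap_away _ Subtype.val_injective fun b => ?_
    obtain ⟨m, hm⟩ := mem_zmtIdeal.1 (Ideal.pow_mem_of_mem _ hT (M + 1) (Nat.succ_pos _)) b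
    exact ⟨m, ⟨_, hm⟩, rfl⟩

end Groth.Agent.CAlg5
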